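import Groth.Agent.CurvesC.Modif

/-!
# Nagata schemes: locality, finite type morphisms, normalization
-/

set_option autoImplicit false
universe u
open CategoryTheory CategoryTheory.Limits AlgebraicGeometry TopologicalSpace Opposite

namespace K375.NagSch

/-- Finiteness of the integral closure in a field is local on the base. -/
theorem finite_of_away {D : Type u} [CommRing D] [IsDomain D] {L : Type u} [Field L] [Algebra D L]
    (t : Finset D) (ht : Ideal.span (t : Set D) = ⊤)
    (h : ∀ g ∈ t, ∃ (B : Type u) (_ : CommRing B) (_ : Algebra D B) (_ : IsLocalization.Away g B) (_ : Algebra B L)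
      (_ : IsScalarTower D B L), Module.Finite B (integralClosure B L)) :
    Module.Finite D (integralClosure D L) := by
  classical
  -- a finite set of integral elements generating after inverting `g`
  have key : ∀ g : t, ∃ s : Finset (integralClosure D L), ∀ x : integralClosure D L, ∃ n : ℕ,
      g.1 ^ n • x ∈ Submodule.span D (s : Set (integralClosure D L)) := by
    rintro ⟨g, hg⟩
    obtain ⟨B, _, _, hloc, _, _, hfin⟩ := h g hg
    obtain ⟨S, hS⟩ := hfin.fg_top
    -- clear denominators
    have h1 : ∀ y : integralClosure B L, ∃ (n : ℕ) (c : integralClosure D L), (g ^ n) • (y : L) = c := by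
      intro y
      obtain ⟨⟨_, n, rfl⟩, hm⟩ := (IsIntegral.exists_multiple_integral_of_isLocalization
        (Submonoid.powers g) (y : L) y.2)
      exact ⟨n, ⟨_, hm⟩, rfl⟩
    choose n c hc using h1
    refine ⟨S.image c, fun x => ?_⟩
    have hx : IsIntegral B (x : L) := IsIntegral.tower_top x.2
    have h2 : (⟨x, hx⟩ : integralClosure B L) ∈ Submodule.span B (S : Set (integralClosure B L)) := by
      rw [hS]; trivial
    -- every element of the span
    have h3 : ∀ y ∈ Submodule.span B (S : Set (integralClosure B L)), ∃ (m : ℕ)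
        (z : integralClosure D L), z ∈ Submodule.span D ((S.image c : Finset _) : Set (integralClosure D L)) ∧
          (g ^ m) • (y : L) = z := by
      intro y hy
      induction hy using Submodule.span_induction with
      | mem y hy =>
        exact ⟨n y, c y, Submodule.subset_span (Finset.mem_coe.2 (Finset.mem_image_of_mem c hy)), hc y⟩
      | zero => exact ⟨0, 0, zero_mem _, by simp⟩
      | add y y' _ _ hy hy' =>
        obtain ⟨m, z, hz, hmz⟩ := hy
        obtain ⟨m', z', hz', hmz'⟩ := hy'
        refine ⟨m + m', g ^ m' • z + g ^ m • z', add_mem (Submodule.smul_mem _ _ hz) (Submodule.smul_mem _ _ hz'), ?_⟩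
        rw [Subalgebra.coe_add, Subalgebra.coe_add, Subalgebra.coe_smul, Subalgebra.coe_smul, ← hmz, ← hmz', smul_add,
          smul_smul, smul_smul, pow_add, mul_comm (g ^ m') (g ^ m)]
      | smul b y _ hy =>
        obtain ⟨m, z, hz, hmz⟩ := hy
        obtain ⟨⟨a, ⟨_, k, rfl⟩⟩, hk⟩ := IsLocalization.surj (M := Submonoid.powers g) (S := B) b
        refine ⟨k + m, a • z, Submodule.smul_mem _ _ hz, ?_⟩
        rw [Subalgebra.coe_smul, Subalgebra.coe_smul, ← hmz]
        have hk' : b * algebraMap D B (g ^ k) = algebraMap D B a := hk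
        have h4 : algebraMap D L (g ^ k) * algebraMap B L b = algebraMap D L a := by
          rw [IsScalarTower.algebraMap_apply D B L, IsScalarTower.algebraMap_apply D B L, ← map_mul, mul_comm, hk']
        rw [pow_add, Algebra.smul_def (g ^ k * g ^ m), Algebra.smul_def b, Algebra.smul_def a,
          Algebra.smul_def (g ^ m), ← h4, map_mul]
        ring
    obtain ⟨m, z, hz, hmz⟩ := h3 _ h2
    refine ⟨m, ?_⟩
    have : g ^ m • x = z := Subtype.ext hmz
    change g ^ m • x ∈ _
    rw [this]
    exact hz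
  choose s hs using key
  refine ⟨⟨t.attach.biUnion s, ?_⟩⟩
  rw [eq_top_iff]
  rintro x -
  refine Submodule.mem_of_span_eq_top_of_smul_pow_mem _ (t : Set D) ht _ (fun r => ?_)
  obtain ⟨n, hn⟩ := hs r x
  refine ⟨n, Submodule.span_mono ?_ hn⟩
  intro y hy
  exact Finset.mem_coe.2 (Finset.mem_biUnion.2 ⟨r, Finset.mem_attach _ _, hy⟩)

/-- The Nagata property is local on the spectrum. -/
theorem isNagata_of_span {R : Type u} [CommRing R] (t : Finset R) (ht : Ideal.span (t : Set R) = ⊤)
    (h : ∀ g ∈ t, ∃ (B : Type u) (_ : CommRing B) (_ : Algebra R B) (_ : IsLocalization.Away g B), CAlg.IsNagata B) :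
    CAlg.IsNagata R := by
  classical
  have hN : IsNoetherianRing R := by
    refine isNoetherianRing_of_away (S := t) ht fun g => ?_
    obtain ⟨B, _, _, _, hB⟩ := h g.1 g.2
    have := hB.1
    exact isNoetherianRing_of_ringEquiv B (IsLocalization.algEquiv (Submonoid.powers g.1) B
      (Localization.Away g.1)).toRingEquiv
  refine ⟨hN, fun p hp => ?_⟩
  intro L _ _ _ _ hL
  let π := Ideal.Quotient.mk p
  let t' : Finset (R ⧸ p) := (t.image π).filter (· ≠ 0)
  have ht' : Ideal.span (t' : Set (R ⧸ p)) = ⊤ := by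
    rw [Ideal.eq_top_iff_one]
    have h1 : (1 : R) ∈ Ideal.span (t : Set R) := by rw [ht]; trivial
    have h2 : ∀ x ∈ Ideal.span (t : Set R), π x ∈ Ideal.span (t' : Set (R ⧸ p)) := by
      intro x hx
      induction hx using Submodule.span_induction with
      | mem x hx =>
        by_cases h0 : π x = 0
        · rw [h0]; exact zero_mem _
        · exact Ideal.subset_span (Finset.mem_coe.2 (Finset.mem_filter.2 ⟨Finset.mem_image_of_mem _ hx, h0⟩))
      | zero => rw [map_zero]; exact zero_mem _
      | add x y _ _ hx hy => rw [map_add]; exact add_mem hx hy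
      | smul r x _ hx => rw [smul_eq_mul, map_mul]; exact Ideal.mul_mem_left _ _ hx
    simpa using h2 1 h1
  refine finite_of_away t' ht' fun g' hg' => ?_
  obtain ⟨hg1, hg0⟩ := Finset.mem_filter.1 hg'
  obtain ⟨g, hg, rfl⟩ := Finset.mem_image.1 hg1
  obtain ⟨B₀, _, _, _, hB₀⟩ := h g hg
  -- the localization of `R/p`
  let B := Localization.Away (π g)
  have hB : CAlg.IsNagata B := by
    let φ : R →+* B := (algebraMap (R ⧸ p) B).comp π
    have hφg : IsUnit (φ g) := IsLocalization.map_units B ⟨π g, Submonoid.mem_powers _⟩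
    let ψ : B₀ →+* B := IsLocalization.Away.lift g hφg
    refine Groth.Agent.Ega4B.NagBasic.isNagata_of_surjective ψ ?_ hB₀
    intro b
    obtain ⟨⟨a, ⟨_, k, rfl⟩⟩, hk⟩ := IsLocalization.surj (M := Submonoid.powers (π g)) (S := B) b
    obtain ⟨a, rfl⟩ := Ideal.Quotient.mk_surjective a
    obtain ⟨u, hu⟩ := (IsLocalization.map_units B₀ (⟨g ^ k, k, rfl⟩ : Submonoid.powers g) : IsUnit (algebraMap R B₀ (g ^ k)))
    refine ⟨algebraMap R B₀ a * ↑u⁻¹, ?_⟩
    have h5 : ψ (algebraMap R B₀ (g ^ k)) = algebraMap (R ⧸ p) B (π g ^ k) := by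
      rw [IsLocalization.Away.lift_eq, map_pow, map_pow]
      rfl
    have h6 : IsUnit (algebraMap (R ⧸ p) B (π g ^ k)) :=
      IsLocalization.map_units B (⟨π g ^ k, k, rfl⟩ : Submonoid.powers (π g))
    refine h6.mul_right_cancel ?_
    have hk' : b * algebraMap (R ⧸ p) B (π g ^ k) = algebraMap (R ⧸ p) B (π a) := hk
    rw [hk', ← h5, ← map_mul, mul_assoc, ← hu, Units.inv_mul, mul_one, IsLocalization.Away.lift_eq]
    rfl
  have hle : Submonoid.powers (π g) ≤ nonZeroDivisors (R ⧸ p) := powers_le_nonZeroDivisors_of_noZeroDivisors hg0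
  have hdomB : IsDomain B := IsLocalization.isDomain_localization hle
  let _ := IsLocalization.localizationAlgebraOfSubmonoidLe B (FractionRing (R ⧸ p)) (Submonoid.powers (π g))
    (nonZeroDivisors (R ⧸ p)) hle
  have hst := IsLocalization.localization_isScalarTower_of_submonoid_le B
    (FractionRing (R ⧸ p)) (Submonoid.powers (π g)) (nonZeroDivisors (R ⧸ p)) hle
  have : IsFractionRing B (FractionRing (R ⧸ p)) :=
    IsFractionRing.isFractionRing_of_isDomain_of_isLocalization (Submonoid.powers (π g)) _ _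
  let _ : Algebra B L := ((algebraMap (FractionRing (R ⧸ p)) L).comp (algebraMap B (FractionRing (R ⧸ p)))).toAlgebra
  have h7 : IsScalarTower B (FractionRing (R ⧸ p)) L := IsScalarTower.of_algebraMap_eq' rfl
  have h8 : IsScalarTower (R ⧸ p) B L := by
    refine IsScalarTower.of_algebraMap_eq fun x => ?_
    rw [IsScalarTower.algebraMap_apply (R ⧸ p) (FractionRing (R ⧸ p)) L,
      IsScalarTower.algebraMap_apply (R ⧸ p) B (FractionRing (R ⧸ p)),
      ← IsScalarTower.algebraMap_apply B (FractionRing (R ⧸ p)) L]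
  refine ⟨B, inferInstance, inferInstance, inferInstance, inferInstance, h8, ?_⟩
  exact Groth.Agent.Ega4B.NagBasic.n2For B (Groth.Agent.Ega4B.NagFinal.isN2_of_isNagata hB) (FractionRing (R ⧸ p)) L

/-- A scheme all of whose affine opens have Nagata coordinate rings. -/
def IsNag (X : Scheme.{u}) : Prop := ∀ U : X.affineOpens, CAlg.IsNagata Γ(X, U.1)

theorem isNag_of_cover {X : Scheme.{u}} (h : ∀ x : X, ∃ U : X.affineOpens, x ∈ U.1 ∧ CAlg.IsNagata Γ(X, U.1)) :
    IsNag X := by
  choose U hxU hU using h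
  intro V
  refine of_affine_open_cover (P := fun U => CAlg.IsNagata Γ(X, U.1)) U ?_ V ?_ ?_ hU
  · rw [eq_top_iff]
    intro x _
    exact Opens.mem_iSup.mpr ⟨x, hxU x⟩
  · intro U f hU
    let _ : Algebra Γ(X, U.1) Γ(X, X.basicOpen f) :=
      (X.presheaf.map (homOfLE (X.basicOpen_le f)).op).hom.toAlgebra
    have := U.2.isLocalization_basicOpen f
    exact Groth.Agent.Ega4B.NagBasic.isNagata_localization hU (Submonoid.powers f) Γ(X, X.basicOpen f)
  · intro U s hs h
    refine isNagata_of_span s hs fun f hf => ?_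
    let _ : Algebra Γ(X, U.1) Γ(X, X.basicOpen f) :=
      (X.presheaf.map (homOfLE (X.basicOpen_le f)).op).hom.toAlgebra
    exact ⟨Γ(X, X.basicOpen f), inferInstance, inferInstance, U.2.isLocalization_basicOpen f, h ⟨f, hf⟩⟩

theorem isNag_of_locallyOfFiniteType {X Y : Scheme.{u}} (f : Y ⟶ X) [LocallyOfFiniteType f] (hX : IsNag X) :
    IsNag Y := by
  refine isNag_of_cover fun y => ?_
  obtain ⟨_, ⟨V, hV, rfl⟩, hyV, -⟩ :=
    X.isBasis_affineOpens.exists_subset_of_mem_open (Set.mem_univ (f y)) isOpen_univ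
  obtain ⟨_, ⟨W, hW, rfl⟩, hyW, hWV⟩ :=
    Y.isBasis_affineOpens.exists_subset_of_mem_open (show y ∈ f ⁻¹ᵁ V from hyV) (f ⁻¹ᵁ V).2
  refine ⟨⟨W, hW⟩, hyW, ?_⟩
  have h1 := f.finiteType_appLE hV hW hWV
  algebraize [(f.appLE V W hWV).hom]
  exact Groth.Agent.S0566.result Γ(X, V) (hX ⟨V, hV⟩) Γ(Y, W)

theorem isNag_Spec {A : CommRingCat.{u}} (hA : CAlg.IsNagata A) : IsNag (Spec A) := by
  refine isNag_of_cover fun x => ⟨⟨⊤, isAffineOpen_top _⟩, trivial, ?_⟩
  exact Groth.Agent.Ega4B.NagBasic.isNagata_of_ringEquiv (Scheme.ΓSpecIso A).symm.commRingCatIsoToRingEquiv hA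

theorem IsNag.isLocallyNoetherian {X : Scheme.{u}} (h : IsNag X) : IsLocallyNoetherian X :=
  ⟨fun U => (h U).1⟩

/-- The normalization of an integral Nagata scheme is finite. -/
theorem isFinite_normalizationι (X : Scheme.{u}) [IsIntegral X] (hX : IsNag X)
    [QuasiCompact (X.fromSpecStalk (genericPoint X))] [QuasiSeparated (X.fromSpecStalk (genericPoint X))] :
    IsFinite (Curv2.normalizationι X) := by
  refine (isFinite_iff _).mpr ⟨?_, ?_⟩
  · change IsAffineHom (X.fromSpecStalk (genericPoint X)).fromNormalization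
    infer_instance
  · intro V hV
    change ((X.fromSpecStalk (genericPoint X)).fromNormalization.app V).hom.Finite
    rw [Scheme.Hom.fromNormalization_app _ hV, CommRingCat.hom_comp]
    refine RingHom.Finite.comp (RingHom.Finite.of_surjective _
      (ConcreteCategory.bijective_of_isIso ((X.fromSpecStalk (genericPoint X)).normalizationObjIso hV).inv).2) ?_
    by_cases hη : genericPoint X ∈ V
    · have hneV : Nonempty V := ⟨⟨_, hη⟩⟩
      let algK : Algebra Γ(X, V) Γ(Spec (X.presheaf.stalk (genericPoint X)),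
        (X.fromSpecStalk (genericPoint X)) ⁻¹ᵁ V) := ((X.fromSpecStalk (genericPoint X)).app V).hom.toAlgebra
      have h1 := Groth.Agent.CurvesC.NormNagata.isFractionRing X V hV hη
      exact RingHom.finite_algebraMap.mpr
        (Groth.Agent.CurvesC.AnUnram.finite_integralClosure_of_isNagata Γ(X, V) (hX ⟨V, hV⟩)
          (nonZeroDivisors Γ(X, V)) le_rfl _)
    · have hV0 : V = ⊥ := by
        rw [← TopologicalSpace.Opens.not_nonempty_iff_eq_bot]
        rintro ⟨x, hx⟩
        exact hη (((genericPoint_spec X).specializes (Set.mem_univ x)).mem_open V.2 hx)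
      subst hV0
      have h1 : Subsingleton Γ(X, ⊥) := inferInstance
      exact Groth.Agent.CurvesC.NormNagata.finite_of_subsingleton _

end K375.NagSch
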