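import Groth.Agent.Resolve.K375.NormSt
import Groth.Agent.CalgA.NagAss

/-!
# The normalization of an integral Nagata scheme is a modification
-/

set_option autoImplicit false
universe u

open CategoryTheory CategoryTheory.Limits AlgebraicGeometry IsLocalRing

namespace Groth.Agent.Resolve.K375.NagNorm

open Tower GChain Geo CurvesC.Modif NormSt _root_.K375.NagSch

theorem isModif_normalizationι (X : Scheme.{u}) [IsIntegral X] (hX : IsNag X)
    [QuasiCompact (X.fromSpecStalk (genericPoint X))] [QuasiSeparated (X.fromSpecStalk (genericPoint X))] :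
    IsModif (Curv2.normalizationι X) := by
  have hfin := isFinite_normalizationι X hX
  obtain ⟨hint, -, -, -⟩ := Groth.Agent.S2351.result X
  refine ⟨inferInstance, hint, ?_⟩
  obtain ⟨U, hU, hηU, -⟩ := exists_isAffineOpen_mem_and_subset (X := X) (x := genericPoint X) (U := ⊤) trivial
  have hne : Nonempty U := ⟨⟨_, hηU⟩⟩
  have hN := hX ⟨U, hU⟩
  have h1 : CAlg.IsN1 Γ(X, U) :=
    Groth.Agent.CurvesC.AnUnram.finite_integralClosure_of_isNagata Γ(X, U) hN
      (nonZeroDivisors Γ(X, U)) le_rfl (FractionRing Γ(X, U))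
  obtain ⟨g, hg0, hg⟩ := CalgA.NagAss.exists_isIntegrallyClosed_away h1
  have hloc : IsLocalization.Away g Γ(X, X.basicOpen g) := hU.isLocalization_basicOpen g
  have hic : IsIntegrallyClosed Γ(X, X.basicOpen g) :=
    IsIntegrallyClosed.of_equiv (IsLocalization.algEquiv (Submonoid.powers g) (Localization.Away g)
      Γ(X, X.basicOpen g)).toRingEquiv
  have hη : genericPoint X ∈ X.basicOpen g := by
    refine ((genericPoint_spec X).mem_open_set_iff (X.basicOpen g).isOpen).mpr ?_
    have h2 : (X.basicOpen g : Set X).Nonempty := by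
      by_contra hcon
      have h3 : X.basicOpen g = ⊥ := TopologicalSpace.Opens.not_nonempty_iff_eq_bot _ |>.1 hcon
      exact hg0 ((basicOpen_eq_bot_iff g).1 h3)
    simpa using h2
  exact ⟨X.basicOpen g, ⟨_, hη⟩, CurvesC.NormNagata.isIso_normalizationι_restrict X _ (hU.basicOpen g) hη hic⟩

end Groth.Agent.Resolve.K375.NagNorm
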