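import Groth.Agent.Resolve.K375.NormSt

/-!
# Normalized blow-ups dominate proper birational morphisms to surfaces
-/

set_option autoImplicit false
universe u

open CategoryTheory CategoryTheory.Limits AlgebraicGeometry IsLocalRing

namespace Groth.Agent.Resolve.K375.DomMain

open Tower GChain Geo CurvesC.Modif NormSt HomGlue

theorem valuationRing_of_normal (R : Type u) [CommRing R] [IsDomain R] [IsLocalRing R] [IsNoetherianRing R]
    [IsIntegrallyClosed R] (h : ringKrullDim R ≤ 1) : ValuationRing R := by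
  have h1 : Ring.KrullDimLE 1 R := (Ring.krullDimLE_iff).2 (by exact_mod_cast h)
  have h2 : IsIntegrallyClosed R ∧ ∀ P : Ideal R, P ≠ ⊥ → P.IsPrime → P = maximalIdeal R :=
    ⟨inferInstance, fun P hP hPp => eq_maximalIdeal (hPp.isMaximal_of_ne_bot hP)⟩
  exact ((tfae_of_isNoetherianRing_of_isLocalRing_of_isDomain R).out 3 1).1 h2

theorem two_le_of_not {d : WithBot ℕ∞} (h : ¬ d ≤ 1) : (2 : WithBot ℕ∞) ≤ d := by
  rw [not_le] at h
  induction d using WithBot.recBotCoe with
  | bot => exact absurd h (by simp)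
  | coe d =>
    have h1 : (1 : ℕ∞) < d := by exact_mod_cast h
    have h2 : (1 : ℕ∞) + 1 ≤ d := Order.add_one_le_of_lt h1
    rw [one_add_one_eq_two] at h2
    exact WithBot.coe_le_coe.2 h2

/-- In a normal scheme of dimension at most two, the points at which a property holding at valuation rings fails are
of dimension two. -/
theorem two_le_of_bad {S Z : Scheme.{u}} {r : Z ⟶ S} (h : ClN r) (z : Z)
    (hz : ∀ _ : IsDomain (Z.presheaf.stalk z), ¬ ValuationRing (Z.presheaf.stalk z)) :
    (2 : WithBot ℕ∞) ≤ ringKrullDim (Z.presheaf.stalk z) := by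
  apply two_le_of_not
  intro h1
  have := h.modif.integral
  have := h.noeth
  have := (h.normal z).2
  exact hz inferInstance (valuationRing_of_normal _ h1)

section

variable {X Y : Scheme.{u}} [IsIntegral X] (f : Y ⟶ X) [IsProper f] (V : X.Opens) (hVne : (V : Set X).Nonempty)
  (hV : IsIso (f ∣_ V))

include hVne in
lemma gen_mem {Z : Scheme.{u}} {r : Z ⟶ X} (h : ClN r) : haveI := h.modif.integral; r (genericPoint Z) ∈ V := by
  have := h.modif.integral
  rw [gen_of_isModif h.modif]
  exact ((genericPoint_spec X).mem_open_set_iff V.isOpen).mpr (by simpa using hVne)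

include hVne hV in
lemma good_of_val {Z : Scheme.{u}} {r : Z ⟶ X} (h : ClN r) (z : Z) (_ : IsDomain (Z.presheaf.stalk z))
    (hz : ValuationRing (Z.presheaf.stalk z)) : Good f r z := by
  have := h.modif.integral
  exact good_of_valuationRing f V hV r (gen_mem V hVne h) z hz

/-- The system of the induction. -/
def sys (hVne : (V : Set X).Nonempty) (hV : IsIso (f ∣_ V)) : Sys X where
  C := fun {Z} r => ClN (Z := Z) r
  St := NSt
  Bad P := ¬ ∃ l : Spec (CommRingCat.of P.A) ⟶ Y, l ≫ f = P.a
  bad_iso := by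
    rintro P Q ⟨e, he⟩ hP ⟨l, hl⟩
    apply hP
    refine ⟨Spec.map (CommRingCat.ofHom (e.symm : Q.A →+* P.A)) ≫ l, ?_⟩
    rw [Category.assoc, hl, ← he, ← Category.assoc, ← Spec.map_comp]
    have : CommRingCat.ofHom (e : P.A →+* Q.A) ≫ CommRingCat.ofHom (e.symm : Q.A →+* P.A) = 𝟙 _ := by
      ext a; exact e.symm_apply_apply a
    rw [this, Spec.map_id, Category.id_comp]
  fin := by
    intro Z r h
    have := h.modif.integral
    have := h.noeth
    refine finite_of_dim 2 h.dim (T := {z | ¬ Good f r z}) ?_ ?_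
    · exact (isOpen_good f r).isClosed_compl
    · intro z hz
      exact two_le_of_bad h z fun hd hv => hz (good_of_val f V hVne hV h z hd hv)
  ex := by
    intro Z r z h hz
    have := h.modif.integral
    have := h.noeth
    have hz' : ¬ Good f r z := hz
    have h2 := two_le_of_bad h z fun hd hv => hz' (good_of_val f V hVne hV h z hd hv)
    have hcl := isClosed_of_dim 2 h.dim z h2
    have hne : z ≠ genericPoint Z := by
      rintro rfl
      apply hz'
      have hv : ValuationRing Z.functionField := inferInstance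
      exact good_of_val f V hVne hV h _ inferInstance hv
    obtain ⟨Y', b, hb⟩ := exists_nst h z hcl hne
    exact ⟨Y', b, hb, h.step hb hne⟩
  off _ _ _ h hb := hb.off h

omit [IsIntegral X] in
/-- A chain of germs of normalized blow-ups starting in dimension two has normal domains as rings and birational
local homomorphisms with principal maximal ideals. -/
theorem chain_props (D : Sys X) (hC : ∀ {Z : Scheme.{u}} (r : Z ⟶ X), D.C r → ClN r)
    (hSt : ∀ (Y Z : Scheme.{u}) (b : Y ⟶ Z) (z : Z), D.St Y Z b z → NSt Y Z b z)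
    (hgen : ∀ {Z : Scheme.{u}} (r : Z ⟶ X) (h : ClN r), haveI := h.modif.integral; ¬ D.Bad (Germ.of r (genericPoint Z)))
    (P : ℕ → Germ X) (hrel : ∀ n, D.Rel (P (n + 1)) (P n)) {Z : Scheme.{u}}
    (r : Z ⟶ X) (hr : ClN r) (z : Z) (h0 : P 0 = Germ.of r z) :
    (∀ n, IsDomain (P n).A) ∧ (∀ n, IsIntegrallyClosed (P n).A) ∧ ∃ φ : ∀ n, (P n).A →+* (P (n + 1)).A,
      (∀ n, PStep (φ n)) ∧ ∀ n, Spec.map (CommRingCat.ofHom (φ n)) ≫ (P n).a = (P (n + 1)).a := by
  have hPn : ∀ n, ∃ (W : Scheme.{u}) (q : W ⟶ X) (w : W), ClN q ∧ P n = Germ.of q w := by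
    intro n
    rcases n with _ | n
    · exact ⟨Z, r, z, hr, h0⟩
    · obtain ⟨W, Y, q, b, y, -, h2, -, -, h5, -⟩ := hrel n
      exact ⟨Y, b ≫ q, y, hC _ h2, h5.symm⟩
  have hstep : ∀ n, ∃ φ : (P n).A →+* (P (n + 1)).A, PStep φ ∧
      Spec.map (CommRingCat.ofHom φ) ≫ (P n).a = (P (n + 1)).a := by
    intro n
    have key : ∀ P P' : Germ X, D.Rel P' P → ∃ φ : P.A →+* P'.A, PStep φ ∧
        Spec.map (CommRingCat.ofHom φ) ≫ P.a = P'.a := by
      rintro P P' ⟨Z, Y, r, b, y, hC1, hC1', hst, hiso, rfl, hbad, hbad'⟩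
      have hC0 : ClN r := hC _ hC1
      have := hC0.modif.integral
      have hne : b y ≠ genericPoint Z := by
        intro h
        have hb2 := D.bad_iso hiso.symm hbad
        rw [h] at hb2
        exact hgen r hC0 hb2
      obtain ⟨e, he⟩ := exists_hom r b y hiso
      exact ⟨(b.stalkMap y).hom.comp (e : P.A →+* Z.presheaf.stalk (b y)),
        pstep_comp_equiv ((hSt _ _ _ _ hst).pstep hC0 hne) e, he⟩
    exact key _ _ (hrel n)
  choose φ h1 h2 using hstep
  refine ⟨fun n => ?_, fun n => ?_, φ, h1, h2⟩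
  · obtain ⟨W, q, w, hq, hw⟩ := hPn n
    rw [hw]
    exact (hq.normal w).1
  · obtain ⟨W, q, w, hq, hw⟩ := hPn n
    rw [hw]
    exact (hq.normal w).2

/-- **Domination**: the main induction. -/
theorem exists_seq (hVne : (V : Set X).Nonempty) (hV : IsIso (f ∣_ V)) {X₀ : Scheme.{u}} (ν : X₀ ⟶ X) (hν : ClN ν) :
    ∃ (Z : Scheme.{u}) (g : Z ⟶ X₀), Seq NSt g ∧ ClN (g ≫ ν) ∧ ∃ h : Z ⟶ Y, h ≫ f = g ≫ ν := by
  have hgenb : ∀ {Z : Scheme.{u}} (r : Z ⟶ X) (h : ClN r), haveI := h.modif.integral;
      ¬ (sys f V hVne hV).Bad (Germ.of r (genericPoint Z)) := by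
    intro Z r h
    have := h.modif.integral
    intro hb
    have hv : ValuationRing Z.functionField := inferInstance
    exact hb (good_of_val f V hVne hV h _ inferInstance hv)
  obtain ⟨Z, g, hs, hC, hgood⟩ := (sys f V hVne hV).exists_seq ν hν (by
    intro z hz P hP0 hrel
    obtain ⟨hd, hic, φ, hφ, hφS⟩ := chain_props (sys f V hVne hV) (fun r h => h) (fun _ _ _ _ h => h) hgenb P hrel ν
      hν z hP0
    have := hν.modif.integral
    have := hν.noeth
    have hne : z ≠ genericPoint X₀ := by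
      rintro rfl
      exact hgenb ν hν hz
    obtain ⟨K, _, _, _, k, hk⟩ := CurveSeq.exists_generic_lift f V hVne hV ν (gen_of_isModif hν.modif) z (P 0) hP0
    have i1 : IsNoetherianRing (P 0).A := by
      rw [hP0]; exact inferInstanceAs (IsNoetherianRing (X₀.presheaf.stalk z))
    have i2 : ringKrullDim (P 0).A ≤ 2 := by
      rw [hP0]; exact hν.dim z
    have i3 : ¬ IsField (P 0).A := by
      rw [hP0]
      exact not_isField_stalk hne
    obtain ⟨n, ψ, l, -, hl, -⟩ := exists_lift_dim_two f P hd φ hφS hφ hic i2 i3 k hk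
    have hbad : (sys f V hVne hV).Bad (P n) := by
      obtain ⟨_, _, _, _, _, _, _, _, _, _, h, _⟩ := hrel n
      exact h
    exact hbad ⟨l, hl⟩)
  have hC' : ClN (g ≫ ν) := hC
  have := hC'.modif.integral
  refine ⟨Z, g, hs, hC', exists_hom_of_forall f V hV (g ≫ ν) (gen_mem V hVne hC') fun z => ?_⟩
  by_contra h
  exact hgood z h

end

end Groth.Agent.Resolve.K375.DomMain
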