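import Groth.Agent.Resolve.K375.GChain
import Groth.Agent.CurvesC.Modif
import Groth.Agent.CurvesC.SpreadIso
import Groth.Agent.Sga7.H558.QuadBlow
import Groth.Agent.Models.RMBlow
import Groth.Agent.Dix.ExcFactor

/-!
# Geometry of (point) modifications of integral schemes
-/

set_option autoImplicit false
universe u

open CategoryTheory CategoryTheory.Limits AlgebraicGeometry IsLocalRing

namespace Groth.Agent.Resolve.K375.Geo

open Tower GChain

/-! ### birational morphisms -/

theorem exists_fraction {Q : Scheme.{u}} [IsIntegral Q] (z y : Q) (hz : z = genericPoint Q) (h : z ⤳ y)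
    (l : Q.presheaf.stalk z) : ∃ s t : Q.presheaf.stalk y, s ≠ 0 ∧
      Q.presheaf.stalkSpecializes h s * l = Q.presheaf.stalkSpecializes h t := by
  subst hz
  let _ : Field (Q.presheaf.stalk (genericPoint Q)) := inferInstanceAs (Field Q.functionField)
  let _ : Algebra (Q.presheaf.stalk y) (Q.presheaf.stalk (genericPoint Q)) :=
    (Q.presheaf.stalkSpecializes h).hom.toAlgebra
  have hfr : IsFractionRing (Q.presheaf.stalk y) (Q.presheaf.stalk (genericPoint Q)) :=
    inferInstanceAs (IsFractionRing (Q.presheaf.stalk y) Q.functionField)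
  obtain ⟨⟨t, s⟩, hst⟩ := IsLocalization.surj (nonZeroDivisors (Q.presheaf.stalk y)) l
  exact ⟨s, t, nonZeroDivisors.ne_zero s.2, (mul_comm _ _).trans hst⟩

theorem injective_stalkSpecializes {Q : Scheme.{u}} [IsIntegral Q] (z y : Q) (h : z ⤳ y) :
    Function.Injective (Q.presheaf.stalkSpecializes h) := by
  have h1 : genericPoint Q ⤳ z := genericPoint_specializes z
  have h2 : Function.Injective (Q.presheaf.stalkSpecializes (h1.trans h)) :=
    FaithfulSMul.algebraMap_injective (Q.presheaf.stalk y) Q.functionField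
  have h3 : Q.presheaf.stalkSpecializes (h1.trans h) =
      Q.presheaf.stalkSpecializes h ≫ Q.presheaf.stalkSpecializes h1 := by
    rw [TopCat.Presheaf.stalkSpecializes_comp]
  rw [h3] at h2
  exact Function.Injective.of_comp h2

/-- The stalk maps of a birational morphism are birational. -/
theorem bir_stalkMap {X Y : Scheme.{u}} [IsIntegral X] [IsIntegral Y] (f : X ⟶ Y)
    (hgen : f (genericPoint X) = genericPoint Y) (hbir : IsIso (f.stalkMap (genericPoint X))) (x : X) :
    Bir (f.stalkMap x).hom := by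
  have hsp : genericPoint X ⤳ x := genericPoint_specializes x
  have hsp' : f (genericPoint X) ⤳ f x := hsp.map f.continuous
  have hcomm : ∀ a, X.presheaf.stalkSpecializes hsp (f.stalkMap x a) =
      f.stalkMap (genericPoint X) (Y.presheaf.stalkSpecializes hsp' a) := by
    intro a
    have := f.stalkSpecializes_stalkMap (genericPoint X) x hsp
    exact (ConcreteCategory.congr_hom this a).symm
  have hinjX := injective_stalkSpecializes _ _ hsp
  have hinjY := injective_stalkSpecializes _ _ hsp'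
  have hb : Function.Bijective (f.stalkMap (genericPoint X)).hom :=
    ConcreteCategory.bijective_of_isIso (f.stalkMap (genericPoint X))
  have hinj : Function.Injective (f.stalkMap x).hom := by
    intro a b hab
    have h1 := congrArg (X.presheaf.stalkSpecializes hsp) hab
    erw [hcomm, hcomm] at h1
    exact hinjY (hb.1 h1)
  refine ⟨hinj, fun b => ?_⟩
  obtain ⟨l, hl⟩ := hb.2 (X.presheaf.stalkSpecializes hsp b)
  obtain ⟨s, t, hs, hst⟩ := exists_fraction _ _ hgen hsp' l
  refine ⟨s, t, fun h => hs (hinj (h.trans (map_zero _).symm)), hinjX ?_⟩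
  rw [map_mul]
  erw [hcomm, hcomm]
  rw [← hst, map_mul]
  congr 1
  exact hl.symm

theorem gen_of_isModif {X Y : Scheme.{u}} [IsIntegral Y] {f : X ⟶ Y} (hf : CurvesC.Modif.IsModif f)
    [IsIntegral X] : f (genericPoint X) = genericPoint Y := by
  have := hf.surjective
  obtain ⟨x, hx⟩ := f.surjective (genericPoint Y)
  have h1 : f (genericPoint X) ⤳ genericPoint Y := by
    rw [← hx]
    exact (genericPoint_specializes x).map f.continuous
  exact (h1.antisymm (genericPoint_specializes _)).eq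

theorem isBir_of_isModif {X Y : Scheme.{u}} [IsIntegral Y] {f : X ⟶ Y} (hf : CurvesC.Modif.IsModif f)
    [IsIntegral X] : CurvesC.SpreadIso.IsBir f := by
  refine ⟨gen_of_isModif hf, ?_⟩
  obtain ⟨U, hU, hfU⟩ := hf.exists_isIso
  refine Dix.BirIso.isIso_stalkMap f U hfU _ ?_
  rw [gen_of_isModif hf]
  exact ((genericPoint_spec Y).mem_open_set_iff U.isOpen).mpr (by simpa using hU)

/-! ### dimension and finiteness -/

/-- Closed sets without specializations are finite. -/
theorem finite_of_forall {X : Type u} [TopologicalSpace X] [TopologicalSpace.NoetherianSpace X] [QuasiSober X]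
    {T : Set X} (hT : IsClosed T) (h : ∀ x ∈ T, ∀ y ∈ T, x ⤳ y → x = y) : T.Finite := by
  obtain ⟨S, hSf, hSc, hSi, hS⟩ := TopologicalSpace.NoetherianSpace.exists_finite_set_isClosed_irreducible hT
  have hg : ∀ t ∈ S, ∃ ζ, IsGenericPoint ζ t := fun t ht => QuasiSober.sober (hSi t ht) (hSc t ht)
  rcases Set.eq_empty_or_nonempty T with h0 | ⟨x0, -⟩
  · rw [h0]; exact Set.finite_empty
  have : Nonempty X := ⟨x0⟩
  choose! g hg using hg
  refine (hSf.image g).subset ?_
  intro x hx
  rw [hS] at hx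
  obtain ⟨t, ht, hxt⟩ := hx
  refine ⟨t, ht, h _ ?_ x ?_ ((hg t ht).specializes hxt)⟩
  · rw [hS]; exact ⟨t, ht, (hg t ht).mem⟩
  · rw [hS]; exact ⟨t, ht, hxt⟩

lemma coheight_add_one_le {X : Scheme.{u}} {x y : X} (h : x ⤳ y) (hne : x ≠ y) :
    Order.coheight x + 1 ≤ Order.coheight y :=
  Order.coheight_add_one_le ⟨h, fun h' => hne (h.antisymm h').eq⟩

lemma ringKrullDim_add_one_le {X : Scheme.{u}} {x y : X} (h : x ⤳ y) (hne : x ≠ y) :
    ringKrullDim (X.presheaf.stalk x) + 1 ≤ ringKrullDim (X.presheaf.stalk y) := by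
  rw [ringKrullDim_stalk_eq_coheight, ringKrullDim_stalk_eq_coheight]
  exact_mod_cast coheight_add_one_le h hne

/-- Points other than the generic point have local rings of positive dimension. -/
lemma one_le_ringKrullDim {X : Scheme.{u}} [IsIntegral X] {x : X} (hne : x ≠ genericPoint X) :
    1 ≤ ringKrullDim (X.presheaf.stalk x) := by
  have h := ringKrullDim_add_one_le (genericPoint_specializes x) hne.symm
  refine le_trans ?_ h
  rw [ringKrullDim_stalk_eq_coheight]
  have h1 : (1 : ℕ∞) ≤ Order.coheight (genericPoint X) + 1 := le_add_self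
  exact_mod_cast h1

lemma not_isField_stalk {X : Scheme.{u}} [IsIntegral X] {x : X} (hne : x ≠ genericPoint X) :
    ¬ IsField (X.presheaf.stalk x) := by
  intro h
  have h1 := one_le_ringKrullDim hne
  have h2 := ringKrullDim_eq_zero_of_isField h
  rw [h2] at h1
  exact absurd h1 (by decide)

/-- A closed set with generic point of codimension `≥ n` in a Noetherian scheme of dimension `≤ n` is finite. -/
theorem finite_of_dim {X : Scheme.{u}} [IsNoetherian X] (n : ℕ) (hX : ∀ x : X, ringKrullDim (X.presheaf.stalk x) ≤ n)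
    {T : Set X} (hT : IsClosed T) (h : ∀ x ∈ T, (n : WithBot ℕ∞) ≤ ringKrullDim (X.presheaf.stalk x)) : T.Finite := by
  refine finite_of_forall hT fun x hx y _ hxy => ?_
  by_contra hne
  have h1 := ringKrullDim_add_one_le hxy hne
  have h2 := h x hx
  have h3 := hX y
  have h4 : (n : WithBot ℕ∞) + 1 ≤ n := (add_le_add_left h2 1).trans (h1.trans h3)
  have h5 : n + 1 ≤ n := by exact_mod_cast h4
  omega

/-- Every element of a closed set as in `finite_of_dim` is closed. -/
theorem isClosed_of_dim {X : Scheme.{u}} (n : ℕ) (hX : ∀ x : X, ringKrullDim (X.presheaf.stalk x) ≤ n)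
    (x : X) (h : (n : WithBot ℕ∞) ≤ ringKrullDim (X.presheaf.stalk x)) : IsClosed ({x} : Set X) := by
  rw [← closure_eq_iff_isClosed]
  refine Set.Subset.antisymm (fun y hy => ?_) subset_closure
  by_contra hne
  have h1 := ringKrullDim_add_one_le (specializes_iff_mem_closure.mpr hy) (fun h => hne h.symm)
  have h3 := hX y
  have h4 : (n : WithBot ℕ∞) + 1 ≤ n := (add_le_add_left h 1).trans (h1.trans h3)
  have h5 : n + 1 ≤ n := by exact_mod_cast h4
  omega

/-! ### germs -/

lemma pstep_comp_equiv {A A' B : Type*} [CommRing A] [IsLocalRing A] [CommRing A'] [IsLocalRing A'] [CommRing B]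
    [IsLocalRing B] {φ : A →+* B} (h : PStep φ) (e : A' ≃+* A) : PStep (φ.comp (e : A' →+* A)) := by
  obtain ⟨⟨h1, h2⟩, hloc, x, hx, hdvd⟩ := h
  have hm : ∀ a, a ∈ maximalIdeal A' ↔ e a ∈ maximalIdeal A := by
    intro a
    rw [mem_maximalIdeal, mem_maximalIdeal, mem_nonunits_iff, mem_nonunits_iff, not_iff_not]
    exact (MulEquiv.isUnit_map e).symm
  refine ⟨⟨h1.comp e.injective, fun b => ?_⟩, ?_, e.symm x, ?_, ?_⟩
  · obtain ⟨s, t, hs, hst⟩ := h2 b
    refine ⟨e.symm s, e.symm t, ?_, ?_⟩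
    · change φ (e (e.symm s)) ≠ 0
      rwa [e.apply_symm_apply]
    · change φ (e (e.symm s)) * b = φ (e (e.symm t))
      rwa [e.apply_symm_apply, e.apply_symm_apply]
  · have : IsLocalHom (e : A' →+* A) := ⟨fun a ha => (MulEquiv.isUnit_map e).1 ha⟩
    exact RingHom.isLocalHom_comp _ _
  · rw [hm, e.apply_symm_apply]; exact hx
  · intro y hy
    change φ (e (e.symm x)) ∣ φ (e y)
    rw [e.apply_symm_apply]
    exact hdvd _ ((hm y).1 hy)

/-- The homomorphism of germs attached to a morphism, up to an isomorphism of the source. -/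
theorem exists_hom {Z Y S : Scheme.{u}} (r : Z ⟶ S) (b : Y ⟶ Z) (y : Y) {P : Germ S} (h : (Germ.of r (b y)).Iso P) :
    ∃ e : P.A ≃+* Z.presheaf.stalk (b y), Spec.map (CommRingCat.ofHom ((b.stalkMap y).hom.comp
      (e : P.A →+* Z.presheaf.stalk (b y)))) ≫ P.a = (Germ.of (b ≫ r) y).a := by
  obtain ⟨e, he⟩ : ∃ e : P.A ≃+* Z.presheaf.stalk (b y),
    Spec.map (CommRingCat.ofHom (e : P.A →+* Z.presheaf.stalk (b y))) ≫ P.a = Z.fromSpecStalk (b y) ≫ r := h.symm
  refine ⟨e, ?_⟩
  have h1 := Scheme.SpecMap_stalkMap_fromSpecStalk b (x := y)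
  change _ = Y.fromSpecStalk y ≫ b ≫ r
  rw [← Category.assoc (Y.fromSpecStalk y), ← h1, Category.assoc]
  rw [← he, ← Category.assoc]
  congr 1
  exact Spec.map_comp (CommRingCat.ofHom (e : P.A →+* Z.presheaf.stalk (b y))) (b.stalkMap y)

/-- A local birational homomorphism from a valuation ring is bijective. -/
theorem bijective_of_valuationRing {V B : Type*} [CommRing V] [IsDomain V] [ValuationRing V] [CommRing B] [IsDomain B]
    (q : V →+* B) (hq : Bir q) (hloc : IsLocalHom q) : Function.Bijective q := by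
  refine ⟨hq.1, fun b => ?_⟩
  obtain ⟨s, t, hs, hst⟩ := hq.2 b
  rcases ValuationRing.dvd_total s t with ⟨c, rfl⟩ | ⟨c, rfl⟩
  · refine ⟨c, mul_left_cancel₀ hs ?_⟩
    rw [hst, map_mul]
  · have ht : q t ≠ 0 := fun h => hs (by rw [map_mul, h, zero_mul])
    have h1 : q c * b = 1 := by
      apply mul_left_cancel₀ ht
      rw [← mul_assoc, ← map_mul, hst, mul_one]
    have h2 : IsUnit (q c) := IsUnit.of_mul_eq_one _ h1
    obtain ⟨u, rfl⟩ := hloc.map_nonunit c h2
    refine ⟨(u⁻¹ : Vˣ), ?_⟩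
    apply mul_left_cancel₀ h2.ne_zero
    rw [h1, ← map_mul, Units.mul_inv, map_one]

theorem valuationRing_of_regular (R : Type u) [CommRing R] [IsRegularLocalRing R] (h : ringKrullDim R ≤ 1) :
    ∃ _ : IsDomain R, ValuationRing R := by
  have hdom := CalgA.RegBasic.isDomain R
  refine ⟨hdom, ?_⟩
  have hn := IsRegularLocalRing.spanFinrank_maximalIdeal (R := R)
  have h1 : Module.finrank (ResidueField R) (CotangentSpace R) ≤ 1 := by
    rw [← IsLocalRing.spanFinrank_maximalIdeal_eq_finrank_cotangentSpace]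
    rw [← hn] at h
    exact_mod_cast h
  exact ((tfae_of_isNoetherianRing_of_isLocalRing_of_isDomain R).out 5 1).1 h1

/-! ### blowing up a closed point -/

open Groth.Agent.Dix.PointIdeal in
/-- `b` is the blow-up of the closed point `z`. -/
def PtSt (Y Z : Scheme.{u}) (b : Y ⟶ Z) (z : Z) : Prop :=
  ∃ hz : IsClosed ({z} : Set Z), BlowUp.IsBlowUp b (pt z hz)

theorem off_of_isIso {Y Z : Scheme.{u}} (b : Y ⟶ Z) (T : Set Z) (U : Z.Opens) (hU : IsIso (b ∣_ U))
    (hT : ∀ x, x ∉ T → x ∈ U) : Off T b where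
  bij := by
    intro x hx
    have hxU : x ∈ U := hT x hx
    obtain ⟨w, hw⟩ := (b ∣_ U).surjective ⟨x, hxU⟩
    have hw' : b w.1 = x := by
      have := congrArg Subtype.val hw
      rwa [morphismRestrict_base_coe] at this
    refine ⟨w.1, hw', ?_⟩
    intro v hv
    have hvU : b v ∈ U := by rw [hv]; exact hxU
    exact Dix.BirIso.inj b U hU v w.1 hvU (hv.trans hw'.symm)
  iso := fun y hy => Dix.BirIso.isIso_stalkMap b U hU y (hT _ hy)

open Groth.Agent.Dix.PointIdeal in
theorem isIso_compl {Y Z : Scheme.{u}} {b : Y ⟶ Z} {z : Z} (hz : IsClosed ({z} : Set Z))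
    (hb : BlowUp.IsBlowUp b (pt z hz)) : IsIso (b ∣_ (⟨{z}ᶜ, hz.isOpen_compl⟩ : Z.Opens)) := by
  apply Groth.Agent.Divis.BlowUpFormal.isIso_morphismRestrict_compl_support hb
  exact Set.disjoint_left.2 fun w hw hw' => hw ((mem_support_pt z hz w).1 hw')

theorem PtSt.off {Y Z : Scheme.{u}} {b : Y ⟶ Z} {z : Z} (h : PtSt Y Z b z) : Off {z} b := by
  obtain ⟨hz, hb⟩ := h
  exact off_of_isIso b {z} _ (isIso_compl hz hb) (fun x hx => hx)

theorem exists_ptSt {Z : Scheme.{u}} (z : Z) (hz : IsClosed ({z} : Set Z)) :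
    ∃ (Y : Scheme.{u}) (b : Y ⟶ Z), PtSt Y Z b z := by
  obtain ⟨Y, b, hb⟩ := Groth.Agent.Flat2C.BlowExist.exists_isBlowUp (Groth.Agent.Dix.PointIdeal.pt z hz)
  exact ⟨Y, b, hz, hb⟩

open Groth.Agent.Dix.PointIdeal in
theorem PtSt.isModif {Y Z : Scheme.{u}} [IsIntegral Z] [IsLocallyNoetherian Z] {b : Y ⟶ Z} {z : Z}
    (h : PtSt Y Z b z) (hne : z ≠ genericPoint Z) : CurvesC.Modif.IsModif b := by
  obtain ⟨hz, hb⟩ := h
  refine CurvesC.Modif.IsModif.of_isBlowUp ?_ (Models.RMBlow.isFiniteTypeIdeal _) hb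
  intro h0
  have h1 := (mem_support_pt z hz (genericPoint Z)).mp (by rw [h0]; trivial)
  exact hne h1.symm

/-- The stalk maps of the blow-up of a closed point of an integral scheme. -/
theorem PtSt.pstep {Y Z : Scheme.{u}} [IsIntegral Z] [IsLocallyNoetherian Z] {b : Y ⟶ Z} {y : Y}
    (h : PtSt Y Z b (b y)) (hne : b y ≠ genericPoint Z) : PStep (b.stalkMap y).hom := by
  have hm := h.isModif hne
  have := hm.integral
  have hbir := isBir_of_isModif hm
  obtain ⟨hz, hb⟩ := h
  obtain ⟨-, hloc, x, hx, hmx, -⟩ := Groth.Agent.Sga7.H558.QuadBlow.isQuad_stalkMap hb y rfl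
  refine ⟨bir_stalkMap b hbir.gen hbir.bir y, hloc, x, hx, fun w hw => ?_⟩
  rw [← Ideal.mem_span_singleton, ← hmx]
  exact Ideal.mem_map_of_mem _ hw

end Groth.Agent.Resolve.K375.Geo
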