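import Groth.Agent.Resolve.K375.CurveSeq
import Groth.Agent.CurvesB.DimPts
import Groth.Prelude.Def_ResolveSeq

/-!
# Sequences of point blow-ups
-/

set_option autoImplicit false
universe u

open CategoryTheory CategoryTheory.Limits AlgebraicGeometry IsLocalRing

namespace Groth.Agent.Resolve.K375.PtSeq

open Tower Geo CurvesC.Modif

theorem ringKrullDim_le (X : Scheme.{u}) (x : X) : ringKrullDim (X.presheaf.stalk x) ≤ topologicalKrullDim X := by
  rw [Groth.Agent.CurvesB.DimPts.krullDim_eq, ringKrullDim_stalk_eq_coheight]
  exact Order.coheight_le_krullDim x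

theorem nontrivial_of_dim {X : Scheme.{u}} [IsIntegral X] (h : 0 < topologicalKrullDim X) : Nontrivial X := by
  by_contra hc
  have h2 : Subsingleton X := not_nontrivial_iff_subsingleton.1 hc
  have h3 : DiscreteTopology X := inferInstance
  exact absurd (topologicalKrullDim_zero_of_discreteTopology X) (not_le.2 h)

/-- Properties of sequences of point blow-ups of integral schemes with at least two points. -/
theorem props {Y X : Scheme.{u}} {g : Y ⟶ X} (hg : Resolve.IsPtBlowupSeq g) :
    IsIntegral X → IsNoetherian X → Nontrivial X → IsModif g ∧ IsNoetherian Y := by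
  induction hg with
  | @iso Y X e =>
    intro h1 h2 _
    have : Nonempty Y := ⟨e.inv (Classical.arbitrary X)⟩
    have : IsIntegral Y := isIntegral_of_isOpenImmersion e.hom
    refine ⟨⟨inferInstance, inferInstance, ⊤, ⟨genericPoint X, trivial⟩, inferInstance⟩, ?_⟩
    have hln : IsLocallyNoetherian Y := LocallyOfFiniteType.isLocallyNoetherian e.hom
    have hcs : CompactSpace Y := QuasiCompact.compactSpace_of_compactSpace e.hom
    exact {}
  | @step Y Z X b r z hz hb hr ih =>
    intro h1 h2 h3
    obtain ⟨ih1, ih2⟩ := ih h1 h2 h3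
    have := ih1.integral
    have hne : z ≠ genericPoint Z := by
      rintro rfl
      have e1 : (Set.univ : Set Z) = {genericPoint Z} := by
        rw [← genericPoint_closure Z, hz.closure_eq]
      obtain ⟨x, y, hxy⟩ := h3
      obtain ⟨x', rfl⟩ := ih1.surjective.surj x
      obtain ⟨y', rfl⟩ := ih1.surjective.surj y
      have hx : x' ∈ (Set.univ : Set Z) := trivial
      have hy : y' ∈ (Set.univ : Set Z) := trivial
      rw [e1] at hx hy
      rw [Set.mem_singleton_iff.1 hx, Set.mem_singleton_iff.1 hy] at hxy
      exact hxy rfl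
    have hm : IsModif b := PtSt.isModif (⟨hz, hb⟩ : PtSt Y Z b z) hne
    refine ⟨hm.comp ih1, ?_⟩
    have := hm.proper
    have hln : IsLocallyNoetherian Y := LocallyOfFiniteType.isLocallyNoetherian b
    have hcs : CompactSpace Y := QuasiCompact.compactSpace_of_compactSpace b
    exact {}

theorem of_seq {Y X : Scheme.{u}} {g : Y ⟶ X} (hg : Seq PtSt g) : Resolve.IsPtBlowupSeq g := by
  induction hg with
  | id X => exact Resolve.IsPtBlowupSeq.iso (Iso.refl X)
  | step b z r hb hr ih =>
    obtain ⟨hz, hb⟩ := hb
    exact Resolve.IsPtBlowupSeq.step b r z hz hb ih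

end Groth.Agent.Resolve.K375.PtSeq
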