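import Groth.Agent.Resolve.K375.GChain

/-!
# Krull–Akizuki: birational extensions of one-dimensional rings
-/

set_option autoImplicit false
universe u

open IsLocalRing

namespace Groth.Agent.Resolve.K375.KA

open GChain

/-- A birational extension of a one-dimensional Noetherian domain is Noetherian of dimension at most one. -/
theorem of_bir {R A : Type u} [CommRing R] [IsDomain R] [IsNoetherianRing R] [Ring.KrullDimLE 1 R] [CommRing A]
    [IsDomain A] (φ : R →+* A) (hφ : Bir φ) : IsNoetherianRing A ∧ Ring.KrullDimLE 1 A := by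
  let K := FractionRing A
  let _ : Algebra R A := φ.toAlgebra
  have htow : IsScalarTower R A K := inferInstance
  have hRK : ∀ r, algebraMap R K r = algebraMap A K (φ r) := fun r => IsScalarTower.algebraMap_apply R A K r
  have hB : Function.Injective (algebraMap A K) := IsFractionRing.injective A K
  have hinj : Function.Injective (algebraMap R K) := fun x y h => by
    rw [hRK, hRK] at h
    exact hφ.1 (hB h)
  have hfs : FaithfulSMul R K := (faithfulSMul_iff_algebraMap_injective _ _).mpr hinj
  have hfr : IsFractionRing R K := by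
    refine IsFractionRing.of_field R K ?_
    intro z
    obtain ⟨b, c, hc, rfl⟩ := IsFractionRing.div_surjective (A := A) z
    have hc0 : c ≠ 0 := nonZeroDivisors.ne_zero hc
    obtain ⟨s, t, hs, hst⟩ := hφ.2 b
    obtain ⟨s1, t1, hs1, hst1⟩ := hφ.2 c
    have e1 : algebraMap R K s * algebraMap A K b = algebraMap R K t := by
      rw [hRK, hRK, ← map_mul, hst]
    have e2 : algebraMap R K s1 * algebraMap A K c = algebraMap R K t1 := by
      rw [hRK, hRK, ← map_mul, hst1]
    have h1 : algebraMap R K s ≠ 0 := fun h => hs (hB (((hRK s).symm.trans h).trans (map_zero _).symm))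
    have h2 : algebraMap R K s1 ≠ 0 := fun h => hs1 (hB (((hRK s1).symm.trans h).trans (map_zero _).symm))
    have h3 : algebraMap A K c ≠ 0 := fun h => hc0 (hB (h.trans (map_zero _).symm))
    refine ⟨t * s1, s * t1, ?_⟩
    rw [map_mul, map_mul, ← e1, ← e2]
    rw [eq_comm, div_eq_div_iff (mul_ne_zero h1 (mul_ne_zero h2 h3)) h3]
    ring
  refine ⟨Ega2.KrullAkizuki.isNoetherianRing R K K (A := A) hB, ?_⟩
  refine Ring.KrullDimLE.mk₁' fun P hP hPp => ?_
  obtain ⟨b, hbP, hb0⟩ := Submodule.exists_mem_ne_zero_of_ne_bot hP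
  obtain ⟨s, t, hs, hst⟩ := hφ.2 b
  have ht0 : t ≠ 0 := by
    rintro rfl
    rw [map_zero] at hst
    exact (mul_ne_zero hs hb0) hst
  have htP : φ t ∈ P := by rw [← hst]; exact P.mul_mem_left _ hbP
  have hfin := Ega2.KrullAkizuki.isFiniteLength_quotient (R := R) (K := K) (L := K) (A := A) hB t ht0
  have h1 : IsArtinian R (A ⧸ Ideal.span {algebraMap R A t}) := (isFiniteLength_iff_isNoetherian_isArtinian.1 hfin).2
  have hle : Ideal.span {algebraMap R A t} ≤ P := (Ideal.span_singleton_le_iff_mem _).2 htP
  let π : (A ⧸ Ideal.span {algebraMap R A t}) →ₐ[R] A ⧸ P := Ideal.Quotient.factorₐ R hle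
  have hπ : Function.Surjective π := Ideal.Quotient.factor_surjective hle
  have h2 : IsArtinian R (A ⧸ P) := isArtinian_of_surjective _ π.toLinearMap hπ
  have h3 : IsArtinian (A ⧸ P) (A ⧸ P) := isArtinian_of_tower R h2
  have h4 : IsArtinianRing (A ⧸ P) := h3
  exact Ideal.Quotient.maximal_of_isField _ (IsArtinianRing.isField_of_isDomain (A ⧸ P))

end Groth.Agent.Resolve.K375.KA
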