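import Groth.Agent.Resolve.K375.Geo
import Groth.Agent.Resolve.K375.KA
import Groth.Agent.CurvesC.SpreadGlue

/-!
# Resolution of one-dimensional schemes by blowing up closed points
-/

set_option autoImplicit false
universe u

open CategoryTheory CategoryTheory.Limits AlgebraicGeometry IsLocalRing

namespace Groth.Agent.Resolve.K375.CurveSeq

open Tower GChain Geo CurvesC.Modif

/-! ### generalities on modifications and germs -/

/-- Lifting a point with values in a field along a morphism which is an isomorphism near its image. -/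
theorem exists_lift_of_isIso {X Y T : Scheme.{u}} (g : X ⟶ Y) (V : Y.Opens) (hV : IsIso (g ∣_ V)) (h : T ⟶ Y)
    (hr : ∀ t, h t ∈ V) : ∃ k : T ⟶ X, k ≫ g = h := by
  have h1 : Set.range h ⊆ Set.range V.ι := by
    rintro _ ⟨t, rfl⟩
    rw [Scheme.Opens.range_ι]
    exact hr t
  refine ⟨IsOpenImmersion.lift V.ι h h1 ≫ inv (g ∣_ V) ≫ (g ⁻¹ᵁ V).ι, ?_⟩
  rw [Category.assoc, Category.assoc, ← morphismRestrict_ι, IsIso.inv_hom_id_assoc, IsOpenImmersion.lift_fac]

theorem exists_generic_lift {X Y Z : Scheme.{u}} [IsIntegral Y] [IsIntegral Z] (g : X ⟶ Y) (V : Y.Opens)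
    (hVne : (V : Set Y).Nonempty) (hV : IsIso (g ∣_ V)) (r : Z ⟶ Y) (hr : r (genericPoint Z) = genericPoint Y)
    (z : Z) (P : Germ Y) (hP : P = Germ.of r z) :
    ∃ (K : Type u) (_ : Field K) (_ : Algebra P.A K) (_ : IsFractionRing P.A K) (k : Spec (CommRingCat.of K) ⟶ X),
      k ≫ g = Spec.map (CommRingCat.ofHom (algebraMap P.A K)) ≫ P.a := by
  subst hP
  have hη : genericPoint Y ∈ V := ((genericPoint_spec Y).mem_open_set_iff V.isOpen).mpr (by simpa using hVne)
  have e : Spec.map (Z.presheaf.stalkSpecializes (genericPoint_specializes z)) ≫ Z.fromSpecStalk z =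
      Z.fromSpecStalk (genericPoint Z) := Scheme.SpecMap_stalkSpecializes_fromSpecStalk _
  obtain ⟨k, hk⟩ := exists_lift_of_isIso g V hV (Z.fromSpecStalk (genericPoint Z) ≫ r) (by
    intro t
    have h1 : Z.fromSpecStalk (genericPoint Z) t ⤳ genericPoint Z := by
      have h := Set.mem_range_self (f := Z.fromSpecStalk (genericPoint Z)) t
      rwa [Scheme.range_fromSpecStalk] at h
    have h2 : Z.fromSpecStalk (genericPoint Z) t = genericPoint Z :=
      (h1.antisymm (genericPoint_specializes _)).eq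
    rw [Scheme.Hom.comp_apply, h2, hr]
    exact hη)
  refine ⟨Z.functionField, inferInstance, (inferInstance : Algebra (Z.presheaf.stalk z) Z.functionField),
    (inferInstance : IsFractionRing (Z.presheaf.stalk z) Z.functionField), k, ?_⟩
  rw [hk]
  change _ = Spec.map (Z.presheaf.stalkSpecializes (genericPoint_specializes z)) ≫ Z.fromSpecStalk z ≫ r
  rw [← Category.assoc, e]

lemma bir_comp_iso {R S T : CommRingCat.{u}} (f : R ⟶ S) (g : S ⟶ T) [IsIso g] (h : Bir f.hom) : Bir (f ≫ g).hom := by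
  have hb : Function.Bijective g.hom := ConcreteCategory.bijective_of_isIso g
  refine ⟨hb.1.comp h.1, fun t => ?_⟩
  obtain ⟨b, rfl⟩ := hb.2 t
  obtain ⟨s, t, hs, hst⟩ := h.2 b
  refine ⟨s, t, fun h0 => hs (hb.1 (h0.trans (map_zero _).symm)), ?_⟩
  change g.hom (f.hom s) * g.hom b = g.hom (f.hom t)
  rw [← map_mul, hst]

/-- The local homomorphism attached to the germ of a birational morphism is birational. -/
theorem bir_of {Y Z : Scheme.{u}} [IsIntegral Y] [IsIntegral Z] (r : Z ⟶ Y)
    (hgen : r (genericPoint Z) = genericPoint Y) (hbir : IsIso (r.stalkMap (genericPoint Z))) (z : Z)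
    (P : Germ Y) (hP : P = Germ.of r z) : Bir (Scheme.stalkClosedPointTo P.a).hom := by
  subst hP
  have h1 := Scheme.stalkClosedPointTo_comp (Z.fromSpecStalk z) r
  have h2 : Scheme.stalkClosedPointTo (Z.fromSpecStalk z) =
      (Z.presheaf.stalkCongr (by rw [Scheme.fromSpecStalk_closedPoint]; rfl)).hom :=
    Scheme.stalkClosedPointTo_fromSpecStalk z
  have h3 : IsIso (Scheme.stalkClosedPointTo (Z.fromSpecStalk z)) := by rw [h2]; infer_instance
  have h4 := bir_comp_iso (r.stalkMap _) (Scheme.stalkClosedPointTo (Z.fromSpecStalk z))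
    (bir_stalkMap r hgen hbir _)
  rw [← h1] at h4
  exact h4

/-- A local scheme over `Y` which lifts to `X` is dominated birationally. -/
theorem bir_of_lift {X Y : Scheme.{u}} [IsIntegral X] [IsIntegral Y] (g : X ⟶ Y)
    (hgen : g (genericPoint X) = genericPoint Y) (hbir : IsIso (g.stalkMap (genericPoint X)))
    (P : Germ Y) [IsDomain P.A] (hP : Bir (Scheme.stalkClosedPointTo P.a).hom) (l : Spec (CommRingCat.of P.A) ⟶ X)
    (hl : l ≫ g = P.a) : Bir (Scheme.stalkClosedPointTo l).hom := by
  have h1 := Scheme.stalkClosedPointTo_comp l g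
  have hP' : Bir (Scheme.stalkClosedPointTo (l ≫ g)).hom := by rw [hl]; exact hP
  rw [h1] at hP'
  have h2 := bir_stalkMap g hgen hbir (l (closedPoint P.A))
  refine ⟨?_, fun b => ?_⟩
  · rw [injective_iff_map_eq_zero]
    intro c hc
    obtain ⟨s, t, hs, hst⟩ := h2.2 c
    have h3 : (g.stalkMap _ ≫ Scheme.stalkClosedPointTo l).hom t = 0 := by
      change (Scheme.stalkClosedPointTo l).hom ((g.stalkMap _).hom t) = 0
      rw [← hst, map_mul, hc, mul_zero]
    have h4 : t = 0 := hP'.1 (h3.trans (map_zero _).symm)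
    rw [h4, map_zero] at hst
    exact (mul_eq_zero.1 hst).resolve_left hs
  · obtain ⟨s, t, hs, hst⟩ := hP'.2 b
    exact ⟨(g.stalkMap _).hom s, (g.stalkMap _).hom t, hs, hst⟩

/-! ### the induction in dimension one -/

/-- One-dimensional integral schemes with finitely many singular points. -/
structure Cl {S Z : Scheme.{u}} (r : Z ⟶ S) : Prop where
  modif : IsModif r
  noeth : IsNoetherian Z
  dim : ∀ z : Z, ringKrullDim (Z.presheaf.stalk z) ≤ 1
  fin : {z : Z | ¬ IsRegularLocalRing (Z.presheaf.stalk z)}.Finite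

lemma isRegularLocalRing_generic (Z : Scheme.{u}) [IsIntegral Z] :
    IsRegularLocalRing (Z.presheaf.stalk (genericPoint Z)) := by
  let _ : Field (Z.presheaf.stalk (genericPoint Z)) := inferInstanceAs (Field Z.functionField)
  have h : IsRegularLocalRing Z.functionField := inferInstance
  exact h

theorem krullDimLE_of_isModif {Y Z : Scheme.{u}} [IsIntegral Z] [IsLocallyNoetherian Z]
    (hdim : ∀ z : Z, ringKrullDim (Z.presheaf.stalk z) ≤ 1) (b : Y ⟶ Z) (hb : IsModif b) (y : Y) :
    ringKrullDim (Y.presheaf.stalk y) ≤ 1 := by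
  have := hb.integral
  have hbir := isBir_of_isModif hb
  have h1 : Ring.KrullDimLE 1 (Z.presheaf.stalk (b y)) := (Ring.krullDimLE_iff).2 (by exact_mod_cast hdim (b y))
  have h2 := (KA.of_bir (b.stalkMap y).hom (bir_stalkMap b hbir.gen hbir.bir y)).2
  exact_mod_cast (Ring.krullDimLE_iff).1 h2

theorem Cl.step {S Z Y : Scheme.{u}} {r : Z ⟶ S} (h : Cl r) {b : Y ⟶ Z} {z : Z} (hb : PtSt Y Z b z)
    (hne : haveI := h.modif.integral; z ≠ genericPoint Z) : Cl (b ≫ r) := by
  have := h.modif.integral
  have := h.noeth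
  have hm := hb.isModif hne
  have := hm.integral
  have := hm.proper
  have hbir := isBir_of_isModif hm
  have hln : IsLocallyNoetherian Y := LocallyOfFiniteType.isLocallyNoetherian b
  have hcs : CompactSpace Y := QuasiCompact.compactSpace_of_compactSpace b
  have hn : IsNoetherian Y := {}
  refine ⟨hm.comp h.modif, hn, krullDimLE_of_isModif h.dim b hm, ?_⟩
  have hoff := hb.off
  have h1 : {y : Y | b y = z}.Finite := by
    obtain ⟨hz, -⟩ := hb
    refine finite_of_dim 1 (fun y => krullDimLE_of_isModif h.dim b hm y) (hz.preimage b.continuous) ?_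
    intro y hy
    have hyne : y ≠ genericPoint Y := by
      rintro rfl
      have h2 : b (genericPoint Y) = z := hy
      exact hne (h2.symm.trans hbir.gen)
    exact_mod_cast one_le_ringKrullDim hyne
  have h2 : {y : Y | b y ≠ z ∧ ¬ IsRegularLocalRing (Y.presheaf.stalk y)}.Finite := by
    refine Set.Finite.of_finite_image (f := b) (h.fin.subset ?_) ?_
    · rintro _ ⟨y, ⟨hy, hyr⟩, rfl⟩
      have := hoff.iso y hy
      intro hreg
      have hreg' : IsRegularLocalRing (Z.presheaf.stalk (b y)) := hreg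
      exact hyr (IsRegularLocalRing.of_ringEquiv (asIso (b.stalkMap y)).commRingCatIsoToRingEquiv)
    · intro y hy y' _ hyy
      obtain ⟨w, -, hu⟩ := hoff.bij (b y) hy.1
      rw [hu y rfl, hu y' hyy.symm]
  refine (h1.union h2).subset ?_
  intro y hy
  by_cases hyz : b y = z
  · exact Or.inl hyz
  · exact Or.inr ⟨hyz, hy⟩

/-- The system of the induction. -/
def sys (S : Scheme.{u}) : Sys S where
  C := fun {Z} r => Cl (Z := Z) r
  St := PtSt
  Bad P := ¬ IsRegularLocalRing P.A
  bad_iso := by
    rintro P Q ⟨e, -⟩ hP hQ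
    exact hP (IsRegularLocalRing.of_ringEquiv e.symm)
  fin r h := h.fin
  ex := by
    intro Z r z h hz
    have := h.modif.integral
    have hne : z ≠ genericPoint Z := by
      rintro rfl
      exact hz (isRegularLocalRing_generic Z)
    have hcl : IsClosed ({z} : Set Z) := isClosed_of_dim 1 h.dim z (by exact_mod_cast one_le_ringKrullDim hne)
    obtain ⟨Y, b, hb⟩ := exists_ptSt z hcl
    exact ⟨Y, b, hb, h.step hb hne⟩
  off _ _ _ _ hb := hb.off

/-- Germs of the chain. -/
lemma exists_of_rel {S : Scheme.{u}} (P : ℕ → Germ S) (hrel : ∀ n, (sys S).Rel (P (n + 1)) (P n)) {Z : Scheme.{u}}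
    (r : Z ⟶ S) (hr : Cl r) (z : Z) (h0 : P 0 = Germ.of r z) (n : ℕ) :
    ∃ (W : Scheme.{u}) (q : W ⟶ S) (w : W), Cl q ∧ P n = Germ.of q w := by
  rcases n with _ | n
  · exact ⟨Z, r, z, hr, h0⟩
  · obtain ⟨W, Y, q, b, y, -, h2, -, -, h5, -⟩ := hrel n
    exact ⟨Y, b ≫ q, y, h2, h5.symm⟩

lemma exists_pstep_of_rel {S : Scheme.{u}} {P P' : Germ S} (hrel : (sys S).Rel P' P) :
    ∃ φ : P.A →+* P'.A, PStep φ ∧ Spec.map (CommRingCat.ofHom φ) ≫ P.a = P'.a := by
  obtain ⟨Z, Y, r, b, y, hC, hC', hst, hiso, rfl, hbad, hbad'⟩ := hrel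
  have hC0 : Cl r := hC
  have := hC0.modif.integral
  have := hC0.noeth
  have hst' : PtSt Y Z b (b y) := hst
  have hne : b y ≠ genericPoint Z := by
    intro h
    have hb2 := (sys S).bad_iso hiso.symm hbad
    have hb3 : ¬ IsRegularLocalRing (Z.presheaf.stalk (b y)) := hb2
    rw [h] at hb3
    exact hb3 (isRegularLocalRing_generic Z)
  obtain ⟨e, he⟩ := exists_hom r b y hiso
  exact ⟨(b.stalkMap y).hom.comp (e : P.A →+* Z.presheaf.stalk (b y)), pstep_comp_equiv (hst'.pstep hne) e, he⟩

/-- **Resolution by point blow-ups** of a one-dimensional integral Noetherian scheme with a resolution. -/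
theorem exists_seq {Y X : Scheme.{u}} [IsIntegral Y] [IsNoetherian Y]
    (hdim : ∀ y : Y, ringKrullDim (Y.presheaf.stalk y) ≤ 1) (g : X ⟶ Y) (hg : IsModif g)
    (hreg : ∀ x : X, IsRegularLocalRing (X.presheaf.stalk x)) :
    ∃ (Y' : Scheme.{u}) (b : Y' ⟶ Y), Seq PtSt b ∧ IsModif b ∧ ∀ y, IsRegularLocalRing (Y'.presheaf.stalk y) := by
  have := hg.integral
  have := hg.proper
  obtain ⟨V, hVne, hV⟩ := hg.exists_isIso
  have hgbir := isBir_of_isModif hg
  have hC : Cl (𝟙 Y) := by
    refine ⟨⟨inferInstance, inferInstance, V, hVne, inferInstance⟩, inferInstance, hdim, ?_⟩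
    have h1 : ((V : Set Y)ᶜ).Finite := by
      refine finite_of_dim 1 hdim V.isOpen.isClosed_compl ?_
      intro y hy
      have hyne : y ≠ genericPoint Y := by
        rintro rfl
        exact hy (((genericPoint_spec Y).mem_open_set_iff V.isOpen).mpr (by simpa using hVne))
      exact_mod_cast one_le_ringKrullDim hyne
    refine h1.subset fun y hy hyV => hy ?_
    obtain ⟨x, hx⟩ := hg.surjective.surj y
    subst hx
    have := Dix.BirIso.isIso_stalkMap g V hV x hyV
    have := hreg x
    exact IsRegularLocalRing.of_ringEquiv (asIso (g.stalkMap x)).commRingCatIsoToRingEquiv.symm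
  obtain ⟨Y', b, hs, hC', hb⟩ := (sys Y).exists_seq (𝟙 Y) hC (by
    intro z hz P hP0 hrel
    choose φ hφ hφS using fun n => exists_pstep_of_rel (hrel n)
    have hPn := exists_of_rel P hrel (𝟙 Y) hC z hP0
    have hd : ∀ n, IsDomain (P n).A := by
      intro n
      obtain ⟨W, q, w, hq, hw⟩ := hPn n
      rw [hw]
      have := hq.modif.integral
      exact inferInstanceAs (IsDomain (W.presheaf.stalk w))
    have hne : z ≠ genericPoint Y := by
      rintro rfl
      exact hz (isRegularLocalRing_generic Y)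
    obtain ⟨K, _, _, _, k, hk⟩ := exists_generic_lift g V hVne hV (𝟙 Y) rfl z (P 0) hP0
    have i1 : IsNoetherianRing (P 0).A := by
      rw [hP0]; exact inferInstanceAs (IsNoetherianRing (Y.presheaf.stalk z))
    have i2 : Ring.KrullDimLE 1 (P 0).A := by
      rw [hP0]
      exact (Ring.krullDimLE_iff (R := Y.presheaf.stalk z)).2 (by exact_mod_cast hdim z)
    have i3 : ¬ IsField (P 0).A := by
      rw [hP0]
      exact not_isField_stalk hne
    obtain ⟨n, ψ, l, hψ, hl, -⟩ := exists_lift_dim_one g P hd φ hφS hφ i3 k hk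
    -- the local ring of `P n` is regular
    obtain ⟨W, q, w, hq, hw⟩ := hPn n
    have := hq.modif.integral
    have hqbir := isBir_of_isModif hq.modif
    have hdn := hd n
    have h1 := bir_of_lift g hgbir.gen hgbir.bir (P n) (bir_of q hqbir.gen hqbir.bir w (P n) hw) l hl
    have := hreg (l (closedPoint (P n).A))
    obtain ⟨_, hval⟩ := valuationRing_of_regular (X.presheaf.stalk (l (closedPoint (P n).A)))
      (krullDimLE_of_isModif hdim g hg _)
    have h2 := bijective_of_valuationRing (Scheme.stalkClosedPointTo l).hom h1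
      (Scheme.isLocalHom_stalkClosedPointTo' l)
    have h3 : IsRegularLocalRing (P n).A :=
      IsRegularLocalRing.of_ringEquiv (RingEquiv.ofBijective (Scheme.stalkClosedPointTo l).hom h2)
    have hbad : (sys Y).Bad (P n) := by
      obtain ⟨_, _, _, _, _, _, _, _, _, _, h, _⟩ := hrel n
      exact h
    exact hbad h3)
  rw [Category.comp_id] at hC'
  refine ⟨Y', b, hs, ?_, fun y => ?_⟩
  · exact hC'.modif
  · by_contra h
    exact hb y h

end Groth.Agent.Resolve.K375.CurveSeq
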