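import Groth.Agent.Resolve.K375.CurveSeq
import Groth.Agent.Resolve.K377.DimIneq
import Mathlib.AlgebraicGeometry.SpreadingOut
import Mathlib.AlgebraicGeometry.Morphisms.Separated
import Mathlib.AlgebraicGeometry.Gluing

/-!
# Morphisms to modifications

* `exists_hom_of_forall`: if all local schemes of the integral scheme `Z` lift to the separated birational `Y ⟶ X`,
  then `Z` lifts;
* `isOpen_good`: the set of points whose local schemes lift is open.
-/

set_option autoImplicit false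
universe u

open CategoryTheory CategoryTheory.Limits AlgebraicGeometry IsLocalRing

namespace Groth.Agent.Resolve.K375.HomGlue

open Tower Geo CurvesC.Modif

/-- Morphisms landing where `f` is an isomorphism are determined by their composite with `f`. -/
theorem hom_ext_of_isIso {X Y T : Scheme.{u}} (f : Y ⟶ X) (V : X.Opens) (hV : IsIso (f ∣_ V)) (a b : T ⟶ Y)
    (h : a ≫ f = b ≫ f) (ha : ∀ t, f (a t) ∈ V) : a = b := by
  have h1 : Set.range a ⊆ Set.range (f ⁻¹ᵁ V).ι := by
    rintro _ ⟨t, rfl⟩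
    rw [Scheme.Opens.range_ι]
    exact ha t
  have h2 : Set.range b ⊆ Set.range (f ⁻¹ᵁ V).ι := by
    rintro _ ⟨t, rfl⟩
    rw [Scheme.Opens.range_ι]
    have : f (b t) = f (a t) := by
      rw [← Scheme.Hom.comp_apply, ← Scheme.Hom.comp_apply, h]
    change f (b t) ∈ V
    rw [this]; exact ha t
  rw [← IsOpenImmersion.lift_fac (f ⁻¹ᵁ V).ι a h1, ← IsOpenImmersion.lift_fac (f ⁻¹ᵁ V).ι b h2]
  congr 1
  rw [← cancel_mono (f ∣_ V), ← cancel_mono V.ι, Category.assoc, Category.assoc, morphismRestrict_ι,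
    IsOpenImmersion.lift_fac_assoc, IsOpenImmersion.lift_fac_assoc, h]

/-- Morphisms from an integral scheme to a separated birational scheme are determined by the composite. -/
theorem hom_ext {X Y T : Scheme.{u}} [IsIntegral T] (f : Y ⟶ X) [IsSeparated f] (V : X.Opens) (hV : IsIso (f ∣_ V))
    (a b : T ⟶ Y) (h : a ≫ f = b ≫ f) (ha : f (a (genericPoint T)) ∈ V) : a = b := by
  let U : T.Opens := (a ≫ f) ⁻¹ᵁ V
  have hU : (U : Set T).Nonempty := ⟨genericPoint T, by
    change (a ≫ f) (genericPoint T) ∈ V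
    rw [Scheme.Hom.comp_apply]
    exact ha⟩
  have hd : IsDominant U.ι := by
    refine ⟨?_⟩
    rw [DenseRange, Scheme.Opens.range_ι]
    exact U.isOpen.dense hU
  refine ext_of_isDominant_of_isSeparated f h U.ι ?_
  refine hom_ext_of_isIso f V hV _ _ (by rw [Category.assoc, Category.assoc, h]) ?_
  intro t
  have h1 : U.ι t ∈ U := t.2
  have h2 : (a ≫ f) (U.ι t) ∈ V := h1
  rw [Scheme.Hom.comp_apply] at h2 ⊢
  exact h2

/-- The local scheme at `z` lifts to `Y`. -/
def Good {X Y Z : Scheme.{u}} (f : Y ⟶ X) (r : Z ⟶ X) (z : Z) : Prop :=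
  ∃ l : Spec (Z.presheaf.stalk z) ⟶ Y, l ≫ f = Z.fromSpecStalk z ≫ r

theorem good_of_mem {X Y Z : Scheme.{u}} {f : Y ⟶ X} {r : Z ⟶ X} {U : Z.Opens} {h : (U : Scheme.{u}) ⟶ Y}
    (hh : h ≫ f = U.ι ≫ r) (z : Z) (hz : z ∈ U) : Good f r z := by
  refine ⟨U.fromSpecStalkOfMem z hz ≫ h, ?_⟩
  rw [Category.assoc, hh, Scheme.Opens.fromSpecStalkOfMem_ι_assoc]

theorem exists_open {X Y Z : Scheme.{u}} {f : Y ⟶ X} [LocallyOfFiniteType f] {r : Z ⟶ X} [IsIntegral Z] {z : Z}
    (hz : Good f r z) : ∃ (U : Z.Opens) (_ : z ∈ U) (h : (U : Scheme.{u}) ⟶ Y), h ≫ f = U.ι ≫ r := by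
  obtain ⟨l, hl⟩ := hz
  obtain ⟨U, hU, h, -, hh⟩ := spread_out_of_isGermInjective' r f l hl
  exact ⟨U, hU, h, hh⟩

theorem isOpen_good {X Y Z : Scheme.{u}} (f : Y ⟶ X) [LocallyOfFiniteType f] (r : Z ⟶ X) [IsIntegral Z] :
    IsOpen {z | Good f r z} := by
  rw [isOpen_iff_forall_mem_open]
  intro z hz
  obtain ⟨U, hU, h, hh⟩ := exists_open hz
  exact ⟨U, fun w hw => good_of_mem hh w hw, U.isOpen, hU⟩

/-- If all local schemes lift, the scheme lifts. -/
theorem exists_hom_of_forall {X Y Z : Scheme.{u}} [IsIntegral Z] (f : Y ⟶ X) [IsSeparated f] [LocallyOfFiniteType f]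
    (V : X.Opens) (hV : IsIso (f ∣_ V)) (r : Z ⟶ X) (hr : r (genericPoint Z) ∈ V) (h : ∀ z, Good f r z) :
    ∃ g : Z ⟶ Y, g ≫ f = r := by
  choose U hU g hg using fun z => exists_open (h z)
  have hc : TopologicalSpace.IsOpenCover U :=
    TopologicalSpace.IsOpenCover.mk (top_le_iff.1 fun x _ =>
      TopologicalSpace.Opens.mem_iSup.2 ⟨x, hU x⟩)
  have hη : ∀ z, genericPoint Z ∈ U z := fun z =>
    ((genericPoint_spec Z).mem_open_set_iff (U z).isOpen).mpr ⟨z, trivial, hU z⟩
  have hglue : ∀ i j, pullback.fst (U i).ι (U j).ι ≫ g i = pullback.snd (U i).ι (U j).ι ≫ g j := by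
    intro i j
    obtain ⟨w, hw1, hw2⟩ := Scheme.Pullback.exists_preimage_pullback (f := (U i).ι) (g := (U j).ι)
      ⟨genericPoint Z, hη i⟩ ⟨genericPoint Z, hη j⟩ rfl
    have hne : Nonempty (pullback (U i).ι (U j).ι : Scheme.{u}) := ⟨w⟩
    have hint : IsIntegral (pullback (U i).ι (U j).ι : Scheme.{u}) :=
      isIntegral_of_isOpenImmersion (pullback.fst (U i).ι (U j).ι ≫ (U i).ι)
    have e : (pullback.fst (U i).ι (U j).ι ≫ g i) ≫ f = (pullback.snd (U i).ι (U j).ι ≫ g j) ≫ f := by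
      rw [Category.assoc, Category.assoc, hg, hg, ← Category.assoc, ← Category.assoc, pullback.condition]
    refine hom_ext f V hV _ _ e ?_
    rw [← Scheme.Hom.comp_apply, Category.assoc, hg, ← Category.assoc, Scheme.Hom.comp_apply]
    have h1 : (pullback.fst (U i).ι (U j).ι ≫ (U i).ι) (genericPoint (pullback (U i).ι (U j).ι : Scheme.{u})) =
        genericPoint Z := genericPoint_eq_of_isOpenImmersion _
    rw [h1]
    exact hr
  obtain ⟨G, hG⟩ : ∃ G : Z ⟶ Y, ∀ i, (U i).ι ≫ G = g i :=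
    ⟨(Z.openCoverOfIsOpenCover U hc).glueMorphisms g hglue,
      (Z.openCoverOfIsOpenCover U hc).ι_glueMorphisms g hglue⟩
  refine ⟨G, Scheme.hom_ext_of_forall _ _ fun z => ⟨U z, hU z, ?_⟩⟩
  rw [← Category.assoc, hG, hg]

/-- Local rings of a modification have dimension at most that of the local rings below. -/
theorem ringKrullDim_le_of_isModif {X Z : Scheme.{u}} [IsIntegral X] [IsLocallyNoetherian X] (r : Z ⟶ X)
    (hr : IsModif r) (z : Z) : ringKrullDim (Z.presheaf.stalk z) ≤ ringKrullDim (X.presheaf.stalk (r z)) := by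
  have := hr.integral
  have := hr.proper
  refine K377.DimIneq.main r ?_ z
  intro η hη
  have hηg : η = genericPoint Z := by
    have h1 : closure {η} ∈ irreducibleComponents Z := hη
    rw [irreducibleComponents_eq_singleton, Set.mem_singleton_iff] at h1
    have h2 : genericPoint Z ∈ closure ({η} : Set Z) := by rw [h1]; trivial
    exact ((specializes_iff_mem_closure.mpr h2).antisymm (genericPoint_specializes η)).eq
  subst hηg
  have hbir := (isBir_of_isModif hr).bir
  refine ⟨RingHom.injective _, fun c => ?_⟩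
  obtain ⟨b, rfl⟩ := Ideal.Quotient.mk_surjective c
  obtain ⟨a, rfl⟩ := (ConcreteCategory.bijective_of_isIso (r.stalkMap (genericPoint Z))).2 b
  exact ⟨(X.residue _).hom a, ConcreteCategory.congr_hom (Scheme.residue_residueFieldMap r (genericPoint Z)) a⟩

theorem aux_lift {X Y : Scheme.{u}} (f : Y ⟶ X) (hex : ValuativeCriterion.Existence f) {V K : Type u} [CommRing V]
    [IsDomain V] [ValuationRing V] [Field K] [Algebra V K] [IsFractionRing V K] (_φ : V →+* K)
    (k : Spec (CommRingCat.of K) ⟶ Y) (s : Spec (CommRingCat.of V) ⟶ X)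
    (h : k ≫ f = Spec.map (CommRingCat.ofHom (algebraMap V K)) ≫ s) : ∃ l : Spec (CommRingCat.of V) ⟶ Y, l ≫ f = s := by
  obtain ⟨⟨⟨l, -, hl2⟩⟩⟩ := hex ⟨V, K, k, s, ⟨h⟩⟩
  exact ⟨l, hl2⟩

/-- Points whose local ring is a valuation ring are good. -/
theorem good_of_valuationRing {X Y Z : Scheme.{u}} [IsIntegral Z] (f : Y ⟶ X) [UniversallyClosed f]
    (V : X.Opens) (hV : IsIso (f ∣_ V)) (r : Z ⟶ X) (hr : r (genericPoint Z) ∈ V) (z : Z)
    (hz : ValuationRing (Z.presheaf.stalk z)) : Good f r z := by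
  have e : Spec.map (Z.presheaf.stalkSpecializes (genericPoint_specializes z)) ≫ Z.fromSpecStalk z =
      Z.fromSpecStalk (genericPoint Z) := Scheme.SpecMap_stalkSpecializes_fromSpecStalk _
  obtain ⟨k, hk⟩ := CurveSeq.exists_lift_of_isIso f V hV (Z.fromSpecStalk (genericPoint Z) ≫ r) (by
    intro t
    have h1 : Z.fromSpecStalk (genericPoint Z) t ⤳ genericPoint Z := by
      have h := Set.mem_range_self (f := Z.fromSpecStalk (genericPoint Z)) t
      rwa [Scheme.range_fromSpecStalk] at h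
    have h2 : Z.fromSpecStalk (genericPoint Z) t = genericPoint Z :=
      (h1.antisymm (genericPoint_specializes _)).eq
    rw [Scheme.Hom.comp_apply, h2]
    exact hr)
  have hex : ValuativeCriterion.Existence f := by
    have := UniversallyClosed.eq_valuativeCriterion
    have h2 : UniversallyClosed f := inferInstance
    rw [this] at h2
    exact h2.1
  have hsq : k ≫ f = Spec.map (CommRingCat.ofHom (algebraMap (Z.presheaf.stalk z) Z.functionField)) ≫
      Z.fromSpecStalk z ≫ r := by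
    rw [hk]
    change _ = Spec.map (Z.presheaf.stalkSpecializes (genericPoint_specializes z)) ≫ Z.fromSpecStalk z ≫ r
    rw [← Category.assoc, e]
  have hdom : IsDomain (Z.presheaf.stalk z) := inferInstance
  exact aux_lift f hex (algebraMap (Z.presheaf.stalk z) Z.functionField) k (Z.fromSpecStalk z ≫ r) hsq

end Groth.Agent.Resolve.K375.HomGlue
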