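import Groth.Agent.Resolve.K375.CurveSeq
import Groth.Agent.Resolve.K375.HomGlue
import Groth.Agent.Flat2C.StrictTr

/-!
# Strict transforms of closed subschemes under blow-ups
-/

set_option autoImplicit false
universe u

open CategoryTheory CategoryTheory.Limits AlgebraicGeometry IsLocalRing

namespace Groth.Agent.Resolve.K375.Strict

open Groth.Agent.Dix.PointIdeal Groth.Agent.Divis.CartierBasic Groth.Agent.Divis.CartierStalk
open Groth.Agent.Flat2C.StrictTr
open Tower Geo CurveSeq CurvesC.Modif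

/-! ### inverse images of the ideal of a closed point -/

theorem comap_pt {Y X : Scheme.{u}} (i : Y ⟶ X) [IsClosedImmersion i] (z : Y) (hz : IsClosed ({z} : Set Y))
    (hz' : IsClosed ({i z} : Set X)) : (pt (i z) hz').comap i = pt z hz := by
  apply ext_stalkIdeal
  intro y
  rw [stalkIdeal_comap]
  by_cases hy : y = z
  · subst hy
    rw [stalkIdeal_pt, stalkIdeal_pt]
    have hs : Function.Surjective (i.stalkMap y).hom := i.stalkMap_surjective y
    have : maximalIdeal (X.presheaf.stalk (i y)) = (maximalIdeal (Y.presheaf.stalk y)).comap (i.stalkMap y).hom :=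
      (IsLocalRing.maximalIdeal_comap _).symm
    rw [this, Ideal.map_comap_of_surjective _ hs]
  · have h1 : i y ∉ (pt (i z) hz').support := by
      rw [mem_support_pt]
      exact fun h => hy (i.injective h)
    have h2 : y ∉ (pt z hz).support := by
      rw [mem_support_pt]
      exact hy
    rw [(notMem_support_iff_stalkIdeal_eq_top _ _).1 h1, (notMem_support_iff_stalkIdeal_eq_top _ _).1 h2,
      Ideal.map_top]

theorem comap_pt_of_notMem {Y X : Scheme.{u}} (i : Y ⟶ X) (z : X) (hz : IsClosed ({z} : Set X))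
    (h : z ∉ Set.range i) : (pt z hz).comap i = ⊤ := by
  apply ext_stalkIdeal
  intro y
  have h1 : i y ∉ (pt z hz).support := by
    rw [mem_support_pt]
    exact fun hh => h ⟨y, hh⟩
  rw [stalkIdeal_comap, (notMem_support_iff_stalkIdeal_eq_top _ _).1 h1, Ideal.map_top, stalkIdeal_top]

theorem isEff_top {Y : Scheme.{u}} : BlowUp.IsEffCartierIdeal (⊤ : Y.IdealSheafData) := by
  intro y
  obtain ⟨U, hU⟩ := exists_affine y
  exact ⟨U, hU, 1, one_mem _, by rw [Ideal.span_singleton_one]; rfl⟩

theorem isBlowUp_id {Y : Scheme.{u}} {I : Y.IdealSheafData} (hI : BlowUp.IsEffCartierIdeal I) :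
    BlowUp.IsBlowUp (𝟙 Y) I := by
  refine ⟨by rwa [Scheme.IdealSheafData.comap_id], fun T g _ => ⟨g, Category.comp_id _, ?_⟩⟩
  intro h hh
  exact (Category.comp_id h).symm.trans hh

theorem isIso_of_isEff {Y Y' : Scheme.{u}} {I : Y.IdealSheafData} (hI : BlowUp.IsEffCartierIdeal I)
    {c : Y' ⟶ Y} (hc : BlowUp.IsBlowUp c I) : IsIso c := by
  obtain ⟨e, he⟩ := exists_iso_of_isBlowUp hc (isBlowUp_id hI)
  rw [Category.comp_id] at he
  rw [← he]
  infer_instance

/-- The strict transform of a closed subscheme. -/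
theorem exists_strict {Y X X' : Scheme.{u}} (i : Y ⟶ X) [IsClosedImmersion i] {I : X.IdealSheafData} {b : X' ⟶ X}
    (hb : BlowUp.IsBlowUp b I) :
    ∃ (Y' : Scheme.{u}) (c : Y' ⟶ Y) (i' : Y' ⟶ X'), BlowUp.IsBlowUp c (I.comap i) ∧ IsClosedImmersion i' ∧
      i' ≫ b = c ≫ i := by
  have hc := IsPullback.of_hasPullback i b
  have hE : (I.comap i).comap (pullback.fst i b) = (I.comap b).comap (pullback.snd i b) := by
    rw [← Scheme.IdealSheafData.comap_comp, ← Scheme.IdealSheafData.comap_comp, hc.w]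
  have hprinc : IsLocPrincipal ((I.comap i).comap (pullback.fst i b)) := by
    rw [hE]
    exact (isLocPrincipal_of_isEff hb.1).comap _
  have hJ := isKilledIdeal_killedIdeal hprinc.isFiniteTypeIdeal
  refine ⟨_, _, (killedIdeal ((I.comap i).comap (pullback.fst i b))).subschemeι ≫ pullback.snd i b,
    isBlowUp_strictTransform hb hc hJ, inferInstance, ?_⟩
  rw [Category.assoc, Category.assoc, hc.w]

/-! ### ideals of integral schemes -/

theorem stalkIdeal_ne_bot {W : Scheme.{u}} [IsIntegral W] {I : W.IdealSheafData} (hI : I ≠ ⊥) (x : W) :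
    stalkIdeal I x ≠ ⊥ := by
  intro h
  apply hI
  rw [← Scheme.IdealSheafData.support_eq_top_iff]
  have h1 : genericPoint W ⤳ x := genericPoint_specializes x
  have h1' : genericPoint W ∈ Set.range (W.fromSpecStalk x) := by
    rw [Scheme.range_fromSpecStalk]
    exact h1
  obtain ⟨q, hq⟩ := h1'
  have h2 : genericPoint W ∈ I.support := by
    rw [← hq]
    refine (fromSpecStalk_mem_support_iff I x q).2 ?_
    rw [h]
    exact bot_le
  ext y
  simp only [TopologicalSpace.Closeds.coe_top, Set.mem_univ, iff_true]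
  exact (genericPoint_specializes y).mem_closed I.support.isClosed h2

theorem ne_bot_of_notMem {W : Scheme.{u}} {I : W.IdealSheafData} {x : W} (hx : x ∉ I.support) : I ≠ ⊥ := by
  rintro rfl
  apply hx
  rw [Scheme.IdealSheafData.support_bot]
  trivial

/-- Around a regular point of dimension at most one a nonzero ideal is effective Cartier. -/
theorem exists_eqn_of_regular {W : Scheme.{u}} [IsIntegral W] [IsLocallyNoetherian W] {I : W.IdealSheafData}
    (hI : I ≠ ⊥) (x : W) (hdim : ringKrullDim (W.presheaf.stalk x) ≤ 1)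
    (hreg : IsRegularLocalRing (W.presheaf.stalk x)) :
    ∃ g ∈ nonZeroDivisors (W.presheaf.stalk x), stalkIdeal I x = Ideal.span {g} := by
  obtain ⟨_, _⟩ := valuationRing_of_regular _ hdim
  have h1 : (stalkIdeal I x).IsPrincipal := IsBezout.isPrincipal_of_FG _ (IsNoetherian.noetherian _)
  obtain ⟨g, hg⟩ := h1
  refine ⟨g, ?_, hg⟩
  rw [mem_nonZeroDivisors_iff_ne_zero]
  rintro rfl
  refine stalkIdeal_ne_bot hI x ?_
  rw [hg]
  exact Submodule.span_zero_singleton _

theorem isEff_of_regular {W : Scheme.{u}} [IsIntegral W] [IsLocallyNoetherian W] {I : W.IdealSheafData}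
    (hI : I ≠ ⊥) (hdim : ∀ x ∈ I.support, ringKrullDim (W.presheaf.stalk x) ≤ 1)
    (hreg : ∀ x ∈ I.support, IsRegularLocalRing (W.presheaf.stalk x)) : BlowUp.IsEffCartierIdeal I :=
  isEffCartierIdeal_of_stalkIdeal I fun x hx => exists_eqn_of_regular hI x (hdim x hx) (hreg x hx)

/-! ### modifications -/

theorem isModif_of_comp {W Y' Y : Scheme.{u}} [IsIntegral Y] {w : W ⟶ Y'} {c : Y' ⟶ Y} (hc : IsModif c)
    (h : IsModif (w ≫ c)) : IsModif w := by
  have := hc.proper
  have := h.proper
  have := h.integral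
  obtain ⟨U, hU, hcU⟩ := hc.exists_isIso
  obtain ⟨V, hV, hV'⟩ := h.exists_isIso
  have h1 : IsIso (c ∣_ (U ⊓ V)) := CurvesC.ModDim.isIso_morphismRestrict_of_le c inf_le_left
  have h2 : IsIso ((w ≫ c) ∣_ (U ⊓ V)) := CurvesC.ModDim.isIso_morphismRestrict_of_le (w ≫ c) inf_le_right
  rw [morphismRestrict_comp] at h2
  have h3 : IsIso (w ∣_ (c ⁻¹ᵁ (U ⊓ V))) := @IsIso.of_isIso_comp_right _ _ _ _ _ _ (c ∣_ (U ⊓ V)) h1 h2
  refine ⟨IsProper.of_comp w c, inferInstance, c ⁻¹ᵁ (U ⊓ V), ?_, h3⟩
  obtain ⟨y, hy⟩ := nonempty_preirreducible_inter U.2 V.2 hU hV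
  obtain ⟨y', hy'⟩ := hc.surjective.surj y
  exact ⟨y', by change c y' ∈ U ⊓ V; rw [hy']; exact hy⟩

theorem ne_genericPoint {Y : Scheme.{u}} [IsIntegral Y] [Nontrivial Y] {z : Y} (hz : IsClosed ({z} : Set Y)) :
    z ≠ genericPoint Y := by
  rintro rfl
  obtain ⟨y, hy⟩ := exists_ne (genericPoint Y)
  exact hy ((genericPoint_specializes y).mem_closed hz rfl)

/-! ### curves on a scheme -/

/-- `i : Y ⟶ Z` is an integral one-dimensional closed subscheme with a resolution of singularities. -/
structure Cur {Y Z : Scheme.{u}} (i : Y ⟶ Z) : Prop where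
  closed : IsClosedImmersion i
  integral : IsIntegral Y
  nontrivial : Nontrivial Y
  dim : ∀ y : Y, ringKrullDim (Y.presheaf.stalk y) ≤ 1
  res : ∃ (W : Scheme.{u}) (w : W ⟶ Y), IsModif w ∧ ∀ x, IsRegularLocalRing (W.presheaf.stalk x)

theorem isNoetherian_of_closed {Y Z : Scheme.{u}} [IsNoetherian Z] (i : Y ⟶ Z) [IsClosedImmersion i] :
    IsNoetherian Y := by
  have hln : IsLocallyNoetherian Y := LocallyOfFiniteType.isLocallyNoetherian i
  have hcs : CompactSpace Y := QuasiCompact.compactSpace_of_compactSpace i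
  exact {}

theorem comap_pt_ne_bot {Y Z : Scheme.{u}} {i : Y ⟶ Z} (h : Cur i) {z : Z} (hz : IsClosed ({z} : Set Z)) :
    (pt z hz).comap i ≠ ⊥ := by
  have := h.closed
  have := h.integral
  have := h.nontrivial
  by_cases hzi : z ∈ Set.range i
  · obtain ⟨y, rfl⟩ := hzi
    have hy : IsClosed ({y} : Set Y) := by
      have := hz.preimage i.continuous
      rwa [← Set.image_singleton, Set.preimage_image_eq _ i.injective] at this
    rw [comap_pt i y hy hz]
    apply ne_bot_of_notMem (x := genericPoint Y)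
    rw [mem_support_pt]
    exact (ne_genericPoint hy).symm
  · rw [comap_pt_of_notMem i z hz hzi]
    apply ne_bot_of_notMem (x := genericPoint Y)
    rw [notMem_support_iff_stalkIdeal_eq_top, stalkIdeal_top]

/-- The strict transform of a curve under the blow-up of a closed point. -/
theorem Cur.step {Y Z Z' : Scheme.{u}} [IsNoetherian Z] {i : Y ⟶ Z} (h : Cur i) {b : Z' ⟶ Z} {z : Z}
    (hz : IsClosed ({z} : Set Z)) (hb : BlowUp.IsBlowUp b (pt z hz)) :
    ∃ (Y' : Scheme.{u}) (c : Y' ⟶ Y) (i' : Y' ⟶ Z'), Cur i' ∧ i' ≫ b = c ≫ i ∧ IsModif c ∧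
      BlowUp.IsBlowUp c ((pt z hz).comap i) ∧ ((∀ y, IsRegularLocalRing (Y.presheaf.stalk y)) → IsIso c) := by
  have := h.closed
  have := h.integral
  have := h.nontrivial
  have := isNoetherian_of_closed i
  have hne := comap_pt_ne_bot h hz
  obtain ⟨Y', c, i', hc, hi', hw⟩ := exists_strict i hb
  have hcm : IsModif c := IsModif.of_isBlowUp hne (Models.RMBlow.isFiniteTypeIdeal _) hc
  have := hcm.integral
  have := hcm.proper
  refine ⟨Y', c, i', ⟨hi', inferInstance, ?_, krullDimLE_of_isModif h.dim c hcm, ?_⟩, hw, hcm, hc, ?_⟩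
  · obtain ⟨y, y', hyy⟩ := exists_pair_ne Y
    obtain ⟨w, rfl⟩ := hcm.surjective.surj y
    obtain ⟨w', rfl⟩ := hcm.surjective.surj y'
    exact ⟨w, w', fun hh => hyy (by rw [hh])⟩
  · obtain ⟨W, w, hw, hreg⟩ := h.res
    have := hw.integral
    have := hw.proper
    have : IsLocallyNoetherian W := LocallyOfFiniteType.isLocallyNoetherian w
    have hWd := krullDimLE_of_isModif h.dim w hw
    have h1 : ((pt z hz).comap i).comap w ≠ ⊥ := by
      intro h0
      apply hne
      rw [← Scheme.IdealSheafData.support_eq_top_iff]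
      ext y
      simp only [TopologicalSpace.Closeds.coe_top, Set.mem_univ, iff_true]
      obtain ⟨x, rfl⟩ := hw.surjective.surj y
      have h2 : x ∈ (((pt z hz).comap i).comap w).support := by
        rw [h0, Scheme.IdealSheafData.support_bot]; trivial
      rw [Scheme.IdealSheafData.support_comap] at h2
      exact h2
    have h3 : BlowUp.IsEffCartierIdeal (((pt z hz).comap i).comap w) :=
      isEff_of_regular h1 (fun x _ => hWd x) (fun x _ => hreg x)
    obtain ⟨w', hw', -⟩ := hc.2 W w h3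
    refine ⟨W, w', isModif_of_comp hcm ?_, hreg⟩
    have hw'' : w' ≫ c = w := hw'
    rwa [hw'']
  · intro hreg
    exact isIso_of_isEff (isEff_of_regular hne (fun x _ => h.dim x) (fun x _ => hreg x)) hc

end Groth.Agent.Resolve.K375.Strict
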