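import Groth.Agent.Resolve.K375.CplRes
import Groth.Agent.Resolve.K375.Strict
import Groth.Agent.CurvesC.RegCompl
import Groth.Agent.S1597
import Groth.Agent.S0547
import Groth.Agent.S0543

/-!
# Points of the closed fibre after base change to the completion
-/

set_option autoImplicit false
universe u

open CategoryTheory CategoryTheory.Limits AlgebraicGeometry IsLocalRing

namespace Groth.Agent.Resolve.K375.CplDesc

open Groth.Agent.Dix.PointIdeal Groth.Agent.Divis.CartierBasic Groth.Agent.Divis.CartierStalk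
open Tower Geo CurvesC.Modif NormSt Strict Groth.Agent.CurvesC.RegCompl

variable (A : Type u) [CommRing A] [IsLocalRing A] [IsNoetherianRing A] {X : Scheme.{u}}
  (f : X ⟶ Spec (CommRingCat.of A))

theorem prime_map (y : Curv2.bcCpl A f) (hy : f (Curv2.bcCplFst A f y) = closedPoint A) (U : X.Opens)
    (hU : IsAffineOpen U) (hyU : Curv2.bcCplFst A f y ∈ U) :
    (hU.primeIdealOf ⟨Curv2.bcCplFst A f y, hyU⟩).asIdeal.map
      ((Curv2.bcCplFst A f).appLE U (Curv2.bcCplFst A f ⁻¹ᵁ U) le_rfl).hom =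
      ((hU.preimage (Curv2.bcCplFst A f)).primeIdealOf ⟨y, hyU⟩).asIdeal := by
  have hV : IsAffineOpen (Curv2.bcCplFst A f ⁻¹ᵁ U) := hU.preimage _
  refine map_eq_of_surj _ _ _ ?_ ?_
  · have := IsAffineOpen.comap_primeIdealOf_appLE (f := Curv2.bcCplFst A f) U hU (Curv2.bcCplFst A f ⁻¹ᵁ U) hV le_rfl hyU
    exact congr($(this).1)
  · exact exists_sub_mem_of_isPushout (isPushout_sections A f U hU) (maximalIdeal A)
      (exists_sub_mem_maximalIdeal A) _ (map_maximalIdeal_le A f U hU _ hyU hy)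

theorem primeIdealOf_le_iff {Y : Scheme.{u}} {U : Y.Opens} (hU : IsAffineOpen U) (x y : Y) (hx : x ∈ U) (hy : y ∈ U) :
    (hU.primeIdealOf ⟨x, hx⟩).asIdeal ≤ (hU.primeIdealOf ⟨y, hy⟩).asIdeal ↔ x ⤳ y := by
  change hU.primeIdealOf ⟨x, hx⟩ ≤ hU.primeIdealOf ⟨y, hy⟩ ↔ _
  have h1 := hU.fromSpec.isOpenEmbedding.toIsInducing.specializes_iff (x := hU.primeIdealOf ⟨x, hx⟩)
    (y := hU.primeIdealOf ⟨y, hy⟩)
  rw [hU.fromSpec_primeIdealOf, hU.fromSpec_primeIdealOf] at h1
  exact (PrimeSpectrum.le_iff_specializes _ _).trans h1.symm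

theorem specializes_of (y y' : Curv2.bcCpl A f) (hy : f (Curv2.bcCplFst A f y) = closedPoint A)
    (hy' : f (Curv2.bcCplFst A f y') = closedPoint A) (h : Curv2.bcCplFst A f y ⤳ Curv2.bcCplFst A f y') :
    y ⤳ y' := by
  obtain ⟨U, hU, hyU', -⟩ := exists_isAffineOpen_mem_and_subset (X := X) (U := ⊤) (x := Curv2.bcCplFst A f y') trivial
  have hyU : Curv2.bcCplFst A f y ∈ U := h.mem_open U.isOpen hyU'
  have h1 := (primeIdealOf_le_iff hU _ _ hyU hyU').2 h
  have h2 := Ideal.map_mono (f := ((Curv2.bcCplFst A f).appLE U (Curv2.bcCplFst A f ⁻¹ᵁ U) le_rfl).hom) h1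
  rw [prime_map A f y hy U hU hyU, prime_map A f y' hy' U hU hyU'] at h2
  exact (primeIdealOf_le_iff (hU.preimage (Curv2.bcCplFst A f)) y y' hyU hyU').1 h2

theorem injective_of (y y' : Curv2.bcCpl A f) (hy : f (Curv2.bcCplFst A f y) = closedPoint A)
    (h : Curv2.bcCplFst A f y = Curv2.bcCplFst A f y') : y = y' := by
  have hy' : f (Curv2.bcCplFst A f y') = closedPoint A := by rw [← h]; exact hy
  exact ((specializes_of A f y y' hy hy' (specializes_of_eq h)).antisymm
    (specializes_of A f y' y hy' hy (specializes_of_eq h.symm))).eq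

theorem exists_preimage (x : X) (hx : f x = closedPoint A) :
    ∃ y : Curv2.bcCpl A f, Curv2.bcCplFst A f y = x ∧ Curv2.bcCplSnd A f y = closedPoint (Curv2.cpl A) := by
  obtain ⟨y, hy1, hy2⟩ := Scheme.Pullback.exists_preimage_pullback
    (f := f) (g := Spec.map (CommRingCat.ofHom (algebraMap A (Curv2.cpl A)))) x
    (IsLocalRing.closedPoint (Curv2.cpl A)) (by
      rw [hx]
      exact (IsLocalRing.comap_closedPoint (algebraMap A (Curv2.cpl A))).symm)
  exact ⟨y, hy1, hy2⟩

theorem closedPoint_of_snd (y : Curv2.bcCpl A f) (hy : Curv2.bcCplSnd A f y = closedPoint (Curv2.cpl A)) :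
    f (Curv2.bcCplFst A f y) = closedPoint A := by
  have h1 : (Curv2.bcCplFst A f ≫ f) y = (Curv2.bcCplSnd A f ≫
      Spec.map (CommRingCat.ofHom (algebraMap A (Curv2.cpl A)))) y := by
    rw [pullback.condition]
  rw [Scheme.Hom.comp_apply, Scheme.Hom.comp_apply, hy] at h1
  rw [h1]
  exact IsLocalRing.comap_closedPoint (algebraMap A (Curv2.cpl A))

theorem snd_of_closedPoint (y : Curv2.bcCpl A f) (hy : f (Curv2.bcCplFst A f y) = closedPoint A) :
    Curv2.bcCplSnd A f y = closedPoint (Curv2.cpl A) := by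
  obtain ⟨y', h1, h2⟩ := exists_preimage A f _ hy
  rw [injective_of A f y y' hy h1.symm, h2]

/-- Closed points of a proper scheme over a local ring lie in the closed fibre. -/
theorem closedPoint_of_isClosed {B : Type u} [CommRing B] [IsLocalRing B] {Y : Scheme.{u}}
    (g : Y ⟶ Spec (CommRingCat.of B)) [UniversallyClosed g] (y : Y) (hy : IsClosed ({y} : Set Y)) :
    g y = closedPoint B := by
  have h1 : IsClosed (g '' {y}) := g.isClosedMap _ hy
  rw [Set.image_singleton] at h1
  have h2 : closedPoint B ∈ ({g y} : Set (Spec (CommRingCat.of B))) :=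
    (IsLocalRing.specializes_closedPoint (g y)).mem_closed h1 rfl
  exact h2.symm

theorem isClosed_fst [UniversallyClosed f] (y : Curv2.bcCpl A f) (hy : IsClosed ({y} : Set (Curv2.bcCpl A f))) :
    f (Curv2.bcCplFst A f y) = closedPoint A ∧ IsClosed ({Curv2.bcCplFst A f y} : Set X) := by
  have h0 := closedPoint_of_snd A f y (closedPoint_of_isClosed (Curv2.bcCplSnd A f) y hy)
  refine ⟨h0, ?_⟩
  rw [← closure_subset_iff_isClosed]
  intro x hx
  have hyx : Curv2.bcCplFst A f y ⤳ x := specializes_iff_mem_closure.2 hx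
  have hfx : f x = closedPoint A := by
    have h1 := hyx.map f.continuous
    rw [h0] at h1
    exact (h1.antisymm (IsLocalRing.specializes_closedPoint _)).symm.eq
  obtain ⟨y', hy'1, hy'2⟩ := exists_preimage A f x hfx
  have h3 : y ⤳ y' := specializes_of A f y y' h0 (by rw [hy'1]; exact hfx) (by rw [hy'1]; exact hyx)
  have h4 : y' ∈ ({y} : Set (Curv2.bcCpl A f)) := h3.mem_closed hy rfl
  have h5 : y' = y := h4
  rw [← hy'1, h5]
  rfl

/-- The ideal of a closed point pulls back to the ideal of the point above it. -/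
theorem comap_pt_fst (y : Curv2.bcCpl A f) (hy : IsClosed ({y} : Set (Curv2.bcCpl A f)))
    (h0 : f (Curv2.bcCplFst A f y) = closedPoint A)
    (hx : IsClosed ({Curv2.bcCplFst A f y} : Set X)) :
    (pt (Curv2.bcCplFst A f y) hx).comap (Curv2.bcCplFst A f) = pt y hy := by
  apply ext_stalkIdeal
  intro w
  rw [stalkIdeal_comap]
  by_cases hw : w = y
  · subst hw
    rw [stalkIdeal_pt, stalkIdeal_pt]
    exact map_maximalIdeal_stalkMap_bcCplFst A f w h0
  · have h1 : Curv2.bcCplFst A f w ∉ (pt (Curv2.bcCplFst A f y) hx).support := by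
      rw [mem_support_pt]
      intro h
      exact hw (injective_of A f w y (by rw [h]; exact h0) h)
    have h2 : w ∉ (pt y hy).support := by
      rw [mem_support_pt]
      exact hw
    rw [(notMem_support_iff_stalkIdeal_eq_top _ _).1 h1, (notMem_support_iff_stalkIdeal_eq_top _ _).1 h2,
      Ideal.map_top]

end Groth.Agent.Resolve.K375.CplDesc
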