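import Groth.Agent.Resolve.K375.DomMain
import Groth.Agent.Lipman.EssFT
import Groth.Agent.S2344
import Groth.Agent.S2622
import Groth.Agent.S0568

/-!
# Normal modifications over a complete local ring of dimension two have finitely many singular points
-/

set_option autoImplicit false
universe u

open CategoryTheory CategoryTheory.Limits AlgebraicGeometry IsLocalRing

namespace Groth.Agent.Resolve.K375.CplFin

open Tower GChain Geo CurvesC.Modif NormSt DomMain

theorem two_le_of_not_regular {Z : Scheme.{u}} [IsLocallyNoetherian Z] (h : Pi1.IsNormalScheme Z) (z : Z)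
    (hz : ¬ IsRegularLocalRing (Z.presheaf.stalk z)) : (2 : WithBot ℕ∞) ≤ ringKrullDim (Z.presheaf.stalk z) := by
  apply two_le_of_not
  intro hle
  apply hz
  obtain ⟨h1, h2⟩ := h z
  exact Groth.Agent.S2344.isRegular_of_normal _ hle

theorem isRegular_stalk_iff {Z : Scheme.{u}} (U : Z.Opens) (hU : IsAffineOpen U) (z : Z) (hz : z ∈ U) :
    IsRegularLocalRing (Z.presheaf.stalk z) ↔
      IsRegularLocalRing (Localization.AtPrime (hU.primeIdealOf ⟨z, hz⟩).asIdeal) := by
  let _ := TopCat.Presheaf.algebra_section_stalk Z.presheaf (⟨z, hz⟩ : U)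
  have hloc := hU.isLocalization_stalk ⟨z, hz⟩
  let e := IsLocalization.algEquiv (hU.primeIdealOf ⟨z, hz⟩).asIdeal.primeCompl
    (Localization.AtPrime (hU.primeIdealOf ⟨z, hz⟩).asIdeal) (Z.presheaf.stalk z)
  constructor
  · intro h
    exact IsRegularLocalRing.of_ringEquiv e.symm.toRingEquiv
  · intro h
    exact IsRegularLocalRing.of_ringEquiv e.toRingEquiv

theorem finite_singular {R : Type u} [CommRing R] [IsNoetherianRing R] [IsLocalRing R]
    [IsAdicComplete (maximalIdeal R) R] {Z : Scheme.{u}} (r : Z ⟶ Spec (CommRingCat.of R)) [LocallyOfFiniteType r]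
    [IsNoetherian Z] (hn : Pi1.IsNormalScheme Z) (hd : ∀ z : Z, ringKrullDim (Z.presheaf.stalk z) ≤ 2) :
    {z : Z | ¬ IsRegularLocalRing (Z.presheaf.stalk z)}.Finite := by
  have key : ∀ z : Z, ∃ U : Z.Opens, z ∈ U ∧ {w : Z | w ∈ U ∧ ¬ IsRegularLocalRing (Z.presheaf.stalk w)}.Finite := by
    intro z
    obtain ⟨U, hU, hzU, -⟩ := exists_isAffineOpen_mem_and_subset (X := Z) (x := z) (U := ⊤) trivial
    refine ⟨U, hzU, ?_⟩
    have hNoeth : IsNoetherianRing Γ(Z, U) := IsLocallyNoetherian.component_noetherian ⟨U, hU⟩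
    have hft : ((r.appLE ⊤ U le_top).hom).FiniteType :=
      LocallyOfFiniteType.finiteType_appLE r (isAffineOpen_top _) hU le_top
    let ρ : R →+* Γ(Z, U) := (r.appLE ⊤ U le_top).hom.comp (Scheme.ΓSpecIso (CommRingCat.of R)).inv.hom
    have hρ : ρ.FiniteType := by
      refine RingHom.FiniteType.comp hft (RingHom.FiniteType.of_surjective _ ?_)
      exact (ConcreteCategory.bijective_of_isIso (Scheme.ΓSpecIso (CommRingCat.of R)).inv).2
    let _ : Algebra R Γ(Z, U) := ρ.toAlgebra
    have hft' : Algebra.FiniteType R Γ(Z, U) := hρ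
    have hJ := Groth.Agent.S2622.result R Γ(Z, U) hft'
    have hfin := Lipman.EssFT.finite_of_isClosed (C := Γ(Z, U)) (EGA4.regLocus Γ(Z, U))ᶜ hJ.isClosed_compl (by
      intro P hP
      have hP' : ¬ IsRegularLocalRing (Localization.AtPrime P.asIdeal) := hP
      obtain ⟨w, hw⟩ : ∃ w, hU.fromSpec P = w := ⟨_, rfl⟩
      have hwU : w ∈ U := by
        have h1 : w ∈ Set.range hU.fromSpec := ⟨P, hw⟩
        rwa [hU.range_fromSpec] at h1
      have hprime : hU.primeIdealOf ⟨w, hwU⟩ = P := by
        apply hU.fromSpec.isOpenEmbedding.injective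
        rw [hU.fromSpec_primeIdealOf]
        exact hw.symm
      have h2 : ¬ IsRegularLocalRing (Z.presheaf.stalk w) := by
        rw [isRegular_stalk_iff U hU w hwU, hprime]
        exact hP'
      have hcl : IsClosed ({w} : Set Z) := isClosed_of_dim 2 hd w (two_le_of_not_regular hn w h2)
      have h3 := hU.primeIdealOf_isMaximal_of_isClosed ⟨w, hwU⟩ hcl
      rwa [hprime] at h3)
    refine (hfin.image hU.fromSpec).subset ?_
    rintro w ⟨hwU, hw⟩
    refine ⟨hU.primeIdealOf ⟨w, hwU⟩, ?_, hU.fromSpec_primeIdealOf _⟩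
    rw [isRegular_stalk_iff U hU w hwU] at hw
    exact hw
  choose U hzU hU using key
  obtain ⟨t, ht⟩ := CompactSpace.elim_nhds_subcover (fun z => (U z : Set Z)) (fun z => (U z).isOpen.mem_nhds (hzU z))
  refine (Set.Finite.biUnion t.finite_toSet (fun z _ => hU z)).subset ?_
  intro w hw
  have h1 : w ∈ ⋃ z ∈ t, (U z : Set Z) := by rw [ht]; trivial
  obtain ⟨z, hz, hwz⟩ := Set.mem_iUnion₂.1 h1
  exact Set.mem_iUnion₂.2 ⟨z, hz, hwz, hw⟩

/-- Stalks of spectra. -/
theorem stalkEquiv (R : Type u) [CommRing R] (x : PrimeSpectrum R) :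
    Nonempty (Localization.AtPrime x.asIdeal ≃+* (Spec (CommRingCat.of R)).presheaf.stalk x) :=
  ⟨(Spec.stalkIso (CommRingCat.of R) x).symm.commRingCatIsoToRingEquiv⟩

theorem isNormalScheme_spec (R : Type u) [CommRing R] [IsDomain R] [IsIntegrallyClosed R] :
    Pi1.IsNormalScheme (Spec (CommRingCat.of R)) := by
  intro (x : PrimeSpectrum R)
  obtain ⟨e⟩ := stalkEquiv R x
  have h1 : IsDomain (Localization.AtPrime x.asIdeal) :=
    IsLocalization.isDomain_localization x.asIdeal.primeCompl_le_nonZeroDivisors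
  have h2 : IsIntegrallyClosed (Localization.AtPrime x.asIdeal) :=
    isIntegrallyClosed_of_isLocalization _ x.asIdeal.primeCompl x.asIdeal.primeCompl_le_nonZeroDivisors
  exact ⟨e.symm.toMulEquiv.isDomain _, IsIntegrallyClosed.of_equiv e⟩

theorem ringKrullDim_stalk_spec_le (R : Type u) [CommRing R] (x : PrimeSpectrum R) :
    ringKrullDim ((Spec (CommRingCat.of R)).presheaf.stalk x) ≤ ringKrullDim R := by
  obtain ⟨e⟩ := stalkEquiv R x
  rw [← ringKrullDim_eq_of_ringEquiv e,
    IsLocalization.AtPrime.ringKrullDim_eq_height x.asIdeal (Localization.AtPrime x.asIdeal)]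
  exact Ideal.height_le_ringKrullDim_of_ne_top x.isPrime.ne_top

/-- The spectrum of a complete normal local domain of dimension at most two belongs to the class. -/
theorem clN_id (R : Type u) [CommRing R] [IsDomain R] [IsNoetherianRing R] [IsLocalRing R] [IsIntegrallyClosed R]
    [IsAdicComplete (maximalIdeal R) R] (hd : ringKrullDim R ≤ 2) : ClN (𝟙 (Spec (CommRingCat.of R))) :=
  ⟨⟨inferInstance, inferInstance, ⊤, ⟨genericPoint _, trivial⟩, inferInstance⟩, inferInstance, isNormalScheme_spec R,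
    _root_.K375.NagSch.isNag_Spec (Groth.Agent.S0568.result R), fun z => (ringKrullDim_stalk_spec_le R z).trans hd⟩

end Groth.Agent.Resolve.K375.CplFin
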