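import Groth.Agent.Resolve.K375.NQuad

/-!
# Resolution by normalized point blow-ups over complete normal local rings of dimension two
-/

set_option autoImplicit false
universe u

open CategoryTheory CategoryTheory.Limits AlgebraicGeometry IsLocalRing

namespace Groth.Agent.Resolve.K375.CplRes

open Tower GChain Geo CurvesC.Modif NormSt DomMain CplFin NQuad
open Groth.Agent.Sga7.H150.Quad Groth.Agent.Sga7.H150.AccAux
open Groth.Agent.Lipman.Defs Groth.Agent.Lipman.EssFT

/-! ### essentially finite type -/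

theorem essFT_range {R A K : Type u} [CommRing R] [CommRing A] [Field K] (ρ : R →+* A)
    (hρ : ρ.EssFiniteType) (ψ : A →+* K) (R' : Subring K)
    (hR' : ∀ r, ψ (ρ r) ∈ R') (hle : R' ≤ ψ.range) : EssFT R' ψ.range := by
  let _ : Algebra R A := ρ.toAlgebra
  have hE : Algebra.EssFiniteType R A := hρ
  let σ := Algebra.EssFiniteType.finset R A
  have h1 : ∀ b ∈ Algebra.EssFiniteType.subalgebra R A,
      ψ b ∈ Subring.closure ((R' : Set K) ∪ ψ '' (σ : Set A)) := by
    intro b hb
    induction hb using Algebra.adjoin_induction with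
    | mem x hx => exact Subring.subset_closure (Or.inr ⟨x, hx, rfl⟩)
    | algebraMap r => exact Subring.subset_closure (Or.inl (hR' r))
    | add x y _ _ hx hy => rw [map_add]; exact add_mem hx hy
    | mul x y _ _ hx hy => rw [map_mul]; exact mul_mem hx hy
  refine ⟨ψ '' (σ : Set A), σ.finite_toSet.image ψ, ?_, ?_⟩
  · rw [Subring.closure_le]
    rintro z (hz | ⟨x, -, rfl⟩)
    · exact hle hz
    · exact ⟨x, rfl⟩
  · rintro _ ⟨b, rfl⟩
    obtain ⟨⟨x, s⟩, hs⟩ := IsLocalization.surj (Algebra.EssFiniteType.submonoid R A) b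
    have hsu : IsUnit ((s : Algebra.EssFiniteType.subalgebra R A) : A) := s.2
    obtain ⟨t, ht⟩ := hsu.exists_right_inv
    have ht' : ψ (s : Algebra.EssFiniteType.subalgebra R A) * ψ t = 1 := by rw [← map_mul, ht, map_one]
    have hs0 : ψ (s : Algebra.EssFiniteType.subalgebra R A) ≠ 0 := left_ne_zero_of_mul_eq_one ht'
    refine ⟨ψ (s : Algebra.EssFiniteType.subalgebra R A), h1 _ (s : Algebra.EssFiniteType.subalgebra R A).2, hs0,
      ⟨t, ?_⟩, ?_⟩
    · exact (DivisionMonoid.inv_eq_of_mul _ _ ht').symm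
    · rw [← map_mul]
      have h5 : b * ((s : Algebra.EssFiniteType.subalgebra R A) : A) = x := hs
      rw [h5]
      exact h1 _ x.2

/-- The ring homomorphism underlying a germ over an affine scheme. -/
noncomputable def rho {R : Type u} [CommRing R] (P : Germ (Spec (CommRingCat.of R))) : R →+* P.A :=
  (Spec.preimage P.a).hom

theorem map_rho {R : Type u} [CommRing R] (P : Germ (Spec (CommRingCat.of R))) :
    Spec.map (CommRingCat.ofHom (rho P)) = P.a := Spec.map_preimage P.a

theorem rho_eq {R : Type u} [CommRing R] {P P' : Germ (Spec (CommRingCat.of R))} (φ : P.A →+* P'.A)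
    (h : Spec.map (CommRingCat.ofHom φ) ≫ P.a = P'.a) : φ.comp (rho P) = rho P' := by
  have h1 : Spec.map (CommRingCat.ofHom (φ.comp (rho P))) = Spec.map (CommRingCat.ofHom (rho P')) := by
    rw [map_rho, ← h, ← map_rho P, ← Spec.map_comp]
    rfl
  have h2 := Spec.map_injective h1
  exact congrArg CommRingCat.Hom.hom h2

theorem rho_of {R : Type u} [CommRing R] {W : Scheme.{u}} (q : W ⟶ Spec (CommRingCat.of R)) (w : W) :
    rho (Germ.of q w) = (((Scheme.ΓSpecIso (CommRingCat.of R)).inv ≫
      (Spec (CommRingCat.of R)).presheaf.germ ⊤ (q w) trivial) ≫ q.stalkMap w).hom := by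
  have h4 : Spec.map (CommRingCat.ofHom (rho (Germ.of q w))) = Spec.map (((Scheme.ΓSpecIso (CommRingCat.of R)).inv ≫
      (Spec (CommRingCat.of R)).presheaf.germ ⊤ (q w) trivial) ≫ q.stalkMap w) := by
    refine (map_rho _).trans ?_
    rw [Spec.map_comp, ← Spec.fromSpecStalk_eq, Scheme.SpecMap_stalkMap_fromSpecStalk]
    rfl
  exact congrArg CommRingCat.Hom.hom (Spec.map_injective h4)

theorem bijective_rho {R : Type u} [CommRing R] [IsLocalRing R] (z : Spec (CommRingCat.of R))
    (hz : z = closedPoint R) : Function.Bijective (rho (Germ.of (𝟙 (Spec (CommRingCat.of R))) z)) := by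
  have h5 := rho_of (𝟙 (Spec (CommRingCat.of R))) z
  have h1 : ∀ x : Spec (CommRingCat.of R), x = closedPoint R →
      IsIso ((Spec (CommRingCat.of R)).presheaf.germ ⊤ x trivial) := by
    rintro _ rfl
    rw [← ΓSpecIso_hom_stalkClosedPointIso_inv]
    infer_instance
  have h2 := h1 ((𝟙 (Spec (CommRingCat.of R)) : _ ⟶ _) z) (by exact hz)
  rw [h5]
  exact ConcreteCategory.bijective_of_isIso _

theorem isIntegral_range {B A K : Type*} [CommRing B] [CommRing A] [Field K] (β : B →+* A) (ψ : A →+* K) (c : A)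
    (h : β.IsIntegralElem c) : IsIntegral (ψ.comp β).range (ψ c) := by
  obtain ⟨p, hp, hpc⟩ := h
  refine ⟨p.map (ψ.comp β).rangeRestrict, hp.map _, ?_⟩
  have h1 : (algebraMap (ψ.comp β).range K).comp (ψ.comp β).rangeRestrict = ψ.comp β := by
    ext b; rfl
  rw [Polynomial.eval₂_map, h1, ← Polynomial.hom_eval₂, hpc, map_zero]

theorem essFiniteType_rho {R : Type u} [CommRing R] {W : Scheme.{u}} (q : W ⟶ Spec (CommRingCat.of R))
    [LocallyOfFiniteType q] (w : W) : (rho (Germ.of q w)).EssFiniteType := by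
  have h5 := rho_of q w
  have h1 : (q.stalkMap w).hom.EssFiniteType := LocallyOfFiniteType.stalkMap q w
  have h2 : ((Spec (CommRingCat.of R)).presheaf.germ ⊤ (q w) trivial).hom.EssFiniteType := by
    have hloc := (isAffineOpen_top (Spec (CommRingCat.of R))).isLocalization_stalk ⟨q w, trivial⟩
    let _ := TopCat.Presheaf.algebra_section_stalk (Spec (CommRingCat.of R)).presheaf
      (⟨q w, trivial⟩ : (⊤ : (Spec (CommRingCat.of R)).Opens))
    exact Algebra.EssFiniteType.of_isLocalization _ ((isAffineOpen_top (Spec (CommRingCat.of R))).primeIdealOf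
      ⟨q w, trivial⟩).asIdeal.primeCompl
  have h3 : ((Scheme.ΓSpecIso (CommRingCat.of R)).inv).hom.EssFiniteType :=
    (RingHom.FiniteType.of_surjective _
      (ConcreteCategory.bijective_of_isIso (Scheme.ΓSpecIso (CommRingCat.of R)).inv).2).essFiniteType
  rw [h5, CommRingCat.hom_comp, CommRingCat.hom_comp]
  exact (h3.comp h2).comp h1

/-! ### the system -/

variable (R : Type u) [CommRing R] [IsDomain R] [IsNoetherianRing R] [IsLocalRing R] [IsIntegrallyClosed R]
  [IsAdicComplete (maximalIdeal R) R]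

theorem not_regular_ne_genericPoint {S Z : Scheme.{u}} {r : Z ⟶ S} (h : ClN r) (z : Z)
    (hz : ¬ IsRegularLocalRing (Z.presheaf.stalk z)) : haveI := h.modif.integral; z ≠ genericPoint Z := by
  have := h.modif.integral
  rintro rfl
  exact hz (CurveSeq.isRegularLocalRing_generic Z)

/-- The system: normal modifications, normalized point blow-ups, singular points. -/
def sys : Sys (Spec (CommRingCat.of R)) where
  C := fun {Z} r => ClN (Z := Z) r
  St := NSt
  Bad P := ¬ IsRegularLocalRing P.A
  bad_iso := by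
    rintro P Q ⟨e, -⟩ hP hQ
    exact hP (IsRegularLocalRing.of_ringEquiv e.symm)
  fin r h := by
    have := h.noeth
    have := h.modif.proper
    exact finite_singular r h.normal h.dim
  ex := by
    intro Z r z h hz
    have := h.modif.integral
    have := h.noeth
    have hne := not_regular_ne_genericPoint h z hz
    have hcl : IsClosed ({z} : Set Z) := isClosed_of_dim 2 h.dim z (two_le_of_not_regular h.normal z hz)
    obtain ⟨Y, b, hb⟩ := exists_nst h z hcl hne
    exact ⟨Y, b, hb, h.step hb hne⟩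
  off _ _ _ h hb := hb.off h

/-- **Resolution by normalized point blow-ups over complete normal local rings of dimension two.** -/
theorem exists_seq (hd : ringKrullDim R = 2) : ∃ (Y : Scheme.{u}) (g : Y ⟶ Spec (CommRingCat.of R)),
    Seq NSt g ∧ ClN g ∧ ∀ y, IsRegularLocalRing (Y.presheaf.stalk y) := by
  have hC := clN_id R hd.le
  obtain ⟨Y, b, hs, hC', hb⟩ := (sys R).exists_seq (𝟙 (Spec (CommRingCat.of R))) hC (by
    intro z hz P hP0 hrel
    have hz' : ¬ IsRegularLocalRing ((Spec (CommRingCat.of R)).presheaf.stalk z) := hz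
    have hPn : ∀ n, ∃ (W : Scheme.{u}) (q : W ⟶ Spec (CommRingCat.of R)) (w : W), ClN q ∧ P n = Germ.of q w ∧
        ¬ IsRegularLocalRing (W.presheaf.stalk w) := by
      intro n
      rcases n with _ | n
      · exact ⟨_, 𝟙 _, z, hC, hP0, hz⟩
      · obtain ⟨W, Y, q, b, y, -, h2, -, -, h5, -, h7⟩ := hrel n
        refine ⟨Y, b ≫ q, y, h2, h5.symm, ?_⟩
        rw [← h5] at h7
        exact h7
    have hstep : ∀ n, ∃ φ : (P n).A →+* (P (n + 1)).A, PStep φ ∧ NQ φ ∧
        Spec.map (CommRingCat.ofHom φ) ≫ (P n).a = (P (n + 1)).a := by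
      intro n
      have key : ∀ P P' : Germ (Spec (CommRingCat.of R)), (sys R).Rel P' P → ∃ φ : P.A →+* P'.A, PStep φ ∧ NQ φ ∧
          Spec.map (CommRingCat.ofHom φ) ≫ P.a = P'.a := by
        rintro P P' ⟨Z, Y, r, b, y, hC1, hC1', hst, hiso, rfl, hbad, hbad'⟩
        have hC0 : ClN r := hC1
        have := hC0.modif.integral
        have hb2 : ¬ IsRegularLocalRing (Z.presheaf.stalk (b y)) := (sys R).bad_iso hiso.symm hbad
        have hne := not_regular_ne_genericPoint hC0 _ hb2
        obtain ⟨e, he⟩ := exists_hom r b y hiso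
        have hst' : NSt Y Z b (b y) := hst
        exact ⟨(b.stalkMap y).hom.comp (e : P.A →+* Z.presheaf.stalk (b y)),
          pstep_comp_equiv (hst'.pstep hC0 hne) e, (NQuad.NSt.nq hC0 hst' hne).comp_equiv e, he⟩
      exact key _ _ (hrel n)
    choose φ hφ hnq hφS using hstep
    have hdom : ∀ n, IsDomain (P n).A := by
      intro n
      obtain ⟨W, q, w, hq, hw, -⟩ := hPn n
      rw [hw]
      exact (hq.normal w).1
    have hic : ∀ n, IsIntegrallyClosed (P n).A := by
      intro n
      obtain ⟨W, q, w, hq, hw, -⟩ := hPn n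
      rw [hw]
      exact (hq.normal w).2
    have hnreg : ∀ n, ¬ IsRegularLocalRing (P n).A := by
      intro n
      obtain ⟨W, q, w, hq, hw, hnr⟩ := hPn n
      rw [hw]
      exact hnr
    have hess : ∀ n, (rho (P n)).EssFiniteType := by
      intro n
      obtain ⟨W, q, w, hq, hw, -⟩ := hPn n
      rw [hw]
      have := hq.modif.proper
      exact essFiniteType_rho q w
    obtain ⟨ψ, h0, hinj, hcomp, hc, C, hCn⟩ := exists_chain P hdom φ hφS hφ
      (algebraMap (P 0).A (FractionRing (P 0).A)) (IsFractionRing.injective _ _)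
    have hz0 : z = closedPoint R := by
      by_contra hne
      have h1 := ringKrullDim_add_one_le (X := Spec (CommRingCat.of R)) (IsLocalRing.specializes_closedPoint z) hne
      have h2 := two_le_of_not_regular hC.normal z hz'
      have h3 := ringKrullDim_stalk_spec_le R (closedPoint R)
      have h4 : (2 : WithBot ℕ∞) + 1 ≤ 2 := (add_le_add_left h2 1).trans (h1.trans (h3.trans hd.le))
      have h5 : ((2 + 1 : ℕ∞) : WithBot ℕ∞) ≤ ((2 : ℕ∞) : WithBot ℕ∞) := h4
      have h6 : (2 + 1 : ℕ∞) ≤ 2 := WithBot.coe_le_coe.1 h5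
      exact absurd h6 (by decide)
    have hbij : Function.Bijective (rho (P 0)) := by
      rw [hP0]
      exact bijective_rho z hz0
    let e : R ≃+* (im (ψ 0)).toSubring := (RingEquiv.ofBijective _ hbij).trans (eqv (ψ 0) (hinj 0))
    have i1 : IsNoetherianRing (im (ψ 0)).toSubring := isNoetherianRing_of_ringEquiv R e
    have i2 : IsIntegrallyClosed (im (ψ 0)).toSubring := IsIntegrallyClosed.of_equiv e
    have i3 : IsAdicComplete (maximalIdeal (im (ψ 0)).toSubring) (im (ψ 0)).toSubring :=
      CalgB.PowSer.isAdicComplete_maximalIdeal_of_ringEquiv e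
    have i4 : IsFractionRing (im (ψ 0)).toSubring (FractionRing (P 0).A) := by
      rw [h0]; exact isFractionRing_im
    have hd' : ringKrullDim (im (ψ 0)).toSubring = 2 := by rw [← ringKrullDim_eq_of_ringEquiv e]; exact hd
    refine LipTower.false_of_tower (im (ψ 0)).toSubring hd' C (by rw [hCn 0]) ?_ ?_ ?_ ?_
    · intro n
      rw [hCn n]
      have hle : (im (ψ 0)).toSubring ≤ (ψ n).range := by
        obtain ⟨φ', -, hφ'⟩ := hc n
        rintro _ ⟨a, rfl⟩
        exact ⟨φ' a, by rw [← hφ']; rfl⟩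
      refine essFT_range (rho (P n)) (hess n) (ψ n) _ (fun r => ?_) hle
      refine ⟨rho (P 0) r, ?_⟩
      obtain ⟨φ', hφ'1, hφ'2⟩ := hc n
      rw [← rho_eq φ' hφ'1, ← hφ'2]
      rfl
    · intro n
      rw [hCn n]
      have := hic n
      exact IsIntegrallyClosed.of_equiv (eqv (ψ n) (hinj n))
    · intro n
      rw [hCn n]
      intro hr
      exact hnreg n (IsRegularLocalRing.of_ringEquiv (eqv (ψ n) (hinj n)).symm)
    · intro n
      rw [hCn n, hCn (n + 1)]
      obtain ⟨B, i1, i2, α, β, hα, hβ, hβloc, hfr, hφeq⟩ := hnq n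
      refine ⟨((ψ (n + 1)).comp β).range, ?_, ?_, ?_, ?_⟩
      · refine LipTower.qt_of_isQuad hα ?_ ((hinj (n + 1)).comp hβ) ?_
        · intro hF
          let _ : Field (P n).A := hF.toField
          exact hnreg n inferInstance
        · rw [RingHom.comp_assoc, ← hφeq, hcomp n]
      · rintro _ ⟨b, rfl⟩
        exact ⟨β b, rfl⟩
      · rintro _ ⟨b, rfl⟩ ⟨c, hc'⟩
        by_cases hb0 : ((ψ (n + 1)).comp β) b = 0
        · rw [hb0, inv_zero]; exact zero_mem _
        · have h1 : β b * c = 1 := by
            apply hinj (n + 1)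
            rw [map_mul, hc', map_one]
            exact mul_inv_cancel₀ hb0
          have h2 : IsUnit b := hβloc.map_nonunit b (IsUnit.of_mul_eq_one c h1)
          obtain ⟨v, rfl⟩ := h2
          exact ⟨(v⁻¹ : Bˣ), by rw [← map_units_inv]⟩
      · rintro _ ⟨a, rfl⟩
        obtain ⟨c, s, hs, hci, hsi, has⟩ := hfr a
        have hs0 : ψ (n + 1) s ≠ 0 := fun h => hs.ne_zero (hinj (n + 1) (by rw [h, map_zero]))
        refine ⟨ψ (n + 1) s, hs0, ?_, isIntegral_range β _ s hsi, ?_⟩
        · obtain ⟨v, rfl⟩ := hs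
          exact ⟨(v⁻¹ : (P (n + 1)).Aˣ), by rw [← map_units_inv]⟩
        · rw [← map_mul, has]
          exact isIntegral_range β _ c hci)
  exact ⟨Y, b, hs, by rwa [Category.comp_id] at hC', fun y => not_not.1 (hb y)⟩

end Groth.Agent.Resolve.K375.CplRes
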