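import Groth.Agent.Resolve.K375.CplStep
import Groth.Agent.Resolve.K375.CplRes
import Groth.Agent.S1597
import Groth.Agent.S0547

/-!
# Resolution by normalized point blow-ups over local rings with normal completion
-/

set_option autoImplicit false
universe u

open CategoryTheory CategoryTheory.Limits AlgebraicGeometry IsLocalRing

namespace Groth.Agent.Resolve.K375.CplMain

open Tower Geo CurvesC.Modif NormSt CplStep

theorem exists_seq (A : Type u) [CommRing A] [IsDomain A] [IsLocalRing A] [IsNoetherianRing A] [IsIntegrallyClosed A]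
    [IsDomain (Curv2.cpl A)] [IsIntegrallyClosed (Curv2.cpl A)] (hdim : ringKrullDim A = 2) (hCN : CN A) :
    ∃ (Y : Scheme.{u}) (g : Y ⟶ Spec (CommRingCat.of A)), Seq NSt g ∧ CA A g ∧
      ∀ y, IsRegularLocalRing (Y.presheaf.stalk y) := by
  have hNoeth : IsNoetherianRing (Curv2.cpl A) := Groth.Agent.S0543.result A _
  have hd : ringKrullDim (Curv2.cpl A) = 2 := by rw [Groth.Agent.S0547.result, hdim]
  obtain ⟨Y, g, hg, hC, hreg⟩ := CplRes.exists_seq (Curv2.cpl A) hd
  have hnt : Nontrivial (Spec (CommRingCat.of A)) := by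
    refine ⟨⟨closedPoint A, genericPoint (Spec (CommRingCat.of A)), fun h => ?_⟩⟩
    rw [genericPoint_eq_bot_of_affine] at h
    have h1 : maximalIdeal A = ⊥ := congrArg PrimeSpectrum.asIdeal h
    have h2 : IsField A := IsLocalRing.isField_iff_maximalIdeal_eq.2 h1
    have h3 := ringKrullDim_eq_zero_of_isField h2
    rw [hdim] at h3
    exact absurd h3 (by decide)
  have hCA : CA A (𝟙 (Spec (CommRingCat.of A))) :=
    ⟨StrictSeq.isModif_id _, inferInstance, CplFin.isNormalScheme_spec A⟩
  obtain ⟨Y₀, g₀, h1, h2, ⟨e⟩⟩ := exists_descent A hCN hg (𝟙 _) hCA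
    (asIso (Curv2.bcCplSnd A (𝟙 (Spec (CommRingCat.of A))))).symm
  rw [Category.comp_id] at h2 e
  refine ⟨Y₀, g₀, h1, h2, ?_⟩
  have := h2.modif.proper
  rw [Groth.Agent.S1597.result A Y₀ g₀]
  exact StrictSeq.isRegularLocalRing_of_isIso e.inv hreg

end Groth.Agent.Resolve.K375.CplMain
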