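import Groth.Agent.Resolve.K375.CplDesc
import Groth.Agent.CurvesC.ModDim
import Mathlib.AlgebraicGeometry.Morphisms.UniversallyOpen

/-!
# Modifications after base change to the completion
-/

set_option autoImplicit false
universe u

open CategoryTheory CategoryTheory.Limits AlgebraicGeometry IsLocalRing

namespace Groth.Agent.Resolve.K375.CplMod

open Tower Geo CurvesC.Modif NormSt Strict Groth.Agent.CurvesC.RegCompl

theorem isIso_restrict_of_isPullback {X Y X' Y' : Scheme.{u}} {p : X' ⟶ X} {g : X' ⟶ Y'} {f : X ⟶ Y} {c : Y' ⟶ Y}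
    (h : IsPullback p g f c) (U : Y.Opens) (hU : IsIso (f ∣_ U)) : IsIso (g ∣_ (c ⁻¹ᵁ U)) := by
  have h1 : IsPullback (g ∣_ (c ⁻¹ᵁ U)) (g ⁻¹ᵁ (c ⁻¹ᵁ U)).ι (c ⁻¹ᵁ U).ι g := isPullback_morphismRestrict g _
  have h2 : IsPullback (f ∣_ U) (f ⁻¹ᵁ U).ι U.ι f := isPullback_morphismRestrict f U
  have h3 := h1.flip.paste_horiz h
  have h4 : (c ⁻¹ᵁ U).ι ≫ c = (c ∣_ U) ≫ U.ι := (morphismRestrict_ι c U).symm
  rw [h4] at h3
  have hw : ((g ⁻¹ᵁ (c ⁻¹ᵁ U)).ι ≫ p) ≫ f = ((g ∣_ (c ⁻¹ᵁ U)) ≫ (c ∣_ U)) ≫ U.ι := by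
    rw [Category.assoc]; exact h3.w
  have h5 : IsPullback (h2.flip.lift _ _ hw) (g ∣_ (c ⁻¹ᵁ U)) (f ∣_ U) (c ∣_ U) := by
    refine IsPullback.of_right ?_ ?_ h2.flip
    · rw [h2.flip.lift_fst]; exact h3
    · rw [h2.flip.lift_snd]
  exact MorphismProperty.of_isPullback (P := MorphismProperty.isomorphisms Scheme) h5 hU

/-- A flat base change of a modification (with reduced total space) is a modification, if the new base is integral. -/
theorem isModif_of_isPullback {X Y X' Y' : Scheme.{u}} {p : X' ⟶ X} {g : X' ⟶ Y'} {f : X ⟶ Y} {c : Y' ⟶ Y}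
    (h : IsPullback p g f c) (hf : IsModif f) [IsIntegral Y] [IsIntegral Y'] [Flat p]
    (hc : c (genericPoint Y') = genericPoint Y)
    (hred : IsReduced X') : IsModif g := by
  have := hf.proper
  have := hf.integral
  have hg : IsProper g := MorphismProperty.of_isPullback (P := @IsProper) h ‹_›
  obtain ⟨U, hU, hUi⟩ := hf.exists_isIso
  have hgU := isIso_restrict_of_isPullback h U hUi
  have hgen : genericPoint Y ∈ U := ((genericPoint_spec Y).mem_open_set_iff U.isOpen).mpr (by simpa using hU)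
  have hV : genericPoint Y' ∈ c ⁻¹ᵁ U := by
    change c (genericPoint Y') ∈ U
    rw [hc]; exact hgen
  refine ⟨hg, ?_, c ⁻¹ᵁ U, ⟨_, hV⟩, hgU⟩
  have hne : Nonempty (c ⁻¹ᵁ U) := ⟨⟨_, hV⟩⟩
  have i1 : IsIntegral (c ⁻¹ᵁ U).toScheme := inferInstance
  have i2 : IsIntegral (g ⁻¹ᵁ (c ⁻¹ᵁ U)).toScheme := IsIntegral.of_isIso (inv (g ∣_ (c ⁻¹ᵁ U)))
  have hirr : IrreducibleSpace X' := by
    have hcl : closure {(g ⁻¹ᵁ (c ⁻¹ᵁ U)).ι (genericPoint (g ⁻¹ᵁ (c ⁻¹ᵁ U)).toScheme)} = Set.univ := by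
      rw [Set.eq_univ_iff_forall]
      intro y
      rw [← specializes_iff_mem_closure]
      obtain ⟨y', hy', hpy'⟩ := (Flat.generalizingMap p) (genericPoint_specializes (p y))
      refine Specializes.trans ?_ hy'
      have h1 : y' ∈ g ⁻¹ᵁ (c ⁻¹ᵁ U) := by
        change c (g y') ∈ U
        have h2 : c (g y') = f (p y') := by
          rw [← Scheme.Hom.comp_apply, ← Scheme.Hom.comp_apply, h.w]
        rw [h2, hpy', gen_of_isModif hf]
        exact hgen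
      have h3 : (g ⁻¹ᵁ (c ⁻¹ᵁ U)).ι ⟨y', h1⟩ = y' := rfl
      rw [← h3]
      exact (genericPoint_specializes _).map (g ⁻¹ᵁ (c ⁻¹ᵁ U)).ι.continuous
    have hirr2 : IsIrreducible (Set.univ : Set X') := by
      rw [← hcl]
      exact isIrreducible_singleton.closure
    have hp : PreirreducibleSpace X' := ⟨hirr2.isPreirreducible⟩
    exact ⟨⟨(g ⁻¹ᵁ (c ⁻¹ᵁ U)).ι (genericPoint (g ⁻¹ᵁ (c ⁻¹ᵁ U)).toScheme)⟩⟩
  exact isIntegral_of_irreducibleSpace_of_isReduced X'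

end Groth.Agent.Resolve.K375.CplMod
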