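import Groth.Agent.Resolve.K375.CplStep
import Groth.Agent.CalgA.SerreCrit
import Groth.Agent.Ega4C.FlatLocal
import Groth.Agent.Ega4A.Depth
import Groth.Agent.CycB.LocQuot
import Groth.Agent.Variety.K430.BirLoc
import Groth.Agent.Dix.ContractBasic

/-!
# Normality of the base change to the completion of a normal modification
-/

set_option autoImplicit false
universe u

open CategoryTheory CategoryTheory.Limits AlgebraicGeometry IsLocalRing

namespace Groth.Agent.Resolve.K375.CplNorm

open Groth.Agent.CalgA Groth.Agent.CycB.LocQuot Groth.Agent.CurvesC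
open Tower Geo CurvesC.Modif NormSt Strict CplMod CplDesc CplStep Groth.Agent.CurvesC.RegCompl

theorem depth_le_dim (R : Type u) [CommRing R] [IsLocalRing R] [IsNoetherianRing R] :
    ((LocCoh.depth R R : ℕ∞) : WithBot ℕ∞) ≤ ringKrullDim R := by
  obtain ⟨P, hP⟩ := associatedPrimes.nonempty R R
  exact (Groth.Agent.Ega4A.Depth.depth_le_ringKrullDim_quotient hP).trans
    (ringKrullDim_quotient_le P)

/-- Flat local extensions `B → C` with `m_B C = m_C`: normality of `B` and of the punctured spectrum of `C` implies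
normality of `C`. -/
theorem normal_of_flat (B C : Type u) [CommRing B] [CommRing C] [IsNoetherianRing B] [IsLocalRing B] [IsDomain B]
    [IsIntegrallyClosed B] [IsNoetherianRing C] [IsLocalRing C] [Algebra B C] [Module.Flat B C]
    (hm : (maximalIdeal B).map (algebraMap B C) = maximalIdeal C)
    (h : ∀ (p : Ideal C) [p.IsPrime], p ≠ maximalIdeal C →
      IsDomain (Localization.AtPrime p) ∧ IsIntegrallyClosed (Localization.AtPrime p)) :
    IsDomain C ∧ IsIntegrallyClosed C := by
  have hlocal : IsLocalHom (algebraMap B C) := by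
    refine ((IsLocalRing.local_hom_TFAE (algebraMap B C)).out 0 2).mpr ?_
    exact hm.le
  by_cases hd : ringKrullDim B ≤ 1
  · have h1 := SerreLocal.isRegularLocalRing_of_isIntegrallyClosed hd
    have h2 := isRegularLocalRing_of_flat B C hm
    exact ⟨RegNormal.isDomain _, RegNormal.isIntegrallyClosed _⟩
  · have h1 : 2 ≤ LocCoh.depth C C := by
      refine (SerreLocal.two_le_depth_of_isIntegrallyClosed hd).trans ?_
      rw [Groth.Agent.Ega4C.FlatLocal.depth_eq B C]
      exact le_self_add
    have h2 : ((2 : ℕ∞) : WithBot ℕ∞) ≤ ringKrullDim C := le_trans (WithBot.coe_le_coe.2 h1) (depth_le_dim C)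
    have hR : LocCoh.HasRk 1 C := by
      intro p hp hpht
      by_cases hpm : p = maximalIdeal C
      · exfalso
        subst hpm
        rw [← IsLocalRing.maximalIdeal_height_eq_ringKrullDim] at h2
        have h3 : (2 : ℕ∞) ≤ (maximalIdeal C).height := WithBot.coe_le_coe.1 h2
        have h4 := h3.trans hpht
        exact absurd h4 (by decide)
      · obtain ⟨i1, i2⟩ := h p hpm
        refine SerreLocal.isRegularLocalRing_of_isIntegrallyClosed ?_
        rw [IsLocalization.AtPrime.ringKrullDim_eq_height p]
        exact_mod_cast hpht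
    have hS : LocCoh.HasSk 2 C C := by
      rw [SerreLocal.hasSk_self_iff]
      intro p hp
      by_cases hpm : p = maximalIdeal C
      · subst hpm
        refine (min_le_left _ _).trans ?_
        rw [Nat.cast_ofNat]
        refine h1.trans ?_
        have hl : IsLocalHom (algebraMap C (Localization.AtPrime (maximalIdeal C))) := by
          refine ⟨fun c hc => ?_⟩
          rw [IsLocalization.AtPrime.isUnit_to_map_iff (Localization.AtPrime (maximalIdeal C)) (maximalIdeal C)] at hc
          exact of_not_not fun hn => hc ((mem_maximalIdeal c).2 hn)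
        rw [Groth.Agent.Ega4C.FlatLocal.depth_eq C (Localization.AtPrime (maximalIdeal C))]
        exact le_self_add
      · obtain ⟨i1, i2⟩ := h p hpm
        by_cases hh : p.height ≤ 1
        · refine (min_le_right _ _).trans ?_
          by_cases h0 : p.height ≤ 0
          · exact h0.trans zero_le
          · refine hh.trans (SerreCrit.one_le_depth_of_isReduced ?_)
            rw [IsLocalization.AtPrime.ringKrullDim_eq_height p]
            exact_mod_cast h0
        · refine (min_le_left _ _).trans ?_
          rw [Nat.cast_ofNat]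
          refine SerreLocal.two_le_depth_of_isIntegrallyClosed ?_
          rw [IsLocalization.AtPrime.ringKrullDim_eq_height p]
          exact_mod_cast hh
    have i1 : IsReduced C := SerreCrit.isReduced_of_hasRk_hasSk (SerreCrit.hasRk_of_le (by norm_num) hR)
      (SerreCrit.hasSk_of_le (by norm_num) hS)
    have i2 : IsIntegrallyClosed C := SerreCrit.isIntegrallyClosed_of_hasRk_hasSk hR hS
    exact ⟨SerreCrit.isDomain_of_isIntegrallyClosed, i2⟩

/-- Localizations of the stalk at `y` at primes different from the maximal ideal are stalks at proper generizations. -/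
theorem exists_generization {Y : Scheme.{u}} (y : Y) (P : Ideal (Y.presheaf.stalk y)) [hP : P.IsPrime]
    (hne : P ≠ maximalIdeal (Y.presheaf.stalk y)) :
    ∃ y' : Y, y' ⤳ y ∧ y' ≠ y ∧ Nonempty (Localization.AtPrime P ≃+* Y.presheaf.stalk y') := by
  let P' : PrimeSpectrum (Y.presheaf.stalk y) := ⟨P, hP⟩
  refine ⟨ptOf P', ptOf_specializes P', ?_, ?_⟩
  · intro h
    apply hne
    have h1 := primeOf_ptOf P'
    have h2 : primeOf (ptOf_specializes P') = primeOf (specializes_refl y) := by
      rw [primeOf_inj]; exact h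
    rw [h2, primeOf_refl] at h1
    exact (congrArg PrimeSpectrum.asIdeal h1).symm
  · have h1 := isLocalization_stalkSpecializes (ptOf_specializes P')
    let _ := (Y.presheaf.stalkSpecializes (ptOf_specializes P')).hom.toAlgebra
    have h2 : RingHom.ker (Cyc.specMap y (ptOf P') (ptOf_specializes P')) = P := by
      rw [← primeOf_asIdeal, primeOf_ptOf]
    have h3 : IsLocalization.AtPrime (Y.presheaf.stalk (ptOf P')) P := by
      rw [IsLocalization.AtPrime] at h1 ⊢
      convert h1 using 2
      exact h2.symm
    exact ⟨(IsLocalization.algEquiv P.primeCompl (Localization.AtPrime P)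
      (Y.presheaf.stalk (ptOf P'))).toRingEquiv⟩

theorem isNormalScheme_of_flat {X Y : Scheme.{u}} (p : Y ⟶ X) [Flat p] [IsLocallyNoetherian X] [IsLocallyNoetherian Y]
    (hX : Pi1.IsNormalScheme X)
    (h : ∀ y, (IsDomain (Y.presheaf.stalk y) ∧ IsIntegrallyClosed (Y.presheaf.stalk y)) ∨
      (maximalIdeal (X.presheaf.stalk (p y))).map (p.stalkMap y).hom = maximalIdeal (Y.presheaf.stalk y)) :
    Pi1.IsNormalScheme Y := by
  have key : ∀ n : ℕ, ∀ y : Y, ringKrullDim (Y.presheaf.stalk y) = n →
      IsDomain (Y.presheaf.stalk y) ∧ IsIntegrallyClosed (Y.presheaf.stalk y) := by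
    intro n
    induction n using Nat.strong_induction_on with
    | _ n ih =>
      intro y hy
      rcases h y with h | h
      · exact h
      · obtain ⟨i1, i2⟩ := hX (p y)
        let _ := (p.stalkMap y).hom.toAlgebra
        have hfl : (p.stalkMap y).hom.Flat := Flat.stalkMap p y
        have hfl' : Module.Flat (X.presheaf.stalk (p y)) (Y.presheaf.stalk y) := hfl
        refine normal_of_flat (X.presheaf.stalk (p y)) (Y.presheaf.stalk y) h fun P hP hne => ?_
        obtain ⟨y', h1, h2, ⟨e⟩⟩ := exists_generization y P hne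
        obtain ⟨m, hm⟩ := Groth.Agent.Ega4C.FlatLocal.exists_ringKrullDim_eq (Y.presheaf.stalk y')
        have h3 := ringKrullDim_add_one_le h1 h2
        rw [hm, hy] at h3
        have h4 : m + 1 ≤ n := by exact_mod_cast h3
        obtain ⟨j1, j2⟩ := ih m h4 y' hm
        exact ⟨e.toMulEquiv.isDomain _, IsIntegrallyClosed.of_equiv e.symm⟩
  intro y
  obtain ⟨n, hn⟩ := Groth.Agent.Ega4C.FlatLocal.exists_ringKrullDim_eq (Y.presheaf.stalk y)
  exact key n y hn

/-- A modification of a normal local domain of dimension two is an isomorphism over the punctured spectrum. -/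
theorem isIso_restrict_punctured (A : Type u) [CommRing A] [IsDomain A] [IsLocalRing A] [IsNoetherianRing A]
    [IsIntegrallyClosed A] (hd : ringKrullDim A ≤ 2) {Z : Scheme.{u}} (r : Z ⟶ Spec (CommRingCat.of A))
    (h : IsModif r) (U : (Spec (CommRingCat.of A)).Opens) (hU : ∀ x ∈ U, x ≠ closedPoint A) : IsIso (r ∣_ U) := by
  have i1 := h.proper
  have i2 := h.integral
  obtain ⟨V, hV, hVi⟩ := h.exists_isIso
  refine Dix.ContractBasic.isIso_restrict_of_forall r U fun z hz => ?_
  obtain ⟨hz1, hz2⟩ := CplFin.isNormalScheme_spec A z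
  have hz3 : ringKrullDim ((Spec (CommRingCat.of A)).presheaf.stalk z) ≤ 1 := by
    have h1 := ringKrullDim_add_one_le (X := Spec (CommRingCat.of A)) (IsLocalRing.specializes_closedPoint z) (hU z hz)
    have h2 := CplFin.ringKrullDim_stalk_spec_le A (closedPoint A)
    have h3 := (h1.trans h2).trans hd
    by_contra hc
    push Not at hc
    have h4 : (2 : WithBot ℕ∞) ≤ ringKrullDim ((Spec (CommRingCat.of A)).presheaf.stalk z) := by
      obtain ⟨n, hn⟩ := Groth.Agent.Ega4C.FlatLocal.exists_ringKrullDim_eq ((Spec (CommRingCat.of A)).presheaf.stalk z)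
      rw [hn] at hc ⊢
      have : 1 < n := by exact_mod_cast hc
      exact_mod_cast this
    have h5 : (2 : WithBot ℕ∞) + 1 ≤ 2 := (add_le_add_left h4 1).trans h3
    have h6 : ((2 + 1 : ℕ∞) : WithBot ℕ∞) ≤ ((2 : ℕ∞) : WithBot ℕ∞) := h5
    have h7 : (2 + 1 : ℕ∞) ≤ 2 := WithBot.coe_le_coe.1 h6
    exact absurd h7 (by decide)
  obtain ⟨W, hzW, hW⟩ := K430.BirLoc.exists_isIso_restrict r V hV hVi z hz2 hz3
  exact ⟨W ⊓ U, inf_le_right, ⟨hzW, hz⟩, CurvesC.ModDim.isIso_morphismRestrict_of_le r inf_le_left⟩

/-- **Base change to the completion preserves normality of modifications.** -/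
theorem cn (A : Type u) [CommRing A] [IsDomain A] [IsLocalRing A] [IsNoetherianRing A]
    [IsIntegrallyClosed A] [IsDomain (Curv2.cpl A)] [IsIntegrallyClosed (Curv2.cpl A)] (hd : ringKrullDim A ≤ 2) :
    CN A := by
  intro Z r h
  have i1 := h.modif.proper
  have i2 := h.noeth
  have i3 := Groth.Agent.S0543.result A (IsLocalRing.maximalIdeal A)
  have i4 : IsNoetherian (Spec (CommRingCat.of (Curv2.cpl A))) := inferInstance
  have i9 : IsNoetherian (Curv2.bcCpl A r) := NormSt.isNoetherian_of_isProper (Curv2.bcCplSnd A r)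
  refine isNormalScheme_of_flat (Curv2.bcCplFst A r) h.normal fun y => ?_
  by_cases hy : r (Curv2.bcCplFst A r y) = closedPoint A
  · exact Or.inr (map_maximalIdeal_stalkMap_bcCplFst A r y hy)
  · left
    let U : (Spec (CommRingCat.of A)).Opens := ⟨{closedPoint A}ᶜ, by
      exact (IsLocalRing.isClosed_singleton_closedPoint A).isOpen_compl⟩
    have hU : IsIso (r ∣_ U) := isIso_restrict_punctured A hd r h.modif U fun x hx => hx
    have hU' := isIso_restrict_of_isPullback
      (IsPullback.of_hasPullback r (Spec.map (CommRingCat.ofHom (algebraMap A (Curv2.cpl A))))) U hU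
    have hyU : Curv2.bcCplSnd A r y ∈ (Spec.map (CommRingCat.ofHom (algebraMap A (Curv2.cpl A)))) ⁻¹ᵁ U := by
      intro hc
      apply hy
      have h1 : (Curv2.bcCplFst A r ≫ r) y = (Curv2.bcCplSnd A r ≫
          Spec.map (CommRingCat.ofHom (algebraMap A (Curv2.cpl A)))) y := by
        rw [pullback.condition]
      rw [Scheme.Hom.comp_apply, Scheme.Hom.comp_apply] at h1
      rw [h1]
      exact hc
    have h1 := Dix.BirIso.isIso_stalkMap (Curv2.bcCplSnd A r) _ hU' y hyU
    obtain ⟨j1, j2⟩ := CplFin.isNormalScheme_spec (Curv2.cpl A) (Curv2.bcCplSnd A r y)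
    let e := (asIso ((Curv2.bcCplSnd A r).stalkMap y)).commRingCatIsoToRingEquiv
    exact ⟨e.symm.toMulEquiv.isDomain _, IsIntegrallyClosed.of_equiv e⟩

end Groth.Agent.Resolve.K375.CplNorm
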