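import Groth.Agent.Resolve.K375.StrictSep
import Groth.Agent.Resolve.K375.PtSeq
import Groth.Agent.CalgA.NagAss
import Groth.Agent.CurvesB.N1OfNormal
import Groth.Agent.S2344

/-!
# The normalization of a curve with finite normalization
-/

set_option autoImplicit false
universe u

open CategoryTheory CategoryTheory.Limits AlgebraicGeometry IsLocalRing

namespace Groth.Agent.Resolve.K375.FinNorm

open Tower GChain Geo CurveSeq CurvesC.Modif Strict StrictSeq

theorem isModif_normalizationι_of_isFinite (X : Scheme.{u}) [IsIntegral X] [IsLocallyNoetherian X]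
    [QuasiCompact (X.fromSpecStalk (genericPoint X))] [QuasiSeparated (X.fromSpecStalk (genericPoint X))]
    (hfin : IsFinite (Curv2.normalizationι X)) : IsModif (Curv2.normalizationι X) := by
  obtain ⟨hint, hnorm, hsurj, hgen, -⟩ := Groth.Agent.S2351.result X
  refine ⟨inferInstance, hint, ?_⟩
  obtain ⟨U, hU, hηU, -⟩ := exists_isAffineOpen_mem_and_subset (X := X) (x := genericPoint X) (U := ⊤) trivial
  have hne : Nonempty U := ⟨⟨_, hηU⟩⟩
  have hNoeth : IsNoetherianRing Γ(X, U) := IsLocallyNoetherian.component_noetherian ⟨U, hU⟩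
  have h1 : CAlg.IsN1 Γ(X, U) := by
    let ν := Curv2.normalizationι X
    have hne' : Nonempty (ν ⁻¹ᵁ U : (Curv2.normalization X).Opens) :=
      ⟨⟨genericPoint _, by change ν (genericPoint _) ∈ U; rw [show ν (genericPoint _) = genericPoint X from hgen]; exact hηU⟩⟩
    have i1 : IsIntegral (ν ⁻¹ᵁ U : (Curv2.normalization X).Opens).toScheme := inferInstance
    have i2 : IsFinite (ν ∣_ U) := inferInstance
    have i0 : Surjective ν := hsurj
    have i3 : Surjective (ν ∣_ U) := MorphismProperty.of_isPullback (isPullback_morphismRestrict ν U).flip i0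
    have i4 : Pi1.IsNormalScheme (ν ⁻¹ᵁ U : (Curv2.normalization X).Opens).toScheme := by
      intro x
      obtain ⟨h1, h2⟩ := hnorm x.1
      have h1' : IsDomain ((Curv2.normalization X).presheaf.stalk ((ν ⁻¹ᵁ U).ι x)) := h1
      have h2' : IsIntegrallyClosed ((Curv2.normalization X).presheaf.stalk ((ν ⁻¹ᵁ U).ι x)) := h2
      have e := (asIso ((ν ⁻¹ᵁ U).ι.stalkMap x)).commRingCatIsoToRingEquiv
      exact ⟨e.symm.toMulEquiv.isDomain _, IsIntegrallyClosed.of_equiv e⟩
    refine Groth.Agent.CurvesB.N1OfNormal.isN1 Γ(X, U) _ ((ν ∣_ U) ≫ hU.isoSpec.hom) i4 ?_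
    infer_instance
  obtain ⟨g, hg0, hg⟩ := CalgA.NagAss.exists_isIntegrallyClosed_away h1
  have hloc : IsLocalization.Away g Γ(X, X.basicOpen g) := hU.isLocalization_basicOpen g
  have hic : IsIntegrallyClosed Γ(X, X.basicOpen g) :=
    IsIntegrallyClosed.of_equiv (IsLocalization.algEquiv (Submonoid.powers g) (Localization.Away g)
      Γ(X, X.basicOpen g)).toRingEquiv
  have hη : genericPoint X ∈ X.basicOpen g := by
    refine ((genericPoint_spec X).mem_open_set_iff (X.basicOpen g).isOpen).mpr ?_
    have h2 : (X.basicOpen g : Set X).Nonempty := by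
      by_contra hcon
      have h3 : X.basicOpen g = ⊥ := TopologicalSpace.Opens.not_nonempty_iff_eq_bot _ |>.1 hcon
      exact hg0 ((basicOpen_eq_bot_iff g).1 h3)
    simpa using h2
  exact ⟨X.basicOpen g, ⟨_, hη⟩, CurvesC.NormNagata.isIso_normalizationι_restrict X _ (hU.basicOpen g) hη hic⟩

/-- A one-dimensional integral closed subscheme with finite normalization has a resolution. -/
theorem cur_of_isFinite {X : Scheme.{u}} [IsNoetherian X] (I : X.IdealSheafData)
    [IsIntegral I.subscheme] (hdim : topologicalKrullDim ↥I.subscheme = 1)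
    [QuasiCompact (I.subscheme.fromSpecStalk (genericPoint ↥I.subscheme))]
    [QuasiSeparated (I.subscheme.fromSpecStalk (genericPoint ↥I.subscheme))]
    (hfin : IsFinite (Curv2.normalizationι I.subscheme)) : Cur I.subschemeι := by
  have hN : IsNoetherian I.subscheme := isNoetherian_of_closed I.subschemeι
  have hm := isModif_normalizationι_of_isFinite I.subscheme hfin
  have hd : ∀ y : I.subscheme, ringKrullDim (I.subscheme.presheaf.stalk y) ≤ 1 := fun y =>
    (PtSeq.ringKrullDim_le _ y).trans hdim.le
  obtain ⟨hint, hnorm, -⟩ := Groth.Agent.S2351.result I.subscheme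
  have := hm.proper
  have : IsLocallyNoetherian (Curv2.normalization I.subscheme) :=
    LocallyOfFiniteType.isLocallyNoetherian (Curv2.normalizationι I.subscheme)
  refine ⟨inferInstance, inferInstance, PtSeq.nontrivial_of_dim (by rw [hdim]; exact zero_lt_one), hd, _, _, hm, fun x => ?_⟩
  obtain ⟨h1, h2⟩ := hnorm x
  exact Groth.Agent.S2344.isRegular_of_normal _ (krullDimLE_of_isModif hd _ hm x)

end Groth.Agent.Resolve.K375.FinNorm
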