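import Groth.Agent.Resolve.K375.CplMod
import Groth.Agent.Resolve.K375.FinNorm
import Groth.Agent.Resolve.K373.NormCpl
import Groth.Agent.Resolve.K373.NormFin
import Groth.Agent.Divis.BlowUpFormal
import Groth.Agent.Flat2C.BlowProper
import Groth.Agent.S5950

/-!
# Descent of normalized point blow-ups from the completion
-/

set_option autoImplicit false
universe u

open CategoryTheory CategoryTheory.Limits AlgebraicGeometry IsLocalRing

namespace Groth.Agent.Resolve.K375.CplStep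

open Groth.Agent.Dix.PointIdeal
open Tower Geo CurvesC.Modif NormSt Strict CplMod CplDesc Groth.Agent.CurvesC.RegCompl

theorem PtSt.comp_iso {Y Z Z₁ : Scheme.{u}} {b : Y ⟶ Z} {z : Z} (h : PtSt Y Z b z) (e : Z ≅ Z₁) :
    PtSt Y Z₁ (b ≫ e.hom) (e.hom z) := by
  obtain ⟨hz, hb⟩ := h
  have hz' : IsClosed ({e.hom z} : Set Z₁) := by
    have := e.hom.homeomorph.isClosedMap _ hz
    rwa [Set.image_singleton] at this
  refine ⟨hz', ?_⟩
  have hp : IsPullback (𝟙 Y) (b ≫ e.hom) b e.inv := by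
    refine IsPullback.of_horiz_isIso ⟨?_⟩
    simp
  have h1 := Groth.Agent.Divis.BlowUpFormal.isBlowUp_of_isPullback hb hp
  have h2 : e.inv (e.hom z) = z := by
    rw [← Scheme.Hom.comp_apply, e.hom_inv_id]; rfl
  have h3 : (pt z hz).comap e.inv = pt (e.hom z) hz' := by
    have hz'' : IsClosed ({e.inv (e.hom z)} : Set Z) := by rw [h2]; exact hz
    have h4 := comap_pt e.inv (e.hom z) hz' hz''
    have h5 : pt (e.inv (e.hom z)) hz'' = pt z hz := by
      congr 1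
    rw [← h4, h5]
  rwa [h3] at h1

theorem NSt.comp_iso {Y Z Z₁ : Scheme.{u}} {b : Y ⟶ Z} {z : Z} (h : NSt Y Z b z) (e : Z ≅ Z₁) :
    NSt Y Z₁ (b ≫ e.hom) (e.hom z) := by
  cases h with
  | mk c z hc =>
    rw [Category.assoc]
    exact NSt.mk _ _ (PtSt.comp_iso hc e)

section

variable (A : Type u) [CommRing A] [IsDomain A] [IsLocalRing A] [IsNoetherianRing A]

/-- Normal modifications of `Spec A`. -/
structure CA {Z : Scheme.{u}} (r : Z ⟶ Spec (CommRingCat.of A)) : Prop where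
  modif : IsModif r
  noeth : IsNoetherian Z
  normal : Pi1.IsNormalScheme Z

/-- Base change to the completion preserves normality of modifications. -/
def CN : Prop := ∀ {Z : Scheme.{u}} (r : Z ⟶ Spec (CommRingCat.of A)), CA A r → Pi1.IsNormalScheme (Curv2.bcCpl A r)

omit [IsDomain A] in
theorem faithfullyFlat_cpl : Module.FaithfullyFlat A (Curv2.cpl A) := by
  have hf : Module.Flat A (Curv2.cpl A) := AdicCompletion.flat_of_isNoetherian _
  exact Module.FaithfullyFlat.of_flat_of_isLocalHom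

theorem cpl_genericPoint [IsDomain (Curv2.cpl A)] :
    Spec.map (CommRingCat.ofHom (algebraMap A (Curv2.cpl A))) (genericPoint (Spec (CommRingCat.of (Curv2.cpl A)))) =
      genericPoint (Spec (CommRingCat.of A)) := by
  rw [genericPoint_eq_bot_of_affine, genericPoint_eq_bot_of_affine]
  apply PrimeSpectrum.ext
  change Ideal.comap (algebraMap A (Curv2.cpl A)) ⊥ = ⊥
  rw [← RingHom.ker_eq_comap_bot, RingHom.injective_iff_ker_eq_bot _ |>.1]
  have := faithfullyFlat_cpl A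
  exact FaithfulSMul.algebraMap_injective A (Curv2.cpl A)

theorem isReduced_of_isNormalScheme {X : Scheme.{u}} (h : Pi1.IsNormalScheme X) : IsReduced X := by
  have : ∀ x : X, _root_.IsReduced (X.presheaf.stalk x) := fun x => by
    obtain ⟨h1, -⟩ := h x
    infer_instance
  exact isReduced_of_isReduced_stalk X

theorem isModif_bcCplSnd [IsDomain (Curv2.cpl A)] {X : Scheme.{u}} (f : X ⟶ Spec (CommRingCat.of A)) (hf : IsModif f)
    (hn : Pi1.IsNormalScheme (Curv2.bcCpl A f)) : IsModif (Curv2.bcCplSnd A f) :=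
  isModif_of_isPullback (IsPullback.of_hasPullback f (Spec.map (CommRingCat.ofHom (algebraMap A (Curv2.cpl A))))) hf
    (cpl_genericPoint A) (isReduced_of_isNormalScheme hn)

omit [IsDomain A] in
theorem surjective_bcCplFst {X : Scheme.{u}} (f : X ⟶ Spec (CommRingCat.of A)) : Surjective (Curv2.bcCplFst A f) := by
  have h1 : Surjective (Spec.map (CommRingCat.ofHom (algebraMap A (Curv2.cpl A)))) := by
    have := faithfullyFlat_cpl A
    exact ⟨PrimeSpectrum.comap_surjective_of_faithfullyFlat⟩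
  exact MorphismProperty.of_isPullback (P := @Surjective)
    (IsPullback.of_hasPullback f (Spec.map (CommRingCat.ofHom (algebraMap A (Curv2.cpl A))))).flip h1

/-- Base change to the completion of a morphism over `Spec A`. -/
noncomputable def bcMap {Z Z' : Scheme.{u}} (c : Z' ⟶ Z) (r : Z ⟶ Spec (CommRingCat.of A)) :
    Curv2.bcCpl A (c ≫ r) ⟶ Curv2.bcCpl A r :=
  pullback.lift (Curv2.bcCplFst A (c ≫ r) ≫ c) (Curv2.bcCplSnd A (c ≫ r))
      (by rw [Category.assoc]; exact pullback.condition)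

omit [IsDomain A] [IsNoetherianRing A] in
theorem isPullback_bcMap {Z Z' : Scheme.{u}} (c : Z' ⟶ Z) (r : Z ⟶ Spec (CommRingCat.of A)) :
    IsPullback (Curv2.bcCplFst A (c ≫ r)) (bcMap A c r) c (Curv2.bcCplFst A r) := by
  refine IsPullback.of_bot (v₂₁ := Curv2.bcCplSnd A r) (v₂₂ := r)
    (h₃₁ := Spec.map (CommRingCat.ofHom (algebraMap A (Curv2.cpl A)))) ?_ (pullback.lift_fst _ _ _).symm
    (IsPullback.of_hasPullback r (Spec.map (CommRingCat.ofHom (algebraMap A (Curv2.cpl A)))))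
  have h1 : bcMap A c r ≫ Curv2.bcCplSnd A r = Curv2.bcCplSnd A (c ≫ r) := pullback.lift_snd _ _ _
  rw [h1]
  exact IsPullback.of_hasPullback (c ≫ r) (Spec.map (CommRingCat.ofHom (algebraMap A (Curv2.cpl A))))

theorem genericPoint_of_flat {X Y : Scheme.{u}} (p : X ⟶ Y) [Flat p] [IsIntegral X] [IsIntegral Y] :
    p (genericPoint X) = genericPoint Y := by
  obtain ⟨y, hy, hpy⟩ := (Flat.generalizingMap p) (genericPoint_specializes (p (genericPoint X)))
  have : y = genericPoint X := (hy.antisymm (genericPoint_specializes y)).eq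
  rw [← this, hpy]

theorem exists_isIntegrallyClosed {X Y : Scheme.{u}} [IsIntegral Y] (f : X ⟶ Y) (hf : IsModif f) (hX : Pi1.IsNormalScheme X) :
    ∃ V : Y.Opens, (V : Set Y).Nonempty ∧ ∀ x ∈ V, IsIntegrallyClosed (Y.presheaf.stalk x) := by
  obtain ⟨V, hV, hVi⟩ := hf.exists_isIso
  have := hf.proper
  have := hf.integral
  refine ⟨V, hV, fun x hx => ?_⟩
  obtain ⟨w, rfl⟩ := hf.surjective.surj x
  have h1 := Dix.BirIso.isIso_stalkMap f V hVi w hx
  obtain ⟨-, h2⟩ := hX w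
  exact IsIntegrallyClosed.of_equiv (asIso (f.stalkMap w)).commRingCatIsoToRingEquiv.symm

theorem exists_dense {X Y : Scheme.{u}} [IsIntegral Y] (f : X ⟶ Y) (hf : IsModif f) :
    ∃ U : Y.Opens, Dense (U : Set ↥Y) ∧ Dense ((f ⁻¹ᵁ U : X.Opens) : Set ↥X) ∧ IsIso (f ∣_ U) := by
  obtain ⟨V, ⟨x, hx⟩, hVi⟩ := hf.exists_isIso
  have := hf.proper
  have := hf.integral
  refine ⟨V, V.isOpen.dense ⟨x, hx⟩, (f ⁻¹ᵁ V).isOpen.dense ?_, hVi⟩
  obtain ⟨w, rfl⟩ := hf.surjective.surj x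
  exact ⟨w, hx⟩

theorem exists_step [IsDomain (Curv2.cpl A)] [Nontrivial (Spec (CommRingCat.of A))] (hCN : CN A)
    {Z₀ : Scheme.{u}} (r₀ : Z₀ ⟶ Spec (CommRingCat.of A)) (h : CA A r₀) {Y : Scheme.{u}}
    {b : Y ⟶ Curv2.bcCpl A r₀} {z : Curv2.bcCpl A r₀} (hst : NSt Y (Curv2.bcCpl A r₀) b z) :
    ∃ (Y₀ : Scheme.{u}) (b₀ : Y₀ ⟶ Z₀), NSt Y₀ Z₀ b₀ (Curv2.bcCplFst A r₀ z) ∧ CA A (b₀ ≫ r₀) ∧
      Nonempty (Y ≅ Curv2.bcCpl A (b₀ ≫ r₀)) := by
  have i1 := h.modif.proper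
  have i2 := h.modif.integral
  have i3 := h.noeth
  have i4 : Surjective r₀ := h.modif.surjective
  have i5 : Nontrivial Z₀ := r₀.surjective.nontrivial
  have hn := hCN r₀ h
  have hm := isModif_bcCplSnd A r₀ h.modif hn
  have i6 := hm.integral
  have i7 : Surjective (Curv2.bcCplFst A r₀) := surjective_bcCplFst A r₀
  have i8 : Nontrivial (Curv2.bcCpl A r₀) := (Curv2.bcCplFst A r₀).surjective.nontrivial
  have i9 : IsNoetherian (Curv2.bcCpl A r₀) := by
    have := Groth.Agent.S0543.result A (IsLocalRing.maximalIdeal A)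
    have : IsNoetherian (Spec (CommRingCat.of (Curv2.cpl A))) := inferInstance
    exact NormSt.isNoetherian_of_isProper (Curv2.bcCplSnd A r₀)
  cases hst with
  | @mk Z' _ j1 j2 j3 c z hc =>
  have hcm := hc.isModif (ne_genericPoint hc.choose)
  obtain ⟨hz, hcb⟩ := hc
  obtain ⟨h0, hz₀⟩ := isClosed_fst A r₀ z hz
  obtain ⟨Z₀', c₀, hc₀⟩ := exists_ptSt (Curv2.bcCplFst A r₀ z) hz₀
  have hc₀m := hc₀.isModif (ne_genericPoint hz₀)
  have k1 := hc₀m.proper
  have k2 := hc₀m.integral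
  have k3 : IsNoetherian Z₀' := NormSt.isNoetherian_of_isProper c₀
  -- the base change of the blow-up
  have hp := isPullback_bcMap A c₀ r₀
  have hb' := Groth.Agent.Divis.BlowUpFormal.isBlowUp_of_isPullback hc₀.choose_spec hp
  rw [comap_pt_fst A r₀ z hz h0] at hb'
  obtain ⟨e, he, -⟩ := Groth.Agent.Flat2C.BlowProper.exists_iso hb' hcb
  have k4 : IsIntegral (Curv2.bcCpl A (c₀ ≫ r₀)) := IsIntegral.of_isIso e.inv
  -- finiteness of the normalization
  have hfin : IsFinite (Curv2.normalizationι Z₀') := by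
    refine K373.NormFin.isFinite_of_isN1 Z₀' fun U hU hne => ?_
    exact K373.NormCpl.isN1_sections A (c₀ ≫ r₀) (fun y _ => inferInstance) U hU
  have hνm : IsModif (Curv2.normalizationι Z₀') := FinNorm.isModif_normalizationι_of_isFinite Z₀' hfin
  have hCA : CA A ((Curv2.normalizationι Z₀' ≫ c₀) ≫ r₀) := by
    obtain ⟨-, hnorm, -, -⟩ := Groth.Agent.S2351.result Z₀'
    refine ⟨(hνm.comp hc₀m).comp h.modif, ?_, hnorm⟩
    have := (hνm.comp hc₀m).proper
    exact NormSt.isNoetherian_of_isProper (Curv2.normalizationι Z₀' ≫ c₀)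
  refine ⟨_, _, NSt.mk c₀ _ hc₀, hCA, ?_⟩
  have hn2 := hCN _ hCA
  rw [Category.assoc] at hn2 ⊢
  have hp2 := isPullback_bcMap A (Curv2.normalizationι Z₀') (c₀ ≫ r₀)
  have hm2 : IsModif (bcMap A (Curv2.normalizationι Z₀') (c₀ ≫ r₀)) := by
    exact isModif_of_isPullback hp2 hνm (genericPoint_of_flat _) (isReduced_of_isNormalScheme hn2)
  have hfin2 : IsFinite (bcMap A (Curv2.normalizationι Z₀') (c₀ ≫ r₀)) :=
    MorphismProperty.of_isPullback (P := @IsFinite) hp2 hfin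
  have hm3 : IsModif (bcMap A (Curv2.normalizationι Z₀') (c₀ ≫ r₀) ≫ e.hom) := hm2.comp (StrictSeq.isModif_of_isIso _)
  have := hm3.integral
  obtain ⟨f, -⟩ := (Groth.Agent.S5950.result Z' (exists_isIntegrallyClosed _ hm3 hn2) (bcMap A (Curv2.normalizationι Z₀') (c₀ ≫ r₀) ≫ e.hom)).2
    ⟨hn2, inferInstance, exists_dense _ hm3⟩
  exact ⟨f.symm⟩

theorem exists_descent [IsDomain (Curv2.cpl A)] [Nontrivial (Spec (CommRingCat.of A))] (hCN : CN A)
    {Y X : Scheme.{u}} {g : Y ⟶ X} (hg : Seq NSt g) :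
    ∀ {X₀ : Scheme.{u}} (r₀ : X₀ ⟶ Spec (CommRingCat.of A)) (_ : CA A r₀) (_ : X ≅ Curv2.bcCpl A r₀),
      ∃ (Y₀ : Scheme.{u}) (g₀ : Y₀ ⟶ X₀), Seq NSt g₀ ∧ CA A (g₀ ≫ r₀) ∧ Nonempty (Y ≅ Curv2.bcCpl A (g₀ ≫ r₀)) := by
  induction hg with
  | id X =>
    intro X₀ r₀ h e
    refine ⟨X₀, 𝟙 _, Seq.id _, ?_, ?_⟩
    · rwa [Category.id_comp]
    · rw [Category.id_comp]
      exact ⟨e⟩
  | step b z r hb hr ih =>
    intro X₀ r₀ h e
    obtain ⟨Z₀, g₀, h1, h2, ⟨e'⟩⟩ := ih r₀ h e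
    obtain ⟨Y₀, b₀, h3, h4, h5⟩ := exists_step A hCN (g₀ ≫ r₀) h2 (NSt.comp_iso hb e')
    refine ⟨Y₀, b₀ ≫ g₀, Seq.step b₀ _ g₀ h3 h1, ?_, ?_⟩
    · rwa [Category.assoc]
    · rwa [Category.assoc]

end

end Groth.Agent.Resolve.K375.CplStep
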