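import Groth.Agent.Resolve.K375.Lift

/-!
# Chains of infinitely near local schemes

`PStep φ`: birational local homomorphism making the maximal ideal principal.  A chain of such homomorphisms of local
domains over `S` starting with a Noetherian local ring of dimension one (resp. with integrally closed
rings, starting in dimension at most two) lifts, after finitely many steps, to any proper `Y ⟶ S` to which the generic
point lifts.
-/

set_option autoImplicit false
universe u

open CategoryTheory CategoryTheory.Limits AlgebraicGeometry IsLocalRing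

namespace Groth.Agent.Resolve.K375.GChain

open Groth.Agent.Sga7.H150.ValChain Groth.Agent.Sga7.H150.AccAux Tower

/-- Every element of `B` is a fraction of elements of `A`. -/
def Bir {A B : Type*} [CommRing A] [CommRing B] (φ : A →+* B) : Prop :=
  Function.Injective φ ∧ ∀ b, ∃ s t, φ s ≠ 0 ∧ φ s * b = φ t

/-- A birational local homomorphism making the maximal ideal principal. -/
structure PStep {A B : Type*} [CommRing A] [IsLocalRing A] [CommRing B] [IsLocalRing B] (φ : A →+* B) : Prop where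
  bir : Bir φ
  loc : IsLocalHom φ
  princ : ∃ x ∈ maximalIdeal A, ∀ y ∈ maximalIdeal A, φ x ∣ φ y

lemma Bir.comp {A B C : Type*} [CommRing A] [CommRing B] [CommRing C] [IsDomain C] {φ : A →+* B} {ψ : B →+* C}
    (hφ : Bir φ) (hψ : Bir ψ) : Bir (ψ.comp φ) := by
  refine ⟨hψ.1.comp hφ.1, fun c => ?_⟩
  obtain ⟨s, t, hs, hst⟩ := hψ.2 c
  obtain ⟨s1, s2, hs1, hs12⟩ := hφ.2 s
  obtain ⟨t1, t2, ht1, ht12⟩ := hφ.2 t
  have h1 : ψ (φ s1) ≠ 0 := fun h => hs1 (hψ.1 (h.trans (map_zero ψ).symm))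
  have h2 : ψ (φ t1) ≠ 0 := fun h => ht1 (hψ.1 (h.trans (map_zero ψ).symm))
  have h3 : ψ (φ s2) = ψ (φ s1) * ψ s := by rw [← hs12, map_mul]
  have h4 : ψ (φ t2) = ψ (φ t1) * ψ t := by rw [← ht12, map_mul]
  refine ⟨s2 * t1, s1 * t2, ?_, ?_⟩
  · change ψ (φ (s2 * t1)) ≠ 0
    rw [map_mul, map_mul, h3]
    exact mul_ne_zero (mul_ne_zero h1 hs) h2
  · change ψ (φ (s2 * t1)) * c = ψ (φ (s1 * t2))
    rw [map_mul, map_mul, map_mul, map_mul, h3, h4, ← hst]
    ring

/-- Extension of an embedding in a field along a birational homomorphism. -/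
lemma exists_extend {A B K : Type u} [CommRing A] [IsDomain A] [CommRing B] [IsDomain B] [Field K]
    (φ : A →+* B) (hφ : Bir φ) (ψ : A →+* K) (hψ : Function.Injective ψ) :
    ∃ ψ' : B →+* K, Function.Injective ψ' ∧ ψ'.comp φ = ψ := by
  obtain ⟨hinj, hfr⟩ := hφ
  let F := FractionRing B
  let alg : Algebra A F := ((algebraMap B F).comp φ).toAlgebra
  have hB : Function.Injective (algebraMap B F) := IsFractionRing.injective B F
  have hfrac : IsFractionRing A F := by
    refine ⟨?_, ?_, ?_⟩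
    · intro y
      apply Ne.isUnit
      intro h
      have h1 : algebraMap B F (φ y) = 0 := h
      have h2 := hinj ((hB (h1.trans (map_zero _).symm)).trans (map_zero φ).symm)
      exact nonZeroDivisors.ne_zero y.2 h2
    · intro c
      obtain ⟨z, w, hw, rfl⟩ := IsFractionRing.div_surjective (A := B) c
      have hw0 : w ≠ 0 := nonZeroDivisors.ne_zero hw
      obtain ⟨s, t, hs, hst⟩ := hfr z
      obtain ⟨s1, t1, hs1, hst1⟩ := hfr w
      have ht1 : φ t1 ≠ 0 := by rw [← hst1]; exact mul_ne_zero hs1 hw0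
      have hab : s * t1 ≠ 0 := by
        intro h
        have := congrArg φ h
        rw [map_mul, map_zero] at this
        exact (mul_ne_zero hs ht1) this
      refine ⟨⟨t * s1, ⟨s * t1, mem_nonZeroDivisors_of_ne_zero hab⟩⟩, ?_⟩
      change algebraMap B F z / algebraMap B F w * algebraMap B F (φ (s * t1)) = algebraMap B F (φ (t * s1))
      have hwF : algebraMap B F w ≠ 0 := by
        intro h
        exact hw0 (hB (h.trans (map_zero _).symm))
      have e5 : z * φ (s * t1) = w * φ (t * s1) := by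
        rw [map_mul, map_mul, ← hst, ← hst1]; ring
      have e6 : algebraMap B F z * algebraMap B F (φ (s * t1)) = algebraMap B F w * algebraMap B F (φ (t * s1)) := by
        rw [← map_mul, ← map_mul, e5]
      rw [div_mul_eq_mul_div, e6, mul_div_cancel_left₀ _ hwF]
    · intro a b hab
      exact ⟨1, by rw [hinj (hB hab)]⟩
  let Ψ : F →+* K := IsFractionRing.lift (A := A) hψ
  refine ⟨Ψ.comp (algebraMap B F), Ψ.injective.comp hB, ?_⟩
  ext a
  exact IsFractionRing.lift_algebraMap (K := F) hψ a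

/-- The chain of subrings of `K`. -/
theorem exists_chain {S : Scheme.{u}} (P : ℕ → Germ S) (hd : ∀ n, IsDomain (P n).A)
    (φ : ∀ n, (P n).A →+* (P (n + 1)).A)
    (hφS : ∀ n, Spec.map (CommRingCat.ofHom (φ n)) ≫ (P n).a = (P (n + 1)).a) (hφ : ∀ n, PStep (φ n))
    {K : Type u} [Field K] (ψ₀ : (P 0).A →+* K) (hψ₀ : Function.Injective ψ₀) :
    ∃ ψ : ∀ n, (P n).A →+* K, ψ 0 = ψ₀ ∧ (∀ n, Function.Injective (ψ n)) ∧ (∀ n, (ψ (n + 1)).comp (φ n) = ψ n) ∧
      (∀ n, ∃ φ' : (P 0).A →+* (P n).A, Spec.map (CommRingCat.ofHom φ') ≫ (P 0).a = (P n).a ∧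
        (ψ n).comp φ' = ψ 0) ∧ ∃ C : Union.Chain K, ∀ n, C.O n = im (ψ n) := by
  choose g hg1 hg2 using fun n (ψ : (P n).A →+* K) (hψ : Function.Injective ψ) =>
    exists_extend (φ n) (hφ n).bir ψ hψ
  let Ψ : ∀ n, {ψ : (P n).A →+* K // Function.Injective ψ} := fun n =>
    Nat.rec ⟨ψ₀, hψ₀⟩ (fun n ψ => ⟨g n ψ.1 ψ.2, hg1 n ψ.1 ψ.2⟩) n
  have hΨ : ∀ n, (Ψ (n + 1)).1.comp (φ n) = (Ψ n).1 := fun n => hg2 n (Ψ n).1 (Ψ n).2
  have hΨ' : ∀ n a, (Ψ (n + 1)).1 (φ n a) = (Ψ n).1 a := fun n a => by rw [← hΨ n]; rfl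
  choose x hx hxd using fun n => (hφ n).princ
  refine ⟨fun n => (Ψ n).1, rfl, fun n => (Ψ n).2, hΨ, fun n => ?_, ⟨fun n => im (Ψ n).1, fun n => (Ψ n).1 (x n),
    ?_, ?_, ?_⟩, fun n => rfl⟩
  · induction n with
    | zero =>
      refine ⟨RingHom.id _, ?_, RingHom.comp_id _⟩
      have : CommRingCat.ofHom (RingHom.id (P 0).A) = 𝟙 _ := rfl
      rw [this, Spec.map_id, Category.id_comp]
    | succ n ih =>
      obtain ⟨φ', h1, h2⟩ := ih
      refine ⟨(φ n).comp φ', ?_, ?_⟩
      · rw [← hφS n, ← h1, ← Category.assoc, ← Spec.map_comp]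
        rfl
      · rw [← h2]
        change (Ψ (n + 1)).1.comp ((φ n).comp φ') = (Ψ n).1.comp φ'
        rw [← RingHom.comp_assoc, hΨ n]
  · refine monotone_nat_of_le_succ fun n => Union.range_adjoin_le ?_ ?_
    · rintro _ ⟨a, rfl⟩
      exact ⟨φ n a, hΨ' n a⟩
    · intro z hz
      obtain ⟨a, rfl⟩ := hz.1
      rw [mem_mx_im (Ψ n).2] at hz
      rw [← hΨ' n, mem_mx_im (Ψ (n + 1)).2]
      have := (hφ n).loc
      rw [mem_maximalIdeal, mem_nonunits_iff] at hz ⊢
      exact fun h => hz (this.map_nonunit a h)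
  · intro n y hy
    obtain ⟨a, rfl⟩ := hy.1
    rw [mem_mx_im (Ψ n).2] at hy
    obtain ⟨c, hcc⟩ := hxd n a hy
    refine ⟨(Ψ (n + 1)).1 c, ⟨c, rfl⟩, ?_⟩
    rw [← hΨ' n a, hcc, map_mul, hΨ']
  · intro n
    rw [← hΨ' n, mem_mx_im (Ψ (n + 1)).2]
    have := (hφ n).loc
    have h1 := hx n
    rw [mem_maximalIdeal, mem_nonunits_iff] at h1 ⊢
    exact fun h => h1 (this.map_nonunit _ h)

lemma noeth_im {A K : Type u} [CommRing A] [IsLocalRing A] [Field K] (ψ : A →+* K) (hψ : Function.Injective ψ)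
    [IsNoetherianRing A] : IsNoetherianRing (im ψ).toSubring :=
  isNoetherianRing_of_ringEquiv A (eqv ψ hψ)

lemma maximalIdeal_im_ne_bot {A K : Type u} [CommRing A] [IsLocalRing A] [Field K] (ψ : A →+* K)
    (hψ : Function.Injective ψ) (h : ¬ IsField A) : maximalIdeal (im ψ).toSubring ≠ ⊥ := by
  intro h0
  apply h
  rw [← IsLocalRing.isField_iff_maximalIdeal_eq] at h0
  exact (eqv ψ hψ).toMulEquiv.isField h0

/-- An embedding in a field whose image generates the field. -/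
lemma isFractionRing_im {A K : Type u} [CommRing A] [IsLocalRing A] [Field K] [Algebra A K] [IsFractionRing A K] :
    IsFractionRing (im (algebraMap A K)).toSubring K := by
  refine IsFractionRing.of_field _ K ?_
  intro z
  obtain ⟨x, y, hy, rfl⟩ := IsFractionRing.div_surjective (A := A) z
  exact ⟨⟨_, x, rfl⟩, ⟨_, y, rfl⟩, rfl⟩

/-- **Dimension one.** -/
theorem exists_lift_dim_one {S Y : Scheme.{u}} (f : Y ⟶ S) [UniversallyClosed f] [LocallyOfFiniteType f]
    (P : ℕ → Germ S) (hd : ∀ n, IsDomain (P n).A) (φ : ∀ n, (P n).A →+* (P (n + 1)).A)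
    (hφS : ∀ n, Spec.map (CommRingCat.ofHom (φ n)) ≫ (P n).a = (P (n + 1)).a) (hφ : ∀ n, PStep (φ n))
    [IsNoetherianRing (P 0).A] [Ring.KrullDimLE 1 (P 0).A] (hf : ¬ IsField (P 0).A)
    {K : Type u} [Field K] [Algebra (P 0).A K] [IsFractionRing (P 0).A K] (k : Spec (CommRingCat.of K) ⟶ Y)
    (hk : k ≫ f = Spec.map (CommRingCat.ofHom (algebraMap (P 0).A K)) ≫ (P 0).a) :
    ∃ (n : ℕ) (ψ : (P n).A →+* K) (l : Spec (CommRingCat.of (P n).A) ⟶ Y), Function.Injective ψ ∧ l ≫ f = (P n).a ∧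
      Spec.map (CommRingCat.ofHom ψ) ≫ l = k := by
  obtain ⟨ψ, h0, hinj, -, hc, C, hC⟩ := exists_chain P hd φ hφS hφ (algebraMap (P 0).A K)
    (IsFractionRing.injective _ _)
  have e0 : C.O 0 = im (algebraMap (P 0).A K) := by rw [hC 0, h0]
  have i1 : IsNoetherianRing (C.O 0).toSubring := by
    rw [e0]; exact noeth_im _ (IsFractionRing.injective _ _)
  have i2 : Ring.KrullDimLE 1 (C.O 0).toSubring := by
    rw [e0, Ring.krullDimLE_iff, ← ringKrullDim_eq_of_ringEquiv (eqv (algebraMap (P 0).A K)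
      (IsFractionRing.injective _ _)), ← Ring.krullDimLE_iff]
    infer_instance
  have i3 : IsFractionRing (C.O 0).toSubring K := by rw [e0]; exact isFractionRing_im
  obtain ⟨V, -, hV, hU⟩ := C.exists_dim_one (by
    rw [e0]; exact maximalIdeal_im_ne_bot _ (IsFractionRing.injective _ _) hf)
  have hmono : Monotone fun n => im (ψ n) := fun a b h => by
    change im (ψ a) ≤ im (ψ b)
    rw [← hC, ← hC]; exact C.mono h
  obtain ⟨n, l, h1, h2⟩ := Lift.exists_lift f P ψ hinj hc V (fun n => by rw [← hC]; exact hV n) hmono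
    (fun z hz => by
      obtain ⟨n, hn⟩ := hU z hz
      exact ⟨n, by rw [← hC]; exact hn⟩) k (by rw [hk, h0])
  exact ⟨n, ψ n, l, hinj n, h1, h2⟩

/-- **Dimension two**, integrally closed rings. -/
theorem exists_lift_dim_two {S Y : Scheme.{u}} (f : Y ⟶ S) [UniversallyClosed f] [LocallyOfFiniteType f]
    (P : ℕ → Germ S) (hd : ∀ n, IsDomain (P n).A) (φ : ∀ n, (P n).A →+* (P (n + 1)).A)
    (hφS : ∀ n, Spec.map (CommRingCat.ofHom (φ n)) ≫ (P n).a = (P (n + 1)).a) (hφ : ∀ n, PStep (φ n))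
    (hn : ∀ n, IsIntegrallyClosed (P n).A)
    [IsNoetherianRing (P 0).A] (hdim : ringKrullDim (P 0).A ≤ 2) (hf : ¬ IsField (P 0).A)
    {K : Type u} [Field K] [Algebra (P 0).A K] [IsFractionRing (P 0).A K] (k : Spec (CommRingCat.of K) ⟶ Y)
    (hk : k ≫ f = Spec.map (CommRingCat.ofHom (algebraMap (P 0).A K)) ≫ (P 0).a) :
    ∃ (n : ℕ) (ψ : (P n).A →+* K) (l : Spec (CommRingCat.of (P n).A) ⟶ Y), Function.Injective ψ ∧ l ≫ f = (P n).a ∧
      Spec.map (CommRingCat.ofHom ψ) ≫ l = k := by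
  obtain ⟨ψ, h0, hinj, -, hc, C, hC⟩ := exists_chain P hd φ hφS hφ (algebraMap (P 0).A K)
    (IsFractionRing.injective _ _)
  have e0 : C.O 0 = im (algebraMap (P 0).A K) := by rw [hC 0, h0]
  have i1 : IsNoetherianRing (C.O 0).toSubring := by
    rw [e0]; exact noeth_im _ (IsFractionRing.injective _ _)
  have i3 : IsFractionRing (C.O 0).toSubring K := by rw [e0]; exact isFractionRing_im
  have i2 : ringKrullDim (C.O 0).toSubring ≤ 2 := by
    rw [e0, ← ringKrullDim_eq_of_ringEquiv (eqv (algebraMap (P 0).A K) (IsFractionRing.injective _ _))]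
    exact hdim
  have hint : ∀ n, ∀ z : K, IsIntegral (C.O n).toSubring z → z ∈ (C.O n).toSubring := by
    intro n z hz
    have hfr : IsFractionRing (C.O n).toSubring K :=
      Ega2.DVRDominate.isFractionRing_of_le _ _ (C.mono (Nat.zero_le n)).1
    have hic : IsIntegrallyClosed (C.O n).toSubring := by
      rw [hC n]
      have := hn n
      exact IsIntegrallyClosed.of_equiv (eqv (ψ n) (hinj n))
    obtain ⟨y, hy⟩ := (isIntegrallyClosed_iff K).1 hic hz
    rw [← hy]
    exact y.2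
  obtain ⟨V, hV, hU⟩ := C.exists_dim_two i2 (by
    rw [e0]; exact maximalIdeal_im_ne_bot _ (IsFractionRing.injective _ _) hf) hint
  have hmono : Monotone fun n => im (ψ n) := fun a b h => by
    change im (ψ a) ≤ im (ψ b)
    rw [← hC, ← hC]; exact C.mono h
  obtain ⟨n, l, h1, h2⟩ := Lift.exists_lift f P ψ hinj hc V (fun n => by rw [← hC]; exact hV n) hmono
    (fun z hz => by
      obtain ⟨n, hn⟩ := hU z hz
      exact ⟨n, by rw [← hC]; exact hn⟩) k (by rw [hk, h0])
  exact ⟨n, ψ n, l, hinj n, h1, h2⟩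

end Groth.Agent.Resolve.K375.GChain
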