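import Mathlib.AlgebraicGeometry.Stalk
import Mathlib.Order.WellFounded
import Mathlib.Data.Set.Card

/-!
# Resolving bad points by successive modifications: the abstract induction

`Sys.exists_seq`: points of schemes over `S` are classified as bad or not by their local scheme over `S`;
for the schemes in a class `C` the bad points are finite in number and each can be modified by a step
`b : Y ⟶ Z`, an isomorphism off the point.  If no infinite sequence of bad infinitely near points exists, a finite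
sequence of steps removes all bad points.
-/

set_option autoImplicit false
universe u

open CategoryTheory CategoryTheory.Limits AlgebraicGeometry IsLocalRing

namespace Groth.Agent.Resolve.K375.Tower

/-- `b` is bijective and an isomorphism on local rings off `T`. -/
structure Off {Y X : Scheme.{u}} (T : Set X) (b : Y ⟶ X) : Prop where
  bij : ∀ x, x ∉ T → ∃! y, b y = x
  iso : ∀ y, b y ∉ T → IsIso (b.stalkMap y)

lemma Off.id {X : Scheme.{u}} (T : Set X) : Off T (𝟙 X) where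
  bij x _ := ⟨x, rfl, fun _ hy => hy⟩
  iso _ _ := inferInstance

lemma Off.mono {X Y : Scheme.{u}} {T T' : Set X} {b : Y ⟶ X} (h : Off T b) (hT : T ⊆ T') : Off T' b where
  bij x hx := h.bij x (fun hxT => hx (hT hxT))
  iso y hy := h.iso y (fun hyT => hy (hT hyT))

lemma Off.comp {X X1 X2 : Scheme.{u}} {T : Set X} {b1 : X1 ⟶ X} (h1 : Off T b1) {T1 : Set X1} {b2 : X2 ⟶ X1}
    (h2 : Off T1 b2) (h : ∀ x ∈ T1, b1 x ∈ T) : Off T (b2 ≫ b1) where
  bij := by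
    intro x hx
    obtain ⟨x1, hx1, hu1⟩ := h1.bij x hx
    have hx1T : x1 ∉ T1 := fun hT => hx (hx1 ▸ h x1 hT)
    obtain ⟨x2, hx2, hu2⟩ := h2.bij x1 hx1T
    refine ⟨x2, ?_, ?_⟩
    · change (b2 ≫ b1) x2 = x
      rw [Scheme.Hom.comp_apply, hx2, hx1]
    · intro y hy
      rw [Scheme.Hom.comp_apply] at hy
      exact hu2 y (hu1 (b2 y) hy)
  iso := by
    intro x' hx'
    rw [Scheme.Hom.comp_apply] at hx'
    have i1 := h1.iso (b2 x') hx'
    have i2 := h2.iso x' (fun hT => hx' (h _ hT))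
    rw [Scheme.Hom.stalkMap_comp]
    exact @IsIso.comp_isIso _ _ _ _ _ _ _ i1 i2

/-- Finite sequences of steps. -/
inductive Seq (St : ∀ (Y Z : Scheme.{u}), (Y ⟶ Z) → Z → Prop) : ∀ {Y X : Scheme.{u}}, (Y ⟶ X) → Prop
  | id (X : Scheme.{u}) : Seq St (𝟙 X)
  | step {Y Z X : Scheme.{u}} (b : Y ⟶ Z) (z : Z) (r : Z ⟶ X) (hb : St Y Z b z) (hr : Seq St r) : Seq St (b ≫ r)

lemma Seq.comp {St : ∀ (Y Z : Scheme.{u}), (Y ⟶ Z) → Z → Prop} {Y Z X : Scheme.{u}} {g : Y ⟶ Z} {h : Z ⟶ X}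
    (hg : Seq St g) (hh : Seq St h) : Seq St (g ≫ h) := by
  induction hg with
  | id X => rwa [Category.id_comp]
  | step b z r hb hr ih =>
    rw [Category.assoc]
    exact Seq.step b z _ hb (ih hh)

lemma Seq.single {St : ∀ (Y Z : Scheme.{u}), (Y ⟶ Z) → Z → Prop} {Y Z : Scheme.{u}} {b : Y ⟶ Z} {z : Z}
    (hb : St Y Z b z) : Seq St b := by
  have := Seq.step b z (𝟙 Z) hb (Seq.id Z)
  rwa [Category.comp_id] at this

/-- A local scheme over `S`. -/
structure Germ (S : Scheme.{u}) : Type (u + 1) where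
  A : Type u
  [ring : CommRing A]
  [loc : IsLocalRing A]
  a : Spec (CommRingCat.of A) ⟶ S

attribute [instance] Germ.ring Germ.loc

/-- The germ of a scheme over `S` at a point. -/
@[reducible] noncomputable def Germ.of {Z S : Scheme.{u}} (r : Z ⟶ S) (z : Z) : Germ S :=
  @Germ.mk S (Z.presheaf.stalk z) _ (inferInstanceAs (IsLocalRing (Z.presheaf.stalk z))) (Z.fromSpecStalk z ≫ r)

/-- Isomorphism of germs over `S`. -/
def Germ.Iso {S : Scheme.{u}} (P Q : Germ S) : Prop :=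
  ∃ e : P.A ≃+* Q.A, Spec.map (CommRingCat.ofHom (e : P.A →+* Q.A)) ≫ P.a = Q.a

lemma Germ.Iso.refl {S : Scheme.{u}} (P : Germ S) : P.Iso P :=
  ⟨RingEquiv.refl _, by
    have : CommRingCat.ofHom ((RingEquiv.refl P.A : P.A ≃+* P.A) : P.A →+* P.A) = 𝟙 _ := rfl
    rw [this, Spec.map_id, Category.id_comp]⟩

lemma Germ.Iso.symm {S : Scheme.{u}} {P Q : Germ S} (h : P.Iso Q) : Q.Iso P := by
  obtain ⟨e, he⟩ := h
  refine ⟨e.symm, ?_⟩
  rw [← he, ← Category.assoc, ← Spec.map_comp]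
  have : CommRingCat.ofHom (e : P.A →+* Q.A) ≫ CommRingCat.ofHom (e.symm : Q.A →+* P.A) = 𝟙 _ := by
    ext a; exact e.symm_apply_apply a
  rw [this, Spec.map_id, Category.id_comp]

lemma Germ.Iso.trans {S : Scheme.{u}} {P Q R : Germ S} (h : P.Iso Q) (h' : Q.Iso R) : P.Iso R := by
  obtain ⟨e, he⟩ := h
  obtain ⟨e', he'⟩ := h'
  refine ⟨e.trans e', ?_⟩
  rw [← he', ← he, ← Category.assoc, ← Spec.map_comp]
  rfl

/-- The germs of `Y` and `Z` agree at a point where the stalk map is an isomorphism. -/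
lemma Germ.iso_of_isIso {Y Z S : Scheme.{u}} (b : Y ⟶ Z) (r : Z ⟶ S) (y : Y) [IsIso (b.stalkMap y)] :
    (Germ.of r (b y)).Iso (Germ.of (b ≫ r) y) := by
  refine ⟨(asIso (b.stalkMap y)).commRingCatIsoToRingEquiv, ?_⟩
  have h := Scheme.SpecMap_stalkMap_fromSpecStalk b (x := y)
  change Spec.map (b.stalkMap y) ≫ Z.fromSpecStalk (b y) ≫ r = Y.fromSpecStalk y ≫ b ≫ r
  rw [← Category.assoc, h, Category.assoc]

/-- The data of the induction. -/
structure Sys (S : Scheme.{u}) where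
  /-- the class of schemes over `S` -/
  C : ∀ {Z : Scheme.{u}}, (Z ⟶ S) → Prop
  /-- the allowed steps -/
  St : ∀ (Y Z : Scheme.{u}), (Y ⟶ Z) → Z → Prop
  /-- the bad germs -/
  Bad : Germ S → Prop
  bad_iso : ∀ {P Q : Germ S}, P.Iso Q → Bad P → Bad Q
  fin : ∀ {Z : Scheme.{u}} (r : Z ⟶ S), C r → {z | Bad (Germ.of r z)}.Finite
  ex : ∀ {Z : Scheme.{u}} (r : Z ⟶ S) (z : Z), C r → Bad (Germ.of r z) →
    ∃ (Y : Scheme.{u}) (b : Y ⟶ Z), St Y Z b z ∧ C (b ≫ r)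
  off : ∀ {Y Z : Scheme.{u}} (r : Z ⟶ S) (b : Y ⟶ Z) (z : Z), C r → St Y Z b z → Off {z} b

namespace Sys

variable {S : Scheme.{u}} (D : Sys S)

/-- `P'` is a bad point of a step at the bad point `P`. -/
def Rel (P' P : Germ S) : Prop :=
  ∃ (Z Y : Scheme.{u}) (r : Z ⟶ S) (b : Y ⟶ Z) (y : Y), D.C r ∧ D.C (b ≫ r) ∧ D.St Y Z b (b y) ∧
    (Germ.of r (b y)).Iso P ∧ Germ.of (b ≫ r) y = P' ∧ D.Bad P ∧ D.Bad P'

/-- Points with germ `P` can be resolved. -/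
def Sol (P : Germ S) : Prop :=
  ∀ (Z : Scheme.{u}) (r : Z ⟶ S) (z : Z), D.C r → D.Bad (Germ.of r z) → (Germ.of r z).Iso P →
    ∃ (Y : Scheme.{u}) (b : Y ⟶ Z), D.C (b ≫ r) ∧ Seq D.St b ∧ Off {z} b ∧
      ∀ y, b y = z → ¬ D.Bad (Germ.of (b ≫ r) y)

lemma bad_iff {Y Z : Scheme.{u}} (b : Y ⟶ Z) (r : Z ⟶ S) (y : Y) [IsIso (b.stalkMap y)] :
    D.Bad (Germ.of (b ≫ r) y) ↔ D.Bad (Germ.of r (b y)) :=
  ⟨D.bad_iso (Germ.iso_of_isIso b r y).symm, D.bad_iso (Germ.iso_of_isIso b r y)⟩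

theorem fin_step (n : ℕ) : ∀ (Z : Scheme.{u}) (r : Z ⟶ S) (_ : D.C r) (T : Set Z) (_ : T.Finite)
    (_ : T.ncard ≤ n) (_ : ∀ x ∈ T, D.Bad (Germ.of r x)) (_ : ∀ x ∈ T, ∃ P : Germ S, (Germ.of r x).Iso P ∧ D.Sol P),
    ∃ (Y : Scheme.{u}) (b : Y ⟶ Z), D.C (b ≫ r) ∧ Seq D.St b ∧ Off T b ∧
      ∀ y, b y ∈ T → ¬ D.Bad (Germ.of (b ≫ r) y) := by
  induction n with
  | zero =>
    intro Z r hC T hfin hn hTb hS
    rw [Nat.le_zero, Set.ncard_eq_zero hfin] at hn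
    refine ⟨Z, 𝟙 Z, by rwa [Category.id_comp], Seq.id Z, Off.id T, fun x' hx' => ?_⟩
    rw [hn] at hx'
    exact absurd hx' (Set.notMem_empty _)
  | succ n ih =>
    intro Z r hC T hfin hn hTb hS
    rcases Set.eq_empty_or_nonempty T with hT | ⟨x, hx⟩
    · refine ⟨Z, 𝟙 Z, by rwa [Category.id_comp], Seq.id Z, Off.id T, fun x' hx' => ?_⟩
      rw [hT] at hx'
      exact absurd hx' (Set.notMem_empty _)
    obtain ⟨P, e, hSol⟩ := hS x hx
    obtain ⟨X1, b1, hC1, hs1, h1, hb1⟩ := hSol Z r x hC (hTb x hx) e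
    let T1 : Set X1 := {x1 | b1 x1 ∈ T ∧ b1 x1 ≠ x}
    have hinj : Set.InjOn b1 T1 := by
      intro y hy z _ hyz
      obtain ⟨w, -, hu⟩ := h1.bij (b1 y) hy.2
      rw [hu y rfl, hu z hyz.symm]
    have hsub : b1 '' T1 ⊆ T \ {x} := by
      rintro _ ⟨x', hx', rfl⟩
      exact ⟨hx'.1, hx'.2⟩
    have hfin1 : T1.Finite := Set.Finite.of_finite_image ((hfin.subset Set.sdiff_subset).subset hsub) hinj
    have hcard : T1.ncard ≤ n := by
      rw [← Set.InjOn.ncard_image hinj]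
      have h1 := Set.ncard_le_ncard hsub (hfin.subset Set.sdiff_subset)
      have h2 := Set.ncard_sdiff_singleton_add_one hx hfin
      omega
    obtain ⟨X2, b2, hC2, hs2, h2, hb2⟩ := ih X1 (b1 ≫ r) hC1 T1 hfin1 hcard (fun x1 hx1 => by
      have := h1.iso x1 hx1.2
      exact (D.bad_iff b1 r x1).2 (hTb _ hx1.1)) (fun x1 hx1 => by
      have := h1.iso x1 hx1.2
      obtain ⟨P1, e1, hS1⟩ := hS (b1 x1) hx1.1
      exact ⟨P1, (Germ.iso_of_isIso b1 r x1).symm.trans e1, hS1⟩)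
    refine ⟨X2, b2 ≫ b1, by rwa [Category.assoc], hs2.comp hs1,
      (h1.mono (Set.singleton_subset_iff.2 hx)).comp h2 (fun x1 hx1 => hx1.1), ?_⟩
    intro x' hx'
    rw [Category.assoc]
    by_cases hxx : b1 (b2 x') = x
    · have := h2.iso x' (fun hT => hT.2 hxx)
      rw [bad_iff]
      exact hb1 _ hxx
    · exact hb2 x' ⟨hx', hxx⟩

theorem sol_of_acc (P : Germ S) (hP : Acc D.Rel P) : D.Sol P := by
  induction hP with
  | intro P _ ih =>
    intro Z r z hC hz e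
    obtain ⟨X1, b1, hst, hC1⟩ := D.ex r z hC hz
    have hmod := D.off r b1 z hC hst
    let T : Set X1 := {x1 | D.Bad (Germ.of (b1 ≫ r) x1) ∧ b1 x1 = z}
    have hTfin : T.Finite := (D.fin (b1 ≫ r) hC1).subset (fun x1 hx1 => hx1.1)
    obtain ⟨X2, b2, hC2, hs2, h2, hb2⟩ := D.fin_step T.ncard X1 (b1 ≫ r) hC1 T hTfin le_rfl (fun x1 hx1 => hx1.1)
      (fun x1 hx1 => ⟨_, Germ.Iso.refl _, ih _ ⟨Z, X1, r, b1, x1, hC, hC1, by rw [hx1.2]; exact hst, by
        rw [hx1.2]; exact e, rfl, D.bad_iso e hz, hx1.1⟩⟩)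
    refine ⟨X2, b2 ≫ b1, by rwa [Category.assoc], hs2.comp (Seq.single hst), hmod.comp h2 (fun x1 hx1 => hx1.2), ?_⟩
    intro x' hx'
    rw [Category.assoc]
    by_cases hT : b2 x' ∈ T
    · exact hb2 x' hT
    · have := h2.iso x' hT
      rw [bad_iff]
      intro hbad
      exact hT ⟨hbad, hx'⟩

/-- The abstract induction. -/
theorem exists_seq {Z : Scheme.{u}} (r : Z ⟶ S) (hC : D.C r)
    (hacc : ∀ z, D.Bad (Germ.of r z) → ∀ P : ℕ → Germ S, P 0 = Germ.of r z → ¬ ∀ n, D.Rel (P (n + 1)) (P n)) :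
    ∃ (Y : Scheme.{u}) (g : Y ⟶ Z), Seq D.St g ∧ D.C (g ≫ r) ∧ ∀ y, ¬ D.Bad (Germ.of (g ≫ r) y) := by
  obtain ⟨Y, b, hCb, hs, ho, hb⟩ := D.fin_step {z | D.Bad (Germ.of r z)}.ncard Z r hC {z | D.Bad (Germ.of r z)}
    (D.fin r hC) le_rfl (fun x hx => hx) (fun x hx => ⟨_, Germ.Iso.refl _, D.sol_of_acc _ (by
      by_contra hcon
      obtain ⟨f, hf0, hf⟩ := not_acc_iff_exists_descending_chain.1 hcon
      exact hacc x hx f hf0 hf)⟩)
  refine ⟨Y, b, hs, hCb, fun y hy => ?_⟩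
  by_cases hT : b y ∈ {z | D.Bad (Germ.of r z)}
  · exact hb y hT hy
  · have := ho.iso y hT
    exact hT ((D.bad_iff b r y).1 hy)

end Sys

end Groth.Agent.Resolve.K375.Tower
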