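import Groth.Agent.Resolve.K375.Union
import Groth.Agent.Resolve.K375.Tower
import Groth.Agent.Sga7.H150.Acc
import Mathlib.AlgebraicGeometry.ValuativeCriterion
import Mathlib.AlgebraicGeometry.Morphisms.FiniteType

/-!
# Lifting along proper morphisms to infinitely near points

Let `P 0, P 1, …` be local schemes over `S`, birational and dominating each other, whose union is a valuation ring.
If `f : Y ⟶ S` is universally closed and locally of finite type and the generic point lifts to `Y`, then some `P n`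
lifts to `Y` (`exists_lift`).
-/

set_option autoImplicit false
universe u

open CategoryTheory CategoryTheory.Limits AlgebraicGeometry IsLocalRing

namespace Groth.Agent.Resolve.K375.Lift

open Groth.Agent.Sga7.H150.ValChain Groth.Agent.Sga7.H150.AccAux Tower

/-- Morphisms from a local scheme are determined after an injective local homomorphism. -/
theorem hom_ext {A V : Type u} [CommRing A] [CommRing V] [IsLocalRing A] [IsLocalRing V] (χ : A →+* V) [IsLocalHom χ]
    (hχ : Function.Injective χ) {S : Scheme.{u}} {l l' : Spec (CommRingCat.of A) ⟶ S}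
    (h : Spec.map (CommRingCat.ofHom χ) ≫ l = Spec.map (CommRingCat.ofHom χ) ≫ l') : l = l' := by
  have hcp : (Spec.map (CommRingCat.ofHom χ)) (closedPoint V) = closedPoint A := IsLocalRing.comap_closedPoint χ
  have hc : l (closedPoint A) = l' (closedPoint A) := by
    have h1 : (Spec.map (CommRingCat.ofHom χ) ≫ l) (closedPoint V) =
        (Spec.map (CommRingCat.ofHom χ) ≫ l') (closedPoint V) := by rw [h]
    rw [← hcp]
    exact h1
  obtain ⟨U, hU, hxU⟩ : ∃ U : S.Opens, IsAffineOpen U ∧ l (closedPoint A) ∈ U := by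
    obtain ⟨_, ⟨U, hU, rfl⟩, hxU, -⟩ :=
      S.isBasis_affineOpens.exists_subset_of_mem_open (Set.mem_univ (l (closedPoint A))) isOpen_univ
    exact ⟨U, hU, hxU⟩
  have hrange : ∀ g : Spec (CommRingCat.of A) ⟶ S, g (closedPoint A) ∈ U → Set.range g ⊆ Set.range U.ι := by
    rintro g hg _ ⟨x, rfl⟩
    rw [Scheme.Opens.range_ι]
    have h1 : x ⤳ closedPoint A := IsLocalRing.specializes_closedPoint x
    exact (h1.map g.continuous).mem_open U.isOpen hg
  have h1 := hrange l hxU
  have h2 := hrange l' (hc ▸ hxU)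
  have : IsAffine (U : Scheme.{u}) := hU
  have e : IsOpenImmersion.lift U.ι l h1 = IsOpenImmersion.lift U.ι l' h2 := by
    apply ext_of_isAffine
    have h3 : Spec.map (CommRingCat.ofHom χ) ≫ IsOpenImmersion.lift U.ι l h1 =
        Spec.map (CommRingCat.ofHom χ) ≫ IsOpenImmersion.lift U.ι l' h2 := by
      rw [← cancel_mono U.ι, Category.assoc, Category.assoc, IsOpenImmersion.lift_fac, IsOpenImmersion.lift_fac, h]
    have h4 := congrArg Scheme.Hom.appTop h3
    rw [Scheme.Hom.comp_appTop, Scheme.Hom.comp_appTop] at h4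
    have hinj : Function.Injective (Spec.map (CommRingCat.ofHom χ)).appTop := by
      have h5 := Scheme.ΓSpecIso_naturality (CommRingCat.ofHom χ)
      have h6 : (Spec.map (CommRingCat.ofHom χ)).appTop = (Scheme.ΓSpecIso (CommRingCat.of A)).hom ≫
          CommRingCat.ofHom χ ≫ (Scheme.ΓSpecIso (CommRingCat.of V)).inv := by
        rw [← Category.assoc, ← h5, Category.assoc, Iso.hom_inv_id, Category.comp_id]
      rw [h6]
      have b1 : Function.Injective (Scheme.ΓSpecIso (CommRingCat.of A)).hom :=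
        (ConcreteCategory.bijective_of_isIso (Scheme.ΓSpecIso (CommRingCat.of A)).hom).1
      have b2 : Function.Injective (Scheme.ΓSpecIso (CommRingCat.of V)).inv :=
        (ConcreteCategory.bijective_of_isIso (Scheme.ΓSpecIso (CommRingCat.of V)).inv).1
      exact b2.comp (hχ.comp b1)
    ext s
    apply hinj
    exact ConcreteCategory.congr_hom h4 s
  rw [← IsOpenImmersion.lift_fac U.ι l h1, ← IsOpenImmersion.lift_fac U.ι l' h2, e]

lemma germ_surjective {A : Type u} [CommRing A] [IsLocalRing A] (x : Spec (CommRingCat.of A)) (hx : x = closedPoint A) :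
    Function.Surjective ((Spec (CommRingCat.of A)).presheaf.germ ⊤ x trivial) := by
  subst hx
  have h := ΓSpecIso_hom_stalkClosedPointIso_inv (CommRingCat.of A)
  have h1 : Function.Surjective ((Scheme.ΓSpecIso (CommRingCat.of A)).hom ≫
      (stalkClosedPointIso (CommRingCat.of A)).inv) :=
    (ConcreteCategory.bijective_of_isIso ((Scheme.ΓSpecIso (CommRingCat.of A)).hom ≫
      (stalkClosedPointIso (CommRingCat.of A)).inv)).2
  rw [h] at h1
  exact h1

/-- The ring map at the closed point of a composite through a dominated local ring. -/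
lemma stalkClosedPointTo_mem {A V : Type u} [CommRing A] [CommRing V] [IsLocalRing A] [IsLocalRing V] (χ : A →+* V)
    [IsLocalHom χ] {S : Scheme.{u}} (a : Spec (CommRingCat.of A) ⟶ S) (g : Spec (CommRingCat.of V) ⟶ S)
    (hg : g = Spec.map (CommRingCat.ofHom χ) ≫ a) (r : S.presheaf.stalk (g (closedPoint V))) :
    (Scheme.stalkClosedPointTo g).hom r ∈ χ.range := by
  subst hg
  have h1 := Scheme.stalkClosedPointTo_comp (Spec.map (CommRingCat.ofHom χ)) a
  rw [h1]
  have hcp : (Spec.map (CommRingCat.ofHom χ)) (closedPoint V) = closedPoint A := IsLocalRing.comap_closedPoint χ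
  obtain ⟨b, hb⟩ := germ_surjective _ hcp ((a.stalkMap _).hom r)
  obtain ⟨c, rfl⟩ := (ConcreteCategory.bijective_of_isIso (Scheme.ΓSpecIso (CommRingCat.of A)).inv).2 b
  refine ⟨c, ?_⟩
  have h2 := Scheme.germ_stalkClosedPointTo_Spec (CommRingCat.ofHom χ)
  have h3 : (Scheme.stalkClosedPointTo (Spec.map (CommRingCat.ofHom χ))).hom
      ((Spec (CommRingCat.of A)).presheaf.germ ⊤ _ trivial ((Scheme.ΓSpecIso (CommRingCat.of A)).inv c)) =
      χ ((Scheme.ΓSpecIso (CommRingCat.of A)).hom ((Scheme.ΓSpecIso (CommRingCat.of A)).inv c)) :=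
    ConcreteCategory.congr_hom h2 ((Scheme.ΓSpecIso (CommRingCat.of A)).inv c)
  have h4 : (Scheme.ΓSpecIso (CommRingCat.of A)).hom ((Scheme.ΓSpecIso (CommRingCat.of A)).inv c) = c :=
    ConcreteCategory.congr_hom (Scheme.ΓSpecIso (CommRingCat.of A)).inv_hom_id c
  rw [h4] at h3
  rw [← h3]
  exact congrArg _ hb

/-- A ring essentially of finite type over `R`, mapped in the union `V` of the chain, is mapped in one of the rings. -/
lemma exists_factor {R B : Type*} [CommRing R] [CommRing B] [Algebra R B] [Algebra.EssFiniteType R B]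
    {K : Type u} [Field K] (O : ℕ → LocalSubring K) (hO : Monotone O) (V : ValuationSubring K)
    (hV : ∀ n, O n ≤ V.toLocalSubring) (hU : ∀ z ∈ V, ∃ n, z ∈ (O n).toSubring) (ρ : B →+* K) (hρ : ∀ b, ρ b ∈ V)
    (h0 : ∀ r : R, ρ (algebraMap R B r) ∈ (O 0).toSubring) : ∃ n, ∀ b, ρ b ∈ (O n).toSubring := by
  choose N hN using fun b : B => hU _ (hρ b)
  let σ := Algebra.EssFiniteType.finset R B
  let n := σ.sup N
  have h1 : ∀ b ∈ Algebra.EssFiniteType.subalgebra R B, ρ b ∈ (O n).toSubring := by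
    intro b hb
    induction hb using Algebra.adjoin_induction with
    | mem x hx => exact (hO (Finset.le_sup (f := N) hx)).1 (hN x)
    | algebraMap r => exact (hO (Nat.zero_le n)).1 (h0 r)
    | add x y _ _ hx hy => rw [map_add]; exact add_mem hx hy
    | mul x y _ _ hx hy => rw [map_mul]; exact mul_mem hx hy
  refine ⟨n, fun b => ?_⟩
  obtain ⟨⟨x, s⟩, hs⟩ := IsLocalization.surj (Algebra.EssFiniteType.submonoid R B) b
  have hsu : IsUnit ((s : Algebra.EssFiniteType.subalgebra R B) : B) := s.2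
  have hs1 : ρ (s : Algebra.EssFiniteType.subalgebra R B) ∈ (O n).toSubring := h1 _ (s : Algebra.EssFiniteType.subalgebra R B).2
  obtain ⟨t, ht⟩ := hsu.exists_right_inv
  have ht' : ρ (s : Algebra.EssFiniteType.subalgebra R B) * ρ t = 1 := by rw [← map_mul, ht, map_one]
  have h2 : ρ (s : Algebra.EssFiniteType.subalgebra R B) ∉ mx (O n) := fun h =>
    notMem_mx (R := V.toLocalSubring) (hρ t) ht' (mx_mono (hV n) h)
  obtain ⟨h3, h4⟩ := inv_mem hs1 h2
  have h5 : ρ b * ρ (s : Algebra.EssFiniteType.subalgebra R B) = ρ (x : B) := by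
    rw [← map_mul]
    exact congrArg ρ hs
  have h6 : ρ b = ρ (x : B) * (ρ (s : Algebra.EssFiniteType.subalgebra R B))⁻¹ := by
    rw [← h5]; field_simp
  rw [h6]
  exact mul_mem (h1 _ x.2) h3

lemma exists_hom_factor {A V : Type u} [CommRing A] [CommRing V] (χ : A →+* V) (hχ : Function.Injective χ)
    {C : CommRingCat.{u}} (ρ : C ⟶ CommRingCat.of V) (h : ∀ c, ∃ a, χ a = ρ.hom c) :
    ∃ q : C ⟶ CommRingCat.of A, q ≫ CommRingCat.ofHom χ = ρ := by
  choose g hg using h
  refine ⟨CommRingCat.ofHom { toFun := g, map_one' := ?_, map_mul' := ?_, map_zero' := ?_, map_add' := ?_ }, ?_⟩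
  · apply hχ; rw [hg, map_one, map_one]
  · intro x y; apply hχ; rw [hg, map_mul, map_mul, hg, hg]
  · apply hχ; rw [hg, map_zero, map_zero]
  · intro x y; apply hχ; rw [hg, map_add, map_add, hg, hg]
  · ext c
    exact hg c

/-- Lifting along a proper morphism to one of the infinitely near points. -/
theorem exists_lift {S Y : Scheme.{u}} (f : Y ⟶ S) [UniversallyClosed f] [LocallyOfFiniteType f] (P : ℕ → Germ S)
    {K : Type u} [Field K] (ψ : ∀ n, (P n).A →+* K) (hψ : ∀ n, Function.Injective (ψ n))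
    (hc : ∀ n, ∃ φ : (P 0).A →+* (P n).A, Spec.map (CommRingCat.ofHom φ) ≫ (P 0).a = (P n).a ∧ (ψ n).comp φ = ψ 0)
    (V : ValuationSubring K) [IsFractionRing V K] (hV : ∀ n, im (ψ n) ≤ V.toLocalSubring)
    (hmono : Monotone fun n => im (ψ n))
    (hU : ∀ z ∈ V, ∃ n, z ∈ (im (ψ n)).toSubring) (k : Spec (CommRingCat.of K) ⟶ Y)
    (hk : k ≫ f = Spec.map (CommRingCat.ofHom (ψ 0)) ≫ (P 0).a) :
    ∃ (n : ℕ) (l : Spec (CommRingCat.of (P n).A) ⟶ Y), l ≫ f = (P n).a ∧
      Spec.map (CommRingCat.ofHom (ψ n)) ≫ l = k := by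
  let χ : ∀ n, (P n).A →+* V := fun n => (ψ n).codRestrict V.toSubring (fun a => (hV n).1 (mem_im (ψ n) a))
  have hχ : ∀ n, Function.Injective (χ n) := fun n a b h => hψ n (congrArg (fun v : V => (v : K)) h)
  have hloc : ∀ n, IsLocalHom (χ n) := by
    intro n
    refine ⟨fun a ha => ?_⟩
    by_contra hna
    have h1 : ψ n a ∈ mx (im (ψ n)) := (mem_mx_im (hψ n)).2 ((mem_maximalIdeal _).2 hna)
    obtain ⟨h2, h3⟩ := mx_mono (hV n) h1
    exact (mem_nonunits_iff.1 ((mem_maximalIdeal _).1 h3)) ha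
  have hψχ : ∀ n, CommRingCat.ofHom (χ n) ≫ CommRingCat.ofHom (algebraMap V K) = CommRingCat.ofHom (ψ n) :=
    fun n => rfl
  have hχS : ∀ n, Spec.map (CommRingCat.ofHom (χ n)) ≫ (P n).a = Spec.map (CommRingCat.ofHom (χ 0)) ≫ (P 0).a := by
    intro n
    obtain ⟨φ, h1, h2⟩ := hc n
    rw [← h1, ← Category.assoc, ← Spec.map_comp]
    have : CommRingCat.ofHom φ ≫ CommRingCat.ofHom (χ n) = CommRingCat.ofHom (χ 0) := by
      ext a
      exact congrArg (fun g : (P 0).A →+* K => g a) h2
    rw [this]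
  have hex : ValuativeCriterion.Existence f := by
    have := UniversallyClosed.eq_valuativeCriterion
    have h2 : UniversallyClosed f := inferInstance
    rw [this] at h2
    exact h2.1
  obtain ⟨lV, hl1, hl2⟩ : ∃ lV : Spec (CommRingCat.of V) ⟶ Y,
      Spec.map (CommRingCat.ofHom (algebraMap V K)) ≫ lV = k ∧
        lV ≫ f = Spec.map (CommRingCat.ofHom (χ 0)) ≫ (P 0).a := by
    obtain ⟨⟨⟨lV, hl1, hl2⟩⟩⟩ := hex ⟨V, K, k, Spec.map (CommRingCat.ofHom (χ 0)) ≫ (P 0).a,
      ⟨by rw [hk, ← Category.assoc, ← Spec.map_comp, hψχ]⟩⟩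
    exact ⟨lV, hl1, hl2⟩
  let y := lV (closedPoint V)
  let ρ' : Y.presheaf.stalk y ⟶ CommRingCat.of V := Scheme.stalkClosedPointTo lV
  let ρ : Y.presheaf.stalk y →+* K := (algebraMap V K).comp ρ'.hom
  let _ : Algebra (S.presheaf.stalk (f y)) (Y.presheaf.stalk y) := (f.stalkMap y).hom.toAlgebra
  have hess : Algebra.EssFiniteType (S.presheaf.stalk (f y)) (Y.presheaf.stalk y) :=
    LocallyOfFiniteType.stalkMap f y
  obtain ⟨n, hn⟩ := exists_factor (R := S.presheaf.stalk (f y)) (fun n => im (ψ n)) hmono V hV hU ρ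
    (fun b => (ρ'.hom b).2) (by
      intro r
      have h1 := Scheme.stalkClosedPointTo_comp lV f
      have h2 : ρ'.hom ((f.stalkMap y).hom r) = (Scheme.stalkClosedPointTo (lV ≫ f)).hom r := by
        rw [h1]
        rfl
      have h3 := stalkClosedPointTo_mem (χ 0) (P 0).a (lV ≫ f) hl2 r
      rw [← h2] at h3
      obtain ⟨a, ha⟩ := h3
      refine ⟨a, ?_⟩
      exact congrArg (fun v : V => (v : K)) ha)
  obtain ⟨q, hq⟩ := exists_hom_factor (χ n) (hχ n) ρ' (by
    intro b
    obtain ⟨a, ha⟩ := hn b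
    exact ⟨a, Subtype.ext ha⟩)
  have hl : Spec.map (CommRingCat.ofHom (χ n)) ≫ Spec.map q ≫ Y.fromSpecStalk y = lV := by
    rw [← Category.assoc, ← Spec.map_comp, hq]
    exact Scheme.Spec_stalkClosedPointTo_fromSpecStalk lV
  refine ⟨n, Spec.map q ≫ Y.fromSpecStalk y, ?_, ?_⟩
  · have := hloc n
    apply hom_ext (χ n) (hχ n)
    have h1 : Spec.map (CommRingCat.ofHom (χ n)) ≫ (Spec.map q ≫ Y.fromSpecStalk y) ≫ f =
        (Spec.map (CommRingCat.ofHom (χ n)) ≫ Spec.map q ≫ Y.fromSpecStalk y) ≫ f := by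
      simp only [Category.assoc]
    rw [h1, hl, hl2, hχS n]
  · rw [← hψχ, Spec.map_comp, Category.assoc, hl, hl1]

end Groth.Agent.Resolve.K375.Lift
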