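import Groth.Agent.Sga7.H150.ValChain
import Groth.Agent.Ega2.DVRDominate
import Groth.Agent.S0554

/-!
# Unions of chains of local rings with principal maximal ideal extensions

`O 0 ≤ O 1 ≤ …` local subrings of `K` with `𝔪_n O_{n+1}` principal.  The union is a valuation ring

* if `O 0` is Noetherian of dimension one with fraction field `K` (`exists_dim_one`);
* if `O 0` is Noetherian of dimension at most two with fraction field `K` and all `O n` are integrally closed
  (`exists_dim_two`).
-/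

set_option autoImplicit false
universe u

open IsLocalRing

namespace Groth.Agent.Resolve.K375.Union

open Groth.Agent.Sga7.H150.ValChain

variable {K : Type u} [Field K]

/-- A chain of local subrings with principal extensions of the maximal ideals. -/
structure Chain (K : Type u) [Field K] where
  O : ℕ → LocalSubring K
  x : ℕ → K
  mono : Monotone O
  dvd : ∀ n, ∀ y ∈ mx (O n), ∃ s ∈ (O (n + 1)).toSubring, y = x n * s
  hx : ∀ n, x n ∈ mx (O (n + 1))

namespace Chain

variable (C : Chain K)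

/-- A Noetherian valuation ring dominating all rings of the chain is the union. -/
theorem exists_mem (V : ValuationSubring K) [IsNoetherianRing V] (hV : ∀ n, C.O n ≤ V.toLocalSubring)
    [IsFractionRing (C.O 0).toSubring K] (z : K) (hz : z ∈ V) : ∃ n, z ∈ (C.O n).toSubring := by
  obtain ⟨a, s, hs, rfl⟩ := IsFractionRing.div_surjective (A := (C.O 0).toSubring) z
  have key : ∀ b : V, b ≠ 0 → ∀ n, (b : K) ∈ (C.O n).toSubring → ∀ a ∈ (C.O n).toSubring, a / (b : K) ∈ V →
      ∃ m, a / (b : K) ∈ (C.O m).toSubring := by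
    intro b
    refine (wellFounded_dvdNotUnit (α := V)).induction (C := fun b => b ≠ 0 → ∀ n, (b : K) ∈ (C.O n).toSubring →
      ∀ a ∈ (C.O n).toSubring, a / (b : K) ∈ V → ∃ m, a / (b : K) ∈ (C.O m).toSubring) b ?_
    intro b ih hb n hbn a ha hab
    have hbK : (b : K) ≠ 0 := fun h => hb (Subtype.ext h)
    by_cases hbm : (b : K) ∈ mx (C.O n)
    · obtain ⟨s, hs, hbs⟩ := C.dvd n _ hbm
      have hsV : s ∈ V := (hV (n + 1)).1 hs
      have hxV : C.x n ∈ mx V.toLocalSubring := mx_mono (hV (n + 1)) (C.hx n)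
      have hxV' : C.x n ∈ V := hxV.1
      have hb' : b = ⟨C.x n, hxV'⟩ * ⟨s, hsV⟩ := Subtype.ext hbs
      have hx0 : C.x n ≠ 0 := by
        intro h
        rw [h, zero_mul] at hbs
        exact hbK hbs
      have hs0 : (⟨s, hsV⟩ : V) ≠ 0 := by
        rintro h
        apply hb
        rw [hb', h, mul_zero]
      have ham : a ∈ mx (C.O n) := by
        apply mx_of_mx (hV n) ha
        have : a = b * (a / b) := by field_simp
        rw [this]
        exact mul_mem_mx (mx_mono (hV n) hbm) hab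
      obtain ⟨r, hr, har⟩ := C.dvd n _ ham
      have e : a / (b : K) = r / s := by
        rw [har, hbs, mul_div_mul_left _ _ hx0]
      rw [e] at hab ⊢
      exact ih ⟨s, hsV⟩ ⟨hs0, ⟨C.x n, hxV'⟩, hxV.2, by rw [hb', mul_comm]⟩ hs0 (n + 1) hs r hr hab
    · obtain ⟨h1, h2⟩ := inv_mem hbn hbm
      exact ⟨n, by rw [div_eq_mul_inv]; exact (C.O n).toSubring.mul_mem ha h1⟩
  have hs0 : (s : K) ≠ 0 := by
    intro h
    exact (nonZeroDivisors.ne_zero hs) (Subtype.ext h)
  exact key ⟨s, (hV 0).1 s.2⟩ (fun h => hs0 (congrArg (fun v : V => (v : K)) h)) 0 s.2 a a.2 hz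

/-- The one-dimensional case. -/
theorem exists_dim_one [IsNoetherianRing (C.O 0).toSubring] [Ring.KrullDimLE 1 (C.O 0).toSubring]
    [IsFractionRing (C.O 0).toSubring K] (h0 : maximalIdeal (C.O 0).toSubring ≠ ⊥) :
    ∃ V : ValuationSubring K, IsDiscreteValuationRing V ∧ (∀ n, C.O n ≤ V.toLocalSubring) ∧
      ∀ z ∈ V, ∃ n, z ∈ (C.O n).toSubring := by
  obtain ⟨R, hR⟩ := exists_ub C.O C.mono
  obtain ⟨V, hRV⟩ := R.exists_le_valuationSubring
  have hV : ∀ n, C.O n ≤ V.toLocalSubring := fun n => (hR n).trans hRV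
  have hdvr := Ega2.DVRDominate.isDVR_of_le_of_krullDimLE_one (C.O 0) V (hV 0) h0
  exact ⟨V, hdvr, hV, C.exists_mem V hV⟩

end Chain

/-! ### Seidenberg's lemma -/

open Polynomial in
/-- **Seidenberg's lemma**: if `f` and `f⁻¹` are not in the integrally closed local ring `R`, every polynomial
vanishing at `f` has all coefficients in the maximal ideal. -/
theorem seidenberg (R : Subring K) [IsLocalRing R] (hR : ∀ z : K, IsIntegral R z → z ∈ R) (f : K) (hf : f ∉ R)
    (hf' : f⁻¹ ∉ R) (g : R[X]) (hg : aeval f g = 0) (i : ℕ) : g.coeff i ∈ maximalIdeal R := by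
  have hf0 : f ≠ 0 := by
    rintro rfl
    exact hf R.zero_mem
  suffices H : ∀ (d : ℕ) (a : ℕ → R), (∑ i ∈ Finset.range (d + 1), (a i : K) * f ^ i) = 0 →
      ∀ i ≤ d, a i ∈ maximalIdeal R by
    by_cases hi : i ≤ g.natDegree
    · refine H g.natDegree g.coeff ?_ i hi
      rw [aeval_eq_sum_range] at hg
      exact hg
    · rw [coeff_eq_zero_of_natDegree_lt (not_le.1 hi)]
      exact zero_mem _
  intro d
  induction d with
  | zero =>
    intro a ha i hi
    obtain rfl : i = 0 := Nat.le_zero.1 hi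
    rw [Finset.sum_range_one, pow_zero, mul_one] at ha
    have : a 0 = 0 := Subtype.ext ha
    rw [this]
    exact zero_mem _
  | succ d ih =>
    intro a ha
    -- the leading coefficient times `f` is integral
    have hint : IsIntegral R ((a (d + 1) : K) * f) := by
      refine ⟨X ^ (d + 1) + ∑ i ∈ Finset.range (d + 1), C (a i * a (d + 1) ^ (d - i)) * X ^ i, ?_, ?_⟩
      · apply monic_X_pow_add
        refine lt_of_le_of_lt (degree_sum_le _ _) ?_
        rw [Finset.sup_lt_iff (by exact WithBot.bot_lt_coe (d + 1))]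
        intro i hi
        refine lt_of_le_of_lt (degree_C_mul_X_pow_le _ _) ?_
        exact_mod_cast Finset.mem_range.1 hi
      · rw [eval₂_add, eval₂_X_pow, eval₂_finsetSum]
        have e : ∀ i ∈ Finset.range (d + 1), eval₂ (algebraMap R K) ((a (d + 1) : K) * f)
            (C (a i * a (d + 1) ^ (d - i)) * X ^ i) = (a (d + 1) : K) ^ d * ((a i : K) * f ^ i) := by
          intro i hi
          have hid : i ≤ d := Nat.lt_succ_iff.1 (Finset.mem_range.1 hi)
          rw [eval₂_mul, eval₂_C, eval₂_X_pow, map_mul, map_pow, mul_pow]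
          change (a i : K) * (a (d + 1) : K) ^ (d - i) * ((a (d + 1) : K) ^ i * f ^ i) = _
          have : (a (d + 1) : K) ^ d = (a (d + 1) : K) ^ (d - i) * (a (d + 1) : K) ^ i := by
            rw [← pow_add, Nat.sub_add_cancel hid]
          rw [this]
          ring
        rw [Finset.sum_congr rfl e, ← Finset.mul_sum]
        rw [Finset.sum_range_succ] at ha
        have e2 : ∑ i ∈ Finset.range (d + 1), (a i : K) * f ^ i = - ((a (d + 1) : K) * f ^ (d + 1)) :=
          eq_neg_of_add_eq_zero_left ha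
        rw [e2]
        ring
    have hb := hR _ hint
    let b : R := ⟨_, hb⟩
    let a' : ℕ → R := fun i => if i = d then b + a d else a i
    have ha' : (∑ i ∈ Finset.range (d + 1), (a' i : K) * f ^ i) = 0 := by
      rw [Finset.sum_range_succ] at ha ⊢
      rw [Finset.sum_range_succ] at ha
      have e1 : ∑ i ∈ Finset.range d, (a' i : K) * f ^ i = ∑ i ∈ Finset.range d, (a i : K) * f ^ i := by
        refine Finset.sum_congr rfl fun i hi => ?_
        have : i ≠ d := (Finset.mem_range.1 hi).ne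
        simp only [a', if_neg this]
      have e2 : (a' d : K) = a (d + 1) * f + a d := by
        simp only [a', if_pos rfl]
        rfl
      rw [e1, e2, ← ha]
      ring
    have h1 := ih a' ha'
    -- coefficients below `d`
    have hlt : ∀ i < d, a i ∈ maximalIdeal R := by
      intro i hi
      have := h1 i hi.le
      simp only [a', if_neg hi.ne] at this
      exact this
    have hd : b + a d ∈ maximalIdeal R := by
      have := h1 d le_rfl
      simp only [a', if_pos rfl] at this
      exact this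
    have hd1 : a (d + 1) ∈ maximalIdeal R := by
      rw [mem_maximalIdeal, mem_nonunits_iff]
      intro hu
      obtain ⟨u, hu'⟩ := hu.exists_right_inv
      apply hf
      have e : f = (b : K) * (u : K) := by
        have h2 : (a (d + 1) : K) * (u : K) = 1 := congrArg Subtype.val hu'
        change f = (a (d + 1) : K) * f * (u : K)
        calc f = ((a (d + 1) : K) * (u : K)) * f := by rw [h2, one_mul]
          _ = _ := by ring
      rw [e]
      exact R.mul_mem b.2 u.2
    have hbm : b ∈ maximalIdeal R := by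
      rw [mem_maximalIdeal, mem_nonunits_iff]
      intro hu
      obtain ⟨u, hu'⟩ := hu.exists_right_inv
      apply hf'
      have e : f⁻¹ = (a (d + 1) : K) * (u : K) := by
        have h2 : (a (d + 1) : K) * f * (u : K) = 1 := congrArg Subtype.val hu'
        rw [eq_comm, ← mul_eq_one_iff_eq_inv₀ hf0, ← h2]
        ring
      rw [e]
      exact R.mul_mem (a (d + 1)).2 u.2
    intro i hi
    rcases Nat.lt_or_ge i d with h | h
    · exact hlt i h
    rcases Nat.lt_or_ge d i with h' | h'
    · obtain rfl : i = d + 1 := le_antisymm hi h'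
      exact hd1
    · obtain rfl : i = d := le_antisymm h' h
      have := (maximalIdeal R).sub_mem hd hbm
      rwa [add_sub_cancel_left] at this

lemma range_adjoin_le {A B : LocalSubring K} (h : A.toSubring ≤ B.toSubring)
    (h' : ∀ z ∈ mx A, z ∈ mx B) : A ≤ B := by
  refine ⟨h, ⟨?_⟩⟩
  rintro ⟨z, hz⟩ hu
  by_contra hnu
  have h1 : z ∈ mx A := ⟨hz, (mem_maximalIdeal _).2 hnu⟩
  obtain ⟨_, h3⟩ := h' z h1
  exact (mem_nonunits_iff.1 ((mem_maximalIdeal _).1 h3)) hu

open Polynomial in
/-- If `f` and `f⁻¹` are not in the integrally closed local ring `R`, there is a valuation ring dominating `R` and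
containing `f` in which `f` is transcendental over `R` modulo the maximal ideals. -/
theorem exists_transcendental (R : LocalSubring K) (hR : ∀ z : K, IsIntegral R.toSubring z → z ∈ R.toSubring) (f : K)
    (hf : f ∉ R.toSubring) (hf' : f⁻¹ ∉ R.toSubring) :
    ∃ W : ValuationSubring K, R ≤ W.toLocalSubring ∧ f ∈ W ∧
      ∀ g : R.toSubring[X], aeval f g ∈ mx W.toLocalSubring → ∀ i, g.coeff i ∈ maximalIdeal R.toSubring := by
  let ev : R.toSubring[X] →+* K := (aeval f : R.toSubring[X] →ₐ[R.toSubring] K)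
  let φ := ev.rangeRestrict
  have hφ : Function.Surjective φ := ev.rangeRestrict_surjective
  let M : Ideal R.toSubring[X] := (maximalIdeal R.toSubring).map Polynomial.C
  have hMm : (maximalIdeal R.toSubring).IsPrime := (maximalIdeal.isMaximal R.toSubring).isPrime
  have hM : M.IsPrime := Ideal.isPrime_map_C_of_isPrime
  have hker : RingHom.ker φ ≤ M := by
    intro g hg
    have h1 : aeval f g = 0 := congrArg Subtype.val ((RingHom.mem_ker).1 hg)
    exact Ideal.mem_map_C_iff.2 (seidenberg R.toSubring hR f hf hf' g h1)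
  let P : Ideal ev.range := M.map φ
  have hP : P.IsPrime := Ideal.map_isPrime_of_surjective hφ hker
  have hcomap : P.comap φ = M := by
    rw [Ideal.comap_map_of_surjective φ hφ]
    exact sup_eq_left.2 hker
  obtain ⟨W, hW⟩ := (LocalSubring.ofPrime ev.range P).exists_le_valuationSubring
  have hfr : f ∈ ev.range := ⟨X, aeval_X f⟩
  have hRr : R.toSubring ≤ ev.range := fun z hz => ⟨C ⟨z, hz⟩, aeval_C f _⟩
  have hrW : ev.range ≤ W.toSubring := (LocalSubring.le_ofPrime _ _).trans hW.1
  have hmem : ∀ c : ev.range, (c : K) ∈ mx W.toLocalSubring ↔ c ∈ P := by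
    intro c
    rw [← Ega2.DVRDominate.mem_maximalIdeal_ofPrime ev.range P c]
    constructor
    · intro h
      exact (mx_of_mx hW (LocalSubring.le_ofPrime _ _ c.2) h).2
    · intro h
      exact mx_mono hW ⟨LocalSubring.le_ofPrime _ _ c.2, h⟩
  refine ⟨W, range_adjoin_le (hRr.trans hrW) ?_, hrW hfr, ?_⟩
  · rintro z ⟨hz, hz'⟩
    rw [hmem ⟨z, hRr hz⟩]
    have : (⟨z, hRr hz⟩ : ev.range) = φ (C ⟨z, hz⟩) := Subtype.ext (aeval_C f (⟨z, hz⟩ : R.toSubring)).symm
    rw [this]
    exact Ideal.mem_map_of_mem _ (Ideal.mem_map_of_mem _ hz')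
  · intro g hg i
    have h1 : φ g ∈ P := (hmem (φ g)).1 hg
    have h2 : g ∈ P.comap φ := h1
    rw [hcomap] at h2
    exact Ideal.mem_map_C_iff.1 h2 i

open Polynomial in
/-- A valuation ring `W` dominating a Noetherian local ring of dimension at most two with an element `f ∈ W`
transcendental modulo the maximal ideals is a discrete valuation ring. -/
theorem isDVR_of_transcendental (R : LocalSubring K) [IsNoetherianRing R.toSubring] [IsFractionRing R.toSubring K]
    (hd : ringKrullDim R.toSubring ≤ 2) (h0 : maximalIdeal R.toSubring ≠ ⊥)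
    (W : ValuationSubring K) (hW : R ≤ W.toLocalSubring) (f : K) (hf : f ∈ W)
    (htr : ∀ g : R.toSubring[X], aeval f g ∈ mx W.toLocalSubring → ∀ i, g.coeff i ∈ maximalIdeal R.toSubring) :
    IsDiscreteValuationRing W := by
  let R0 := R.toSubring
  let B : Subalgebra R0 K := (aeval f : R0[X] →ₐ[R0] K).range
  have hft : Algebra.FiniteType R0 B :=
    Algebra.FiniteType.of_surjective (aeval f : R0[X] →ₐ[R0] K).rangeRestrict
      (aeval f : R0[X] →ₐ[R0] K).rangeRestrict_surjective
  have hRB : R0 ≤ B.toSubring := fun z hz => B.algebraMap_mem ⟨z, hz⟩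
  have hBW : B.toSubring ≤ W.toSubring := by
    rintro _ ⟨g, rfl⟩
    change aeval f g ∈ W
    rw [aeval_eq_sum_range]
    refine sum_mem fun i _ => ?_
    change (g.coeff i : K) * f ^ i ∈ W
    exact W.mul_mem _ _ (hW.1 (g.coeff i).2) (pow_mem hf i)
  have hnoeth : IsNoetherianRing B := Algebra.FiniteType.isNoetherianRing R0 B
  have hnoeth' : IsNoetherianRing B.toSubring := hnoeth
  let q : Ideal B := (maximalIdeal W.toLocalSubring.toSubring).comap (Subring.inclusion hBW)
  have hq : q.IsPrime := Ideal.IsPrime.comap _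
  have hmemq : ∀ c : B, c ∈ q ↔ (c : K) ∈ mx W.toLocalSubring := fun c =>
    ⟨fun h => ⟨hBW c.2, h⟩, fun h => h.2⟩
  have hlie : q.LiesOver (maximalIdeal R0) := by
    refine ⟨?_⟩
    ext r
    change r ∈ maximalIdeal R0 ↔ algebraMap R0 B r ∈ q
    rw [hmemq]
    constructor
    · intro h
      exact mx_mono hW ⟨r.2, h⟩
    · intro h
      exact (mx_of_mx hW r.2 h).2
  have key := Groth.Agent.S0554.result R0 B (maximalIdeal R0) q
  have hBalg : Algebra.IsAlgebraic R0 B := by
    have h1 : Algebra.IsAlgebraic R0 K := by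
      refine ⟨fun z => ?_⟩
      rw [IsFractionRing.isAlgebraic_iff R0 K K]
      exact Algebra.IsAlgebraic.isAlgebraic _
    refine ⟨fun z => ?_⟩
    exact (isAlgebraic_algebraMap_iff (A := K) (Subtype.val_injective : Function.Injective (algebraMap B K))).1
      (h1.isAlgebraic _)
  rw [trdeg_eq_zero (R := R0) (A := B), add_zero] at key
  have htrans : Algebra.Transcendental (R0 ⧸ maximalIdeal R0) (B ⧸ q) := by
    refine ⟨⟨Ideal.Quotient.mk q ⟨f, ⟨X, aeval_X f⟩⟩, ?_⟩⟩
    rw [transcendental_iff]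
    intro p hp
    obtain ⟨g, rfl⟩ := Polynomial.map_surjective _ Ideal.Quotient.mk_surjective p
    have h1 : aeval (Ideal.Quotient.mk q ⟨f, ⟨X, aeval_X f⟩⟩) (g.map (Ideal.Quotient.mk (maximalIdeal R0))) =
        Ideal.Quotient.mk q (aeval (⟨f, ⟨X, aeval_X f⟩⟩ : B) g) := by
      rw [aeval_def, eval₂_map, aeval_def, hom_eval₂]
      rfl
    rw [h1, Ideal.Quotient.eq_zero_iff_mem, hmemq] at hp
    have h2 : ((aeval (⟨f, ⟨X, aeval_X f⟩⟩ : B) g : B) : K) = aeval f g := by
      have := aeval_algebraMap_apply K (⟨f, ⟨X, aeval_X f⟩⟩ : B) g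
      exact this.symm
    rw [h2] at hp
    ext i
    rw [coeff_map, coeff_zero]
    exact Ideal.Quotient.eq_zero_iff_mem.2 (htr g hp i)
  have hpos : 1 ≤ Algebra.trdeg (R0 ⧸ maximalIdeal R0) (B ⧸ q) := by
    rw [Cardinal.one_le_iff_pos]
    exact trdeg_pos _ _
  have hm2 : (maximalIdeal R0).height ≤ 2 := by
    have h1 := IsLocalRing.maximalIdeal_height_eq_ringKrullDim (R := R0)
    have h2 : ((maximalIdeal R0).height : WithBot ℕ∞) ≤ ((2 : ℕ∞) : WithBot ℕ∞) := h1.le.trans hd
    exact WithBot.coe_le_coe.1 h2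
  have hq1 : q.height ≤ 1 := by
    have h1 : (q.height : Cardinal.{u}) + 1 ≤ ((2 : ℕ∞) : Cardinal.{u}) :=
      (add_le_add le_rfl hpos).trans (key.trans (Cardinal.ofENat_le_ofENat.2 hm2))
    have h2 : ((q.height + 1 : ℕ∞) : Cardinal.{u}) ≤ ((1 + 1 : ℕ∞) : Cardinal.{u}) := by
      rw [Cardinal.ofENat_add, Cardinal.ofENat_one, one_add_one_eq_two]
      exact h1
    have h3 : q.height + 1 ≤ 1 + 1 := Cardinal.ofENat_le_ofENat.1 h2
    exact (ENat.add_le_add_iff_right (by decide)).1 h3
  let q' : Ideal B.toSubring := q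
  have hq' : q'.IsPrime := hq
  let D := LocalSubring.ofPrime B.toSubring q'
  have hfrB : IsFractionRing B.toSubring K := Ega2.DVRDominate.isFractionRing_of_le R0 _ hRB
  have hfrD : IsFractionRing D.toSubring K :=
    Ega2.DVRDominate.isFractionRing_of_le B.toSubring _ (LocalSubring.le_ofPrime _ _)
  have hDdim : Ring.KrullDimLE 1 D.toSubring := by
    rw [Ring.krullDimLE_iff, IsLocalization.AtPrime.ringKrullDim_eq_height q' D.toSubring]
    exact_mod_cast hq1
  have hD : ∀ z ∈ D.toSubring, ∃ a ∈ B, ∃ s ∈ B, z * s = a ∧ s ∉ mx W.toLocalSubring := by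
    intro z hz
    obtain ⟨⟨a, s⟩, h⟩ := IsLocalization.surj (M := q'.primeCompl) (⟨z, hz⟩ : D.toSubring)
    exact ⟨a.1, a.2, s.1.1, s.1.2, congrArg Subtype.val h, fun h1 => s.2 ((hmemq s.1).2 h1)⟩
  have hDW : D ≤ W.toLocalSubring := by
    refine range_adjoin_le ?_ ?_
    · intro z hz
      obtain ⟨a, ha, s, hs, h1, h2⟩ := hD z hz
      obtain ⟨h3, h4⟩ := inv_mem (hBW hs) h2
      have : z = a * s⁻¹ := by rw [← h1]; field_simp
      rw [this]
      exact W.mul_mem _ _ (hBW ha) h3
    · rintro z ⟨hz, hz'⟩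
      obtain ⟨a, ha, s, hs, h1, h2⟩ := hD z hz
      obtain ⟨h3, h4⟩ := inv_mem (hBW hs) h2
      have h5 : (⟨a, LocalSubring.le_ofPrime B.toSubring q' ha⟩ : D.toSubring) ∈ maximalIdeal D.toSubring := by
        have : (⟨a, LocalSubring.le_ofPrime B.toSubring q' ha⟩ : D.toSubring) =
            ⟨z, hz⟩ * ⟨s, LocalSubring.le_ofPrime B.toSubring q' hs⟩ := Subtype.ext h1.symm
        rw [this]
        exact Ideal.mul_mem_right _ _ hz'
      rw [Ega2.DVRDominate.mem_maximalIdeal_ofPrime B.toSubring q' ⟨a, ha⟩] at h5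
      have : z = a * s⁻¹ := by rw [← h1]; field_simp
      rw [this]
      exact mul_mem_mx ((hmemq ⟨a, ha⟩).1 h5) h3
  refine Ega2.DVRDominate.isDVR_of_le_of_krullDimLE_one D W hDW ?_
  intro h
  obtain ⟨c, hc, hc0⟩ := Submodule.exists_mem_ne_zero_of_ne_bot h0
  have h1 : (⟨(c : K), hRB c.2⟩ : B) ∈ q := by
    rw [hmemq]
    exact mx_mono hW ⟨c.2, hc⟩
  have h2 := (Ega2.DVRDominate.mem_maximalIdeal_ofPrime B.toSubring q' ⟨(c : K), hRB c.2⟩).2 h1
  have h3 : (⟨(c : K), LocalSubring.le_ofPrime B.toSubring q' (hRB c.2)⟩ : D.toSubring) ∈ maximalIdeal D.toSubring := h2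
  rw [h, Ideal.mem_bot] at h3
  have h4 : (c : K) = 0 := congrArg Subtype.val h3
  exact hc0 (Subtype.ext h4)

/-- The two-dimensional case: integrally closed chains. -/
theorem Chain.exists_dim_two (C : Chain K) [IsNoetherianRing (C.O 0).toSubring]
    [IsFractionRing (C.O 0).toSubring K] (hd : ringKrullDim (C.O 0).toSubring ≤ 2)
    (h0 : maximalIdeal (C.O 0).toSubring ≠ ⊥)
    (hn : ∀ n, ∀ z : K, IsIntegral (C.O n).toSubring z → z ∈ (C.O n).toSubring) :
    ∃ V : ValuationSubring K, (∀ n, C.O n ≤ V.toLocalSubring) ∧ ∀ z ∈ V, ∃ n, z ∈ (C.O n).toSubring := by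
  by_cases hval : ∀ z : K, (∃ n, z ∈ (C.O n).toSubring) ∨ ∃ n, z⁻¹ ∈ (C.O n).toSubring
  · obtain ⟨R, hR⟩ := exists_ub C.O C.mono
    obtain ⟨V, hRV⟩ := R.exists_le_valuationSubring
    have hV : ∀ n, C.O n ≤ V.toLocalSubring := fun n => (hR n).trans hRV
    refine ⟨V, hV, fun z hz => ?_⟩
    rcases hval z with h | ⟨n, h⟩
    · exact h
    · by_cases hz0 : z = 0
      · exact ⟨0, by rw [hz0]; exact zero_mem _⟩
      have h1 : z⁻¹ ∉ mx V.toLocalSubring := notMem_mx (R := V.toLocalSubring) hz (inv_mul_cancel₀ hz0)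
      have h2 : z⁻¹ ∉ mx (C.O n) := fun h => h1 (mx_mono (hV n) h)
      have h3 := (inv_mem h h2).1
      rw [inv_inv] at h3
      exact ⟨n, h3⟩
  · exfalso
    push Not at hval
    obtain ⟨f, hf, hf'⟩ := hval
    have hdir : Directed (· ≤ ·) fun i => (C.O i).toSubring :=
      (LocalSubring.toSubring_mono.comp C.mono).directed_le
    have hloc : IsLocalRing (⨆ i, (C.O i).toSubring : Subring K) := by
      refine ⟨?_⟩
      intro ⟨a, ha⟩ ⟨b, hb⟩ e
      obtain ⟨i, hi⟩ := (Subring.mem_iSup_of_directed hdir).mp ha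
      obtain ⟨j, hj⟩ := (Subring.mem_iSup_of_directed hdir).mp hb
      have hCA := (C.mono (le_max_left i j)).1
      have hCB := (C.mono (le_max_right i j)).1
      refine ((C.O (max i j)).2.2 (a := ⟨a, hCA hi⟩) (b := ⟨b, hCB hj⟩)
        (Subtype.ext congr(($e).1))).imp ?_ ?_
      · exact fun h ↦ h.map (Subring.inclusion (le_iSup (fun i ↦ (C.O i).toSubring) (max i j)))
      · exact fun h ↦ h.map (Subring.inclusion (le_iSup (fun i ↦ (C.O i).toSubring) (max i j)))
    let Ω : LocalSubring K := @LocalSubring.mk _ _ (⨆ i, (C.O i).toSubring) hloc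
    have hmem : ∀ z : K, z ∈ Ω.toSubring ↔ ∃ n, z ∈ (C.O n).toSubring := fun z =>
      Subring.mem_iSup_of_directed hdir
    have hOΩ : ∀ n, C.O n ≤ Ω := by
      intro n
      refine ⟨le_iSup (fun i ↦ (C.O i).toSubring) n, ⟨?_⟩⟩
      rintro ⟨a, haA⟩ h
      obtain ⟨⟨b, hb⟩, e⟩ := isUnit_iff_exists_inv.mp h
      obtain ⟨j, hj⟩ := (Subring.mem_iSup_of_directed hdir).mp hb
      have hCA := (C.mono (le_max_left n j))
      have hCB := (C.mono (le_max_right n j)).1
      apply hCA.2.1
      exact isUnit_iff_exists_inv.mpr ⟨⟨b, hCB hj⟩, Subtype.ext congr(($e).1)⟩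
    have hint : ∀ z : K, IsIntegral Ω.toSubring z → z ∈ Ω.toSubring := by
      rintro z ⟨p, hp, hpz⟩
      -- the coefficients lie in one of the rings
      obtain ⟨n, hn'⟩ : ∃ n, ∀ i, ((p.coeff i : Ω.toSubring) : K) ∈ (C.O n).toSubring := by
        have h1 : ∀ i, ∃ n, ((p.coeff i : Ω.toSubring) : K) ∈ (C.O n).toSubring := fun i => (hmem _).1 (p.coeff i).2
        choose N hN using h1
        refine ⟨(Finset.range (p.natDegree + 1)).sup N, fun i => ?_⟩
        by_cases hi : i ≤ p.natDegree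
        · exact (C.mono (Finset.le_sup (f := N) (Finset.mem_range.2 (Nat.lt_succ_iff.2 hi)))).1 (hN i)
        · rw [Polynomial.coeff_eq_zero_of_natDegree_lt (not_le.1 hi)]
          exact zero_mem _
      rw [hmem]
      refine ⟨n, hn n z ?_⟩
      have hlift : p ∈ Polynomial.lifts (Subring.inclusion (hOΩ n).1) := by
        rw [Polynomial.lifts_iff_coeff_lifts]
        intro i
        exact ⟨⟨_, hn' i⟩, rfl⟩
      obtain ⟨p', hp', -, hp'm⟩ := Polynomial.lifts_and_natDegree_eq_and_monic hlift hp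
      refine ⟨p', hp'm, ?_⟩
      rw [← hp', Polynomial.eval₂_map] at hpz
      exact hpz
    obtain ⟨W, hW, hfW, htr⟩ := exists_transcendental Ω hint f
      (fun h => by obtain ⟨n, hn⟩ := (hmem f).1 h; exact hf n hn)
      (fun h => by obtain ⟨n, hn⟩ := (hmem f⁻¹).1 h; exact hf' n hn)
    have hV : ∀ n, C.O n ≤ W.toLocalSubring := fun n => (hOΩ n).trans hW
    have hdvr : IsDiscreteValuationRing W := by
      refine isDVR_of_transcendental (C.O 0) hd h0 W (hV 0) f hfW ?_
      intro g hg i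
      have h1 : Polynomial.aeval f g = Polynomial.aeval f (g.map (Subring.inclusion (hOΩ 0).1)) := by
        rw [Polynomial.aeval_def, Polynomial.aeval_def, Polynomial.eval₂_map]
        rfl
      rw [h1] at hg
      have h2 := htr _ hg i
      rw [Polynomial.coeff_map] at h2
      have h3 : ((g.coeff i : (C.O 0).toSubring) : K) ∈ mx Ω := ⟨(hOΩ 0).1 (g.coeff i).2, h2⟩
      exact (mx_of_mx (hOΩ 0) (g.coeff i).2 h3).2
    obtain ⟨n, hn⟩ := C.exists_mem W hV f hfW
    exact hf n hn

end Groth.Agent.Resolve.K375.Union
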