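import Groth.Agent.Lipman.TowerTerm
import Groth.Agent.Lipman.EssFT
import Groth.Agent.Lipman.PtQT
import Groth.Agent.Resolve.K375.Union
import Groth.Agent.Sga7.H150.Quad

/-!
# Towers of normalized quadratic transforms over a complete normal local ring of dimension two are finite
-/

set_option autoImplicit false
universe u

open IsLocalRing

namespace Groth.Agent.Resolve.K375.LipTower

open Groth.Agent.Lipman.Defs Groth.Agent.Lipman.EssFT Groth.Agent.Lipman.PtQT Groth.Agent.Sga7.H150.Quad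

variable {K : Type u} [Field K]

open scoped Pointwise in
/-- A local ring essentially of finite type which contains the ratios of a chart of the blow-up of `s₀`. -/
theorem exists_isPt {R A : Subring K} [IsLocalRing A] (h : EssFT R A) {s₀ : Set K} (hs₀ : IsTuple s₀) {x : K}
    (hx : x ∈ s₀) (hx0 : x ≠ 0) (hxA : ∀ y ∈ s₀, y / x ∈ A) : ∃ s, IsTuple s ∧ Refines R s s₀ ∧ IsPt R s A := by
  obtain ⟨t, ht, hF⟩ := h
  have h1 : Subring.closure ((R : Set K) ∪ t) ≤ chartRing R (insert 1 t) 1 := by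
    rw [Subring.closure_le]
    rintro z (hz | hz)
    · exact le_chartRing _ _ _ hz
    · have := div_mem_chartRing R (1 : K) (Set.mem_insert_of_mem 1 hz)
      rwa [div_one] at this
  have h2 : chartRing R (insert 1 t) 1 ≤ A := by
    rw [chartRing_le_iff]
    refine ⟨fun z hz => hF.le (Subring.subset_closure (Or.inl hz)), ?_⟩
    rintro y (rfl | hy)
    · rw [div_one]; exact one_mem _
    · rw [div_one]; exact hF.le (Subring.subset_closure (Or.inr hy))
  have h1' : IsTuple (insert (1 : K) t) := ⟨ht.insert 1, 1, Set.mem_insert _ _, one_ne_zero⟩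
  refine ⟨insert 1 t * s₀, h1'.mul hs₀, refines_mul_right _ _ _, 1 * x, Set.mul_mem_mul (Set.mem_insert _ _) hx,
    mul_ne_zero one_ne_zero hx0, ?_⟩
  have h3 : LocOf (Subring.closure ((R : Set K) ∪ t)) A := ⟨hF.le, inferInstance, hF.frac⟩
  exact h3.of_le (h1.trans (chartRing_le_mul R hx hx0)) (chartRing_mul_le h2 hxA)

/-- Images of quadratic transforms. -/
theorem qt_of_isQuad {A B : Type u} [CommRing A] [IsLocalRing A] [CommRing B] [IsLocalRing B] {α : A →+* B}
    (hα : IsQuad α) (hf : ¬ IsField A) {ψ : A →+* K} {ψ' : B →+* K} (hψ' : Function.Injective ψ')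
    (hc : ψ'.comp α = ψ) : QT ψ.range ψ'.range := by
  obtain ⟨hinj, hloc, x, hx, hmx, hz⟩ := hα
  have hψα : ∀ a, ψ' (α a) = ψ a := fun a => by rw [← hc]; rfl
  have hψ : Function.Injective ψ := by
    intro a b hab
    rw [← hψα, ← hψα] at hab
    exact hinj (hψ' hab)
  have hunit : ∀ b : B, (ψ' b)⁻¹ ∈ ψ'.range → ψ' b ≠ 0 → IsUnit b := by
    rintro b ⟨c, hc⟩ hb
    refine IsUnit.of_mul_eq_one c (hψ' ?_)
    rw [map_mul, hc, map_one, mul_inv_cancel₀ hb]
  have hx0 : x ≠ 0 := by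
    rintro rfl
    apply hf
    rw [IsLocalRing.isField_iff_maximalIdeal_eq]
    rw [map_zero, Ideal.span_singleton_eq_bot.2 rfl, Ideal.map_eq_bot_iff_of_injective hinj] at hmx
    exact hmx
  have hψx0 : ψ x ≠ 0 := fun h => hx0 (hψ (by rw [h, map_zero]))
  have hxB : ¬ IsUnit (α x) := by
    intro h
    have := hloc.map_nonunit x h
    exact (mem_nonunits_iff.1 ((mem_maximalIdeal _).1 hx)) this
  have hmS : ∀ a ∈ maximalIdeal A, ψ a ∈ mSet ψ.range := by
    intro a ha
    refine ⟨⟨a, rfl⟩, ?_⟩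
    by_cases ha0 : ψ a = 0
    · exact Or.inl ha0
    · refine Or.inr ?_
      rintro ⟨c, hc⟩
      have : IsUnit a := by
        refine IsUnit.of_mul_eq_one c (hψ ?_)
        rw [map_mul, hc, map_one, mul_inv_cancel₀ ha0]
      exact (mem_nonunits_iff.1 ((mem_maximalIdeal _).1 ha)) this
  have hmS' : ∀ z ∈ mSet ψ.range, ∃ a ∈ maximalIdeal A, ψ a = z := by
    rintro z ⟨⟨a, rfl⟩, hz⟩
    refine ⟨a, ?_, rfl⟩
    rw [mem_maximalIdeal, mem_nonunits_iff]
    intro hu
    rcases hz with hz | hz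
    · exact hu.ne_zero (hψ (by rw [hz, map_zero]))
    · apply hz
      obtain ⟨u, rfl⟩ := hu
      exact ⟨(u⁻¹ : Aˣ), by rw [← map_units_inv]⟩
  refine ⟨ψ x, hmS x hx, hψx0, ?_, ?_, ?_, ?_⟩
  · intro h
    rw [← hψα] at h
    exact hxB (hunit _ h (by rw [hψα]; exact hψx0))
  · rw [chartRing_le_iff]
    refine ⟨?_, ?_⟩
    · rintro _ ⟨a, rfl⟩
      exact ⟨α a, hψα a⟩
    · intro y hy
      obtain ⟨a, ha, rfl⟩ := hmS' y hy
      have h1 : α a ∈ Ideal.span {α x} := by rw [← hmx]; exact Ideal.mem_map_of_mem _ ha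
      obtain ⟨c, hc⟩ := Ideal.mem_span_singleton.1 h1
      refine ⟨c, ?_⟩
      rw [← hψα a, hc, map_mul, hψα, mul_div_cancel_left₀ _ hψx0]
  · exact IsLocalRing.of_surjective' ψ'.rangeRestrict ψ'.rangeRestrict_surjective
  · have hpow : ∀ n, ∀ a ∈ maximalIdeal A ^ n, ψ a / ψ x ^ n ∈ chartRing ψ.range (mSet ψ.range) (ψ x) := by
      intro n
      induction n with
      | zero =>
        intro a _
        rw [pow_zero, div_one]
        exact le_chartRing _ _ _ ⟨a, rfl⟩
      | succ n ih =>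
        intro a ha
        rw [pow_succ] at ha
        refine Submodule.mul_induction_on ha ?_ ?_
        · intro c hc d hd
          have h1 := Subring.mul_mem _ (ih c hc) (div_mem_chartRing ψ.range (ψ x) (hmS d hd))
          rwa [div_mul_div_comm, ← map_mul, ← pow_succ] at h1
        · intro c d hc hd
          rw [map_add, add_div]
          exact Subring.add_mem _ hc hd
    rintro _ ⟨z, rfl⟩
    obtain ⟨n, a, ha, a1, ha1, s, hs, h1, h2⟩ := hz z
    have hs0 : ψ' s ≠ 0 := fun h => hs.ne_zero (hψ' (by rw [h, map_zero]))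
    have hxn : ψ x ^ n ≠ 0 := pow_ne_zero _ hψx0
    have e1 : ψ' s = ψ a1 / ψ x ^ n := by
      rw [eq_div_iff hxn, ← hψα a1, h1, map_mul, map_pow, hψα, mul_comm]
    have e2 : ψ' z * ψ' s = ψ a / ψ x ^ n := by
      rw [eq_div_iff hxn, ← hψα a, h2, map_mul, map_pow, hψα, map_mul]
      ring
    refine ⟨ψ' s, by rw [e1]; exact hpow n a1 ha1, hs0, ?_, by rw [e2]; exact hpow n a ha⟩
    obtain ⟨u, rfl⟩ := hs
    exact ⟨(u⁻¹ : Bˣ), by rw [← map_units_inv]⟩

/-- **Termination.** -/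
theorem false_of_tower (R : Subring K) [IsLocalRing R] [IsNoetherianRing R]
    [IsIntegrallyClosed R] [IsAdicComplete (maximalIdeal R) R] [IsFractionRing R K] (hd : ringKrullDim R = 2)
    (C : Union.Chain K) (h0 : (C.O 0).toSubring = R) (hft : ∀ n, EssFT R (C.O n).toSubring)
    (hic : ∀ n, IsIntegrallyClosed (C.O n).toSubring) (hreg : ∀ n, ¬ IsRegularLocalRing (C.O n).toSubring)
    (hstep : ∀ n, ∃ B : Subring K, QT (C.O n).toSubring B ∧ B ≤ (C.O (n + 1)).toSubring ∧
      (∀ z ∈ B, z⁻¹ ∈ (C.O (n + 1)).toSubring → z⁻¹ ∈ B) ∧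
      ∀ a ∈ (C.O (n + 1)).toSubring, ∃ s, s ≠ 0 ∧ s⁻¹ ∈ (C.O (n + 1)).toSubring ∧ IsIntegral B s ∧
        IsIntegral B (a * s)) : False := by
  have hfrac : ∀ z : K, ∃ a ∈ R, ∃ b ∈ R, b ≠ 0 ∧ z = a / b := by
    intro z
    obtain ⟨a, b, hb, rfl⟩ := IsFractionRing.div_surjective (A := R) z
    exact ⟨a, a.2, b, b.2, fun h => nonZeroDivisors.ne_zero hb (Subtype.ext h), rfl⟩
  have hle : ∀ n, R ≤ (C.O n).toSubring := fun n => by
    rw [← h0]; exact (C.mono (Nat.zero_le n)).1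
  have hfr : ∀ n, IsFractionRing (C.O n).toSubring K := fun n => isFractionRing_of_le (hle n)
  have hint : ∀ n, ∀ z : K, IsIntegral (C.O n).toSubring z → z ∈ (C.O n).toSubring := by
    intro n z hz
    have := hfr n
    have := hic n
    obtain ⟨y, hy⟩ := (isIntegrallyClosed_iff K).1 this hz
    rw [← hy]
    exact y.2
  have hdim : ∀ n, ringKrullDim (C.O n).toSubring = 2 := by
    intro n
    have := hic n
    exact ((hft n).of_locOf hfrac hd.le (locOf_self _) (hreg n)).1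
  have i1 : IsNoetherianRing (C.O 0).toSubring := (hft 0).isNoetherianRing
  have i2 := hfr 0
  obtain ⟨V, hV, hU⟩ := C.exists_dim_two (hdim 0).le (by
    intro hbot
    have h1 := IsLocalRing.isField_iff_maximalIdeal_eq.2 hbot
    have h2 := ringKrullDim_eq_zero_of_isField h1
    rw [hdim 0] at h2
    exact absurd h2 (by decide)) hint
  obtain ⟨s₀, hs₀, T⟩ := Lipman.Tower.exists_tower R hd
  obtain ⟨x, hx, hx0, hxV⟩ := exists_chart hs₀ V
  obtain ⟨n₀, hn₀⟩ : ∃ n₀, ∀ y ∈ s₀, y / x ∈ (C.O n₀).toSubring := by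
    choose! m hm using fun y (hy : y ∈ s₀) => hU (y / x) (hxV y hy)
    obtain ⟨N, hN⟩ := (hs₀.finite.image m).bddAbove
    exact ⟨N, fun y hy => (C.mono (hN ⟨y, hy, rfl⟩)).1 (hm y hy)⟩
  have hN : ∀ n, n₀ ≤ n → NPt R s₀ (C.O n).toSubring := fun n hn =>
    ⟨exists_isPt (hft n) hs₀ hx hx0 (fun y hy => (C.mono hn).1 (hn₀ y hy)), hic n, hdim n⟩
  have hQT : ∀ n, n₀ ≤ n → QT (C.O n).toSubring (C.O (n + 1)).toSubring := by
    intro n hn
    obtain ⟨B, hB, hle', hloc, hB'⟩ := hstep n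
    have hBc := T.isIntegrallyClosed _ _ (hN n hn) hB
    have hRB : R ≤ B := (hle n).trans hB.le
    have hBf : IsFractionRing B K := isFractionRing_of_le hRB
    have hBi : ∀ z : K, IsIntegral B z → z ∈ B := by
      intro z hz
      obtain ⟨y, hy⟩ := (isIntegrallyClosed_iff K).1 hBc hz
      rw [← hy]
      exact y.2
    have heq : (C.O (n + 1)).toSubring = B := by
      refine le_antisymm (fun a ha => ?_) hle'
      obtain ⟨s, hs0, hsi, hs1, hs2⟩ := hB' a ha
      have h1 := hBi _ hs1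
      have h2 := hloc s h1 hsi
      have h3 := Subring.mul_mem _ (hBi _ hs2) h2
      rwa [mul_assoc, mul_inv_cancel₀ hs0, mul_one] at h3
    rw [heq]
    exact hB
  obtain ⟨i, hi⟩ := T.exists_regular (fun i => (C.O (n₀ + i)).toSubring) (hN n₀ le_rfl) (fun i => hdim _)
    (fun i => hQT (n₀ + i) (Nat.le_add_right _ _))
  exact hreg _ hi

end Groth.Agent.Resolve.K375.LipTower
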