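import Groth.Agent.Resolve.K375.CplFin
import Groth.Agent.Resolve.K375.LipTower
import Groth.Agent.CalgB.PowSer
import Groth.Agent.Sga7.H150.Global

/-!
# Normalized quadratic transforms and resolution over complete local rings
-/

set_option autoImplicit false
universe u

open CategoryTheory CategoryTheory.Limits AlgebraicGeometry IsLocalRing

namespace Groth.Agent.Resolve.K375.NQuad

open Tower GChain Geo CurvesC.Modif NormSt DomMain CplFin
open Groth.Agent.Sga7.H150.Quad Groth.Agent.Sga7.H150.AccAux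
open Groth.Agent.Lipman.Defs Groth.Agent.Lipman.EssFT

/-- Normalized quadratic transforms: localizations of integral extensions of quadratic transforms. -/
def NQ {A A' : Type u} [CommRing A] [IsLocalRing A] [CommRing A'] [IsLocalRing A'] (φ : A →+* A') : Prop :=
  ∃ (B : Type u) (_ : CommRing B) (_ : IsLocalRing B) (α : A →+* B) (β : B →+* A'), IsQuad α ∧
    Function.Injective β ∧ IsLocalHom β ∧
    (∀ a : A', ∃ c s, IsUnit s ∧ β.IsIntegralElem c ∧ β.IsIntegralElem s ∧ a * s = c) ∧ φ = β.comp α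

lemma NQ.comp_equiv {A A' B : Type u} [CommRing A] [IsLocalRing A] [CommRing A'] [IsLocalRing A'] [CommRing B]
    [IsLocalRing B] {φ : A →+* B} (h : NQ φ) (e : A' ≃+* A) : NQ (φ.comp (e : A' →+* A)) := by
  obtain ⟨C, i1, i2, α, β, hα, h1, h2, h3, rfl⟩ := h
  exact ⟨C, i1, i2, α.comp (e : A' →+* A), β, Groth.Agent.Sga7.H150.Global.IsQuad.comp_equiv hα e, h1, h2, h3, RingHom.comp_assoc _ _ _⟩

/-- Stalks of integral morphisms. -/
theorem exists_integral_frac {Y X : Scheme.{u}} (f : Y ⟶ X) [IsIntegralHom f] (y : Y) (a : Y.presheaf.stalk y) :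
    ∃ c s : Y.presheaf.stalk y, IsUnit s ∧ (f.stalkMap y).hom.IsIntegralElem c ∧
      (f.stalkMap y).hom.IsIntegralElem s ∧ a * s = c := by
  obtain ⟨U, hU, hyU, -⟩ := exists_isAffineOpen_mem_and_subset (X := X) (x := f y) (U := ⊤) trivial
  have hV : IsAffineOpen (f ⁻¹ᵁ U) := hU.preimage f
  have hyV : y ∈ f ⁻¹ᵁ U := hyU
  have hint : (f.app U).hom.IsIntegral := IsIntegralHom.isIntegral_app f U hU
  have hg : ∀ c : Γ(Y, f ⁻¹ᵁ U), (f.stalkMap y).hom.IsIntegralElem (Y.presheaf.germ (f ⁻¹ᵁ U) y hyV c) := by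
    intro c
    obtain ⟨p, hp, hpc⟩ := hint c
    refine ⟨p.map (X.presheaf.germ U (f y) hyU).hom, hp.map _, ?_⟩
    rw [Polynomial.eval₂_map, ← CommRingCat.hom_comp, Scheme.Hom.germ_stalkMap, CommRingCat.hom_comp]
    change Polynomial.eval₂ ((Y.presheaf.germ (f ⁻¹ᵁ U) y hyV).hom.comp (f.app U).hom)
      ((Y.presheaf.germ (f ⁻¹ᵁ U) y hyV).hom c) p = 0
    rw [← Polynomial.hom_eval₂, hpc, map_zero]
  let _ := TopCat.Presheaf.algebra_section_stalk Y.presheaf (⟨y, hyV⟩ : (f ⁻¹ᵁ U : Y.Opens))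
  have hloc := hV.isLocalization_stalk ⟨y, hyV⟩
  obtain ⟨⟨c, s⟩, hs⟩ := IsLocalization.surj (hV.primeIdealOf ⟨y, hyV⟩).asIdeal.primeCompl a
  exact ⟨_, _, IsLocalization.map_units (Y.presheaf.stalk y) s, hg c, hg s.1, hs⟩

theorem NSt.nq {S Z : Scheme.{u}} {r : Z ⟶ S} (h : ClN r) {Y : Scheme.{u}} {b : Y ⟶ Z} {y : Y}
    (hst : NSt Y Z b (b y)) (hne : haveI := h.modif.integral; b y ≠ genericPoint Z) : NQ (b.stalkMap y).hom := by
  have := h.modif.integral
  have := h.noeth
  obtain ⟨z, hz⟩ : ∃ z, z = b y := ⟨_, rfl⟩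
  rw [← hz] at hst
  cases hst with
  | @mk Z' _ _ _ _ c z hc =>
    subst hz
    have hcm := hc.isModif hne
    obtain ⟨hν, hfin⟩ := isModif_normalizationι h hcm
    have := hν.integral
    have hc' : PtSt Z' Z c (c (Curv2.normalizationι Z' y)) := by
      rw [← Scheme.Hom.comp_apply]; exact hc
    have hbir := isBir_of_isModif hν
    obtain ⟨hzc, hbl⟩ := hc'
    have h1 := Groth.Agent.Sga7.H558.QuadBlow.isQuad_stalkMap hbl (Curv2.normalizationι Z' y) rfl
    refine ⟨Z'.presheaf.stalk (Curv2.normalizationι Z' y), inferInstance, inferInstance,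
      (c.stalkMap (Curv2.normalizationι Z' y)).hom, ((Curv2.normalizationι Z').stalkMap y).hom, h1,
      (bir_stalkMap _ hbir.gen hbir.bir y).1, inferInstance, fun a => exists_integral_frac _ y a, ?_⟩
    rw [Scheme.Hom.stalkMap_comp]
    rfl

end Groth.Agent.Resolve.K375.NQuad
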