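import Groth.Agent.Resolve.K375.HomGlue
import Groth.Agent.Resolve.K375.NagSch
import Groth.Agent.Ega2.Normal
import Groth.Prelude.Def_ResolveSeq

/-!
# Normalized blow-ups of closed points
-/

set_option autoImplicit false
universe u

open CategoryTheory CategoryTheory.Limits AlgebraicGeometry IsLocalRing

namespace Groth.Agent.Resolve.K375.NormSt

open Tower GChain Geo CurvesC.Modif _root_.K375.NagSch

/-- Normalized blow-up of the closed point `z`. -/
inductive NSt : ∀ (Y Z : Scheme.{u}), (Y ⟶ Z) → Z → Prop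
  | mk {Z' Z : Scheme.{u}} [IsIntegral Z'] [QuasiCompact (Z'.fromSpecStalk (genericPoint Z'))]
      [QuasiSeparated (Z'.fromSpecStalk (genericPoint Z'))] (c : Z' ⟶ Z) (z : Z) (h : PtSt Z' Z c z) :
      NSt (Curv2.normalization Z') Z (Curv2.normalizationι Z' ≫ c) z

theorem of_seq {Y X : Scheme.{u}} {g : Y ⟶ X} (hg : Seq NSt g) : Resolve.IsNormPtBlowupSeq g := by
  induction hg with
  | id X => exact Resolve.IsNormPtBlowupSeq.iso (Iso.refl X)
  | step b z r hb hr ih =>
    cases hb with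
    | mk c z h =>
      obtain ⟨hz, hb⟩ := h
      rw [Category.assoc]
      exact Resolve.IsNormPtBlowupSeq.step c r z hz hb ih

theorem off_of_local {Y Z : Scheme.{u}} (b : Y ⟶ Z) (T : Set Z)
    (h : ∀ x, x ∉ T → ∃ U : Z.Opens, x ∈ U ∧ IsIso (b ∣_ U)) : Off T b where
  bij := by
    intro x hx
    obtain ⟨U, hxU, hU⟩ := h x hx
    exact (off_of_isIso b (U : Set Z)ᶜ U hU (fun w hw => by simpa using hw)).bij x (fun hc => hc hxU)
  iso := by
    intro y hy
    obtain ⟨U, hxU, hU⟩ := h (b y) hy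
    exact Dix.BirIso.isIso_stalkMap b U hU y hxU

/-- The normalization of `Z'` is an isomorphism over the open part where `c : Z' ⟶ Z` is an isomorphism to a normal
scheme. -/
theorem isIso_comp {Z' Z : Scheme.{u}} [IsIntegral Z'] [QuasiCompact (Z'.fromSpecStalk (genericPoint Z'))]
    [QuasiSeparated (Z'.fromSpecStalk (genericPoint Z'))] [IsIntegral Z] (hZ : Pi1.IsNormalScheme Z)
    (c : Z' ⟶ Z) (W : Z.Opens) (hW : IsIso (c ∣_ W)) (x : Z) (hx : x ∈ W) :
    ∃ U : Z.Opens, x ∈ U ∧ U ≤ W ∧ IsIso (Curv2.normalizationι Z' ∣_ (c ⁻¹ᵁ U)) ∧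
      IsIso ((Curv2.normalizationι Z' ≫ c) ∣_ U) := by
  obtain ⟨U, hU, hxU, hUW⟩ := exists_isAffineOpen_mem_and_subset (X := Z) (x := x) (U := W) hx
  have h1 : IsIso (c ∣_ U) := CurvesC.ModDim.isIso_morphismRestrict_of_le c hUW
  have h2 : IsIso (c.app U) := by
    have := CurvesC.ModDim.isIso_app_of_isIso_morphismRestrict c U
    exact this
  have hUaff : IsAffine U.toScheme := hU
  have h3 : IsAffineOpen (c ⁻¹ᵁ U) := IsAffine.of_isIso (c ∣_ U)
  have hne : Nonempty U := ⟨⟨x, hxU⟩⟩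
  have hne' : ((c ⁻¹ᵁ U : Z'.Opens) : Set Z').Nonempty := by
    obtain ⟨w, hw⟩ := (c ∣_ U).surjective ⟨x, hxU⟩
    exact ⟨w.1, w.2⟩
  have h4 : IsIntegrallyClosed Γ(Z, U) := Ega2.Normal.isIntegrallyClosed_of_isAffineOpen hZ hU hne
  have h5 : IsIntegrallyClosed Γ(Z', c ⁻¹ᵁ U) :=
    IsIntegrallyClosed.of_equiv (asIso (c.app U)).commRingCatIsoToRingEquiv
  have h6 := CurvesC.NormNagata.isIso_normalizationι_restrict Z' (c ⁻¹ᵁ U) h3
    (((genericPoint_spec Z').mem_open_set_iff (c ⁻¹ᵁ U).isOpen).mpr (by simpa using hne')) h5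
  refine ⟨U, hxU, hUW, h6, ?_⟩
  rw [morphismRestrict_comp]
  exact IsIso.comp_isIso' h6 h1

lemma pstep_comp {A B C : Type*} [CommRing A] [IsLocalRing A] [CommRing B] [IsLocalRing B] [CommRing C]
    [IsLocalRing C] [IsDomain C] {φ : A →+* B} (h : PStep φ) (ψ : B →+* C) (hψ : Bir ψ) (hloc : IsLocalHom ψ) :
    PStep (ψ.comp φ) := by
  obtain ⟨h1, h2, x, hx, hd⟩ := h
  refine ⟨h1.comp hψ, RingHom.isLocalHom_comp _ _, x, hx, fun y hy => ?_⟩
  exact map_dvd ψ (hd y hy)

/-- The class of schemes of the induction: normal Nagata modifications. -/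
structure ClN {S Z : Scheme.{u}} (r : Z ⟶ S) : Prop where
  modif : IsModif r
  noeth : IsNoetherian Z
  normal : Pi1.IsNormalScheme Z
  nag : IsNag Z
  dim : ∀ z : Z, ringKrullDim (Z.presheaf.stalk z) ≤ 2

theorem isNoetherian_of_isProper {Y Z : Scheme.{u}} [IsNoetherian Z] (b : Y ⟶ Z) [IsProper b] : IsNoetherian Y := by
  have hln : IsLocallyNoetherian Y := LocallyOfFiniteType.isLocallyNoetherian b
  have hcs : CompactSpace Y := QuasiCompact.compactSpace_of_compactSpace b
  exact {}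

variable {S Z : Scheme.{u}} {r : Z ⟶ S}

theorem NSt.isClosed {Y : Scheme.{u}} {b : Y ⟶ Z} {z : Z} (hst : NSt Y Z b z) : IsClosed ({z} : Set Z) := by
  cases hst with
  | mk c z h => exact h.choose

/-- The normalization of a modification of a normal Nagata scheme. -/
theorem isModif_normalizationι (h : ClN r) {Z' : Scheme.{u}} [IsIntegral Z']
    [QuasiCompact (Z'.fromSpecStalk (genericPoint Z'))] [QuasiSeparated (Z'.fromSpecStalk (genericPoint Z'))]
    {c : Z' ⟶ Z} (hc : IsModif c) : IsModif (Curv2.normalizationι Z') ∧ IsFinite (Curv2.normalizationι Z') := by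
  have := h.modif.integral
  have := hc.proper
  have hfin := isFinite_normalizationι Z' (isNag_of_locallyOfFiniteType c h.nag)
  obtain ⟨hint, -, -, -⟩ := Groth.Agent.S2351.result Z'
  refine ⟨⟨inferInstance, hint, ?_⟩, hfin⟩
  obtain ⟨W, ⟨x, hx⟩, hW⟩ := hc.exists_isIso
  obtain ⟨U, hxU, hUW, h1, -⟩ := isIso_comp h.normal c W hW x hx
  refine ⟨c ⁻¹ᵁ U, ?_, h1⟩
  obtain ⟨w, hw⟩ := hc.surjective.surj x
  exact ⟨w, by change c w ∈ U; rw [hw]; exact hxU⟩

theorem NSt.isModif (h : ClN r) {Y : Scheme.{u}} {b : Y ⟶ Z} {z : Z} (hst : NSt Y Z b z)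
    (hne : haveI := h.modif.integral; z ≠ genericPoint Z) : IsModif b := by
  have := h.modif.integral
  have := h.noeth
  cases hst with
  | mk c z hc =>
    have hcm := hc.isModif hne
    exact (isModif_normalizationι h hcm).1.comp hcm

theorem NSt.normal {Y : Scheme.{u}} {b : Y ⟶ Z} {z : Z} (hst : NSt Y Z b z) : Pi1.IsNormalScheme Y := by
  cases hst with
  | @mk Z' _ _ _ _ c z hc =>
    obtain ⟨-, hn, -, -⟩ := Groth.Agent.S2351.result Z'
    exact hn

theorem ClN.step (h : ClN r) {Y : Scheme.{u}} {b : Y ⟶ Z} {z : Z} (hst : NSt Y Z b z)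
    (hne : haveI := h.modif.integral; z ≠ genericPoint Z) : ClN (b ≫ r) := by
  have := h.modif.integral
  have := h.noeth
  have hm := hst.isModif h hne
  have := hm.proper
  refine ⟨hm.comp h.modif, isNoetherian_of_isProper b, hst.normal, isNag_of_locallyOfFiniteType b h.nag, fun y => ?_⟩
  exact (HomGlue.ringKrullDim_le_of_isModif b hm y).trans (h.dim _)

theorem NSt.off (h : ClN r) {Y : Scheme.{u}} {b : Y ⟶ Z} {z : Z} (hst : NSt Y Z b z) : Off {z} b := by
  have := h.modif.integral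
  cases hst with
  | mk c z hc =>
    obtain ⟨hz, hc⟩ := hc
    refine off_of_local _ _ fun x hx => ?_
    obtain ⟨U, hxU, -, -, h2⟩ := isIso_comp h.normal c _ (isIso_compl hz hc) x hx
    exact ⟨U, hxU, h2⟩

theorem exists_nst (h : ClN r) (z : Z) (hz : IsClosed ({z} : Set Z))
    (hne : haveI := h.modif.integral; z ≠ genericPoint Z) : ∃ (Y : Scheme.{u}) (b : Y ⟶ Z), NSt Y Z b z := by
  have := h.modif.integral
  have := h.noeth
  obtain ⟨Z', c, hc⟩ := exists_ptSt z hz
  have hcm := hc.isModif hne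
  have := hcm.integral
  have := hcm.proper
  have := isNoetherian_of_isProper c
  exact ⟨_, _, NSt.mk c z hc⟩

theorem NSt.pstep (h : ClN r) {Y : Scheme.{u}} {b : Y ⟶ Z} {y : Y} (hst : NSt Y Z b (b y))
    (hne : haveI := h.modif.integral; b y ≠ genericPoint Z) : PStep (b.stalkMap y).hom := by
  have := h.modif.integral
  have := h.noeth
  obtain ⟨z, hz⟩ : ∃ z, z = b y := ⟨_, rfl⟩
  rw [← hz] at hst
  cases hst with
  | @mk Z' _ _ _ _ c z hc =>
    subst hz
    have hcm := hc.isModif hne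
    obtain ⟨hν, -⟩ := isModif_normalizationι h hcm
    have := hν.integral
    have hc' : PtSt Z' Z c (c (Curv2.normalizationι Z' y)) := by
      rw [← Scheme.Hom.comp_apply]; exact hc
    have h1 := hc'.pstep (by rw [← Scheme.Hom.comp_apply]; exact hne)
    have hbir := isBir_of_isModif hν
    rw [Scheme.Hom.stalkMap_comp]
    have hloc : IsLocalHom ((Curv2.normalizationι Z').stalkMap y).hom := inferInstance
    exact pstep_comp h1 _ (bir_stalkMap _ hbir.gen hbir.bir y) hloc

end Groth.Agent.Resolve.K375.NormSt
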