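import Groth.Agent.Lipman.ResFinal
import Groth.Agent.S1597
import Groth.Agent.S0547
import Groth.Agent.S0543
import Groth.Agent.Ega4A.CplFlat
import Groth.Agent.Divis.BlowUpFormal
import Groth.Agent.Models.RMBlow

/-!
# Resolution of two-dimensional Noetherian local domains with normal completion
-/

set_option autoImplicit false
universe u
open CategoryTheory CategoryTheory.Limits AlgebraicGeometry IsLocalRing

namespace K375.ResCpl

/-- If the completion of a two-dimensional Noetherian local domain `A` is a normal domain, then the blow-up of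
`Spec A` in some primary ideal is a resolution of singularities. -/
theorem exists_ideal (A : Type u) [CommRing A] [IsDomain A] [IsLocalRing A] [IsNoetherianRing A]
    (hdim : ringKrullDim A = 2) [IsDomain (Curv2.cpl A)] [IsIntegrallyClosed (Curv2.cpl A)] :
    ∃ I : Ideal A, I ≠ ⊥ ∧ (∃ N : ℕ, maximalIdeal A ^ N ≤ I) ∧
      ∀ (X : Scheme.{u}) (b : X ⟶ Spec (CommRingCat.of A)), BlowUp.IsBlowUp b (Curv2.idealSheaf A I) →
      IsProper b ∧ IsIntegral X ∧ (∀ x : X, IsRegularLocalRing (X.presheaf.stalk x)) ∧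
      ∃ U : (Spec (CommRingCat.of A)).Opens, (U : Set (Spec (CommRingCat.of A))).Nonempty ∧ IsIso (b ∣_ U) := by
  have hNoeth : IsNoetherianRing (Curv2.cpl A) := Groth.Agent.S0543.result A _
  have hd : ringKrullDim (Curv2.cpl A) = 2 := by rw [Groth.Agent.S0547.result, hdim]
  obtain ⟨J, hJ0, hJfg, ⟨N, hN⟩, hJ⟩ := (Groth.Agent.Lipman.ResFinal.RES (Curv2.cpl A) hd).exists_isBlowUp
  let I : Ideal A := J.comap (algebraMap A (Curv2.cpl A))
  have hNI : maximalIdeal A ^ N ≤ I := by
    intro a ha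
    refine hN ?_
    rw [AdicCompletion.maximalIdeal_eq_map, ← Ideal.map_pow]
    exact Ideal.mem_map_of_mem _ ha
  have hmap : I.map (algebraMap A (Curv2.cpl A)) = J := by
    refine le_antisymm Ideal.map_comap_le ?_
    intro x hx
    obtain ⟨a, ha⟩ := Groth.Agent.Ega4A.CplFlat.surjective_algebraMap_quotient A N (Ideal.Quotient.mk _ x)
    have h1 : x - algebraMap A (Curv2.cpl A) a ∈ ((maximalIdeal A) ^ N).map (algebraMap A (Curv2.cpl A)) := by
      rw [← Ideal.Quotient.eq]
      exact ha.symm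
    have h2 : ((maximalIdeal A) ^ N).map (algebraMap A (Curv2.cpl A)) ≤ I.map (algebraMap A (Curv2.cpl A)) :=
      Ideal.map_mono hNI
    have h3 : a ∈ I := by
      change algebraMap A (Curv2.cpl A) a ∈ J
      have h4 := sub_mem hx (h2.trans Ideal.map_comap_le h1)
      simpa using h4
    have h5 := add_mem (h2 h1) (Ideal.mem_map_of_mem (algebraMap A (Curv2.cpl A)) h3)
    simpa using h5
  have hI0 : I ≠ ⊥ := by
    intro h
    apply hJ0
    rw [← hmap, h, Ideal.map_bot]
  refine ⟨I, hI0, ⟨N, hNI⟩, fun X b hb => ?_⟩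
  have hm := Groth.Agent.CurvesC.Modif.IsModif.of_isBlowUp (Groth.Agent.Lipman.SchemeRes.idealSheaf_ne_bot hI0)
    (Groth.Agent.Lipman.SchemeRes.isFiniteType_idealSheaf I.fg_of_isNoetherianRing) hb
  have := hm.proper
  refine ⟨hm.proper, hm.integral, ?_, hm.exists_isIso⟩
  have hflat : Flat (Spec.map (CommRingCat.ofHom (algebraMap A (Curv2.cpl A)))) := by
    rw [Flat.SpecMap_iff]
    exact RingHom.flat_algebraMap_iff.mpr inferInstance
  have hb' : BlowUp.IsBlowUp (Curv2.bcCplSnd A b) (Curv2.idealSheaf (Curv2.cpl A) J) := by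
    have h1 := Groth.Agent.Divis.BlowUpFormal.isBlowUp_of_isPullback hb
      (IsPullback.of_hasPullback b (Spec.map (CommRingCat.ofHom (algebraMap A (Curv2.cpl A)))))
    rwa [Groth.Agent.Models.RMBlow.comap_SpecMap, hmap] at h1
  exact (Groth.Agent.S1597.result A X b).mpr (hJ _ _ hb').2.2.1

/-- Resolution of singularities for two-dimensional Noetherian local domains with normal completion. -/
theorem exists_resolution (A : Type u) [CommRing A] [IsDomain A] [IsLocalRing A] [IsNoetherianRing A]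
    (hdim : ringKrullDim A = 2) [IsDomain (Curv2.cpl A)] [IsIntegrallyClosed (Curv2.cpl A)] :
    ∃ (X : Scheme.{u}) (f : X ⟶ Spec (CommRingCat.of A)), IsProper f ∧ IsIntegral X ∧
      (∃ U : (Spec (CommRingCat.of A)).Opens, (U : Set (Spec (CommRingCat.of A))).Nonempty ∧ IsIso (f ∣_ U)) ∧
      ∀ x : X, IsRegularLocalRing (X.presheaf.stalk x) := by
  obtain ⟨I, -, -, hI⟩ := exists_ideal A hdim
  obtain ⟨X, b, hb⟩ := Groth.Agent.Flat2C.BlowExist.exists_isBlowUp (𝓘 := Curv2.idealSheaf A I)
  obtain ⟨h1, h2, h3, h4⟩ := hI X b hb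
  exact ⟨X, b, h1, h2, h4, h3⟩

end K375.ResCpl
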