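import Groth.Agent.Resolve.K375.StrictSeq
import Groth.Agent.Divis.ColonIdeal

/-!
# Separating regular curves by point blow-ups
-/

set_option autoImplicit false
universe u

open CategoryTheory CategoryTheory.Limits AlgebraicGeometry IsLocalRing

namespace Groth.Agent.Resolve.K375.StrictSep

open Groth.Agent.Dix.PointIdeal Groth.Agent.Divis.CartierBasic Groth.Agent.Divis.CartierStalk
open Tower Geo CurveSeq CurvesC.Modif Strict StrictSeq

theorem ker_comap_le {Y Z Z' : Scheme.{u}} {b : Z' ⟶ Z} {i : Y ⟶ Z} {i' : Y ⟶ Z'} (hw : i' ≫ b = i) :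
    i.ker.comap b ≤ i'.ker := by
  rw [← Scheme.IdealSheafData.le_map_iff_comap_le, Scheme.IdealSheafData.map_ker, hw]

theorem mem_support_ker {Y Z : Scheme.{u}} {i : Y ⟶ Z} [IsClosedImmersion i] (x : Z) :
    x ∈ i.ker.support ↔ x ∈ Set.range i := by
  change x ∈ (i.ker.support : Set Z) ↔ _
  rw [Scheme.Hom.support_ker, i.isClosedEmbedding.isClosed_range.closure_eq]

/-- The total transform of `Y` contains its strict transform plus the exceptional divisor. -/
theorem ker_comap_le_mul {Y Z Z' : Scheme.{u}} {b : Z' ⟶ Z} {I : Z.IdealSheafData}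
    (hE : BlowUp.IsEffCartierIdeal (I.comap b)) {i : Y ⟶ Z} {i' : Y ⟶ Z'} [IsClosedImmersion i'] (hw : i' ≫ b = i)
    (hI : BlowUp.IsEffCartierIdeal (I.comap i)) (hle : i.ker ≤ I) : i.ker.comap b ≤ i'.ker * I.comap b := by
  apply le_of_stalkIdeal
  intro x
  obtain ⟨t, ht, htE⟩ := exists_stalkIdeal_eq_span hE x
  rw [stalkIdeal_mul, htE]
  intro f hf
  have h1 : f ∈ stalkIdeal (I.comap b) x :=
    stalkIdeal_mono (Scheme.IdealSheafData.comap_mono (f := b) hle) x hf
  rw [htE, Ideal.mem_span_singleton] at h1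
  obtain ⟨g, rfl⟩ := h1
  rw [mul_comm t g]
  refine Ideal.mul_mem_mul ?_ (Ideal.mem_span_singleton_self t)
  have h2 : t * g ∈ stalkIdeal i'.ker x := stalkIdeal_mono (ker_comap_le hw) x hf
  by_cases hx : x ∈ i'.ker.support
  · obtain ⟨y, rfl⟩ := (mem_support_ker x).1 hx
    rw [← ker_stalkMap, RingHom.mem_ker, map_mul] at h2
    rw [← ker_stalkMap, RingHom.mem_ker]
    obtain ⟨t', ht', htI⟩ := exists_stalkIdeal_eq_span hI y
    have h3 : stalkIdeal (I.comap i) y = Ideal.span {(i'.stalkMap y).hom t} := by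
      subst hw
      rw [Scheme.IdealSheafData.comap_comp, stalkIdeal_comap, htE, Ideal.map_span, Set.image_singleton]
    have h4 : t' ∈ Ideal.span {(i'.stalkMap y).hom t} := by
      rw [← h3, htI]
      exact Ideal.mem_span_singleton_self t'
    obtain ⟨s, hs⟩ := Ideal.mem_span_singleton.1 h4
    rw [hs] at ht'
    have h5 := (mul_mem_nonZeroDivisors.1 ht').1
    exact (mem_nonZeroDivisors_iff.1 h5).1 _ h2
  · rw [(notMem_support_iff_stalkIdeal_eq_top _ _).1 hx]
    trivial

theorem range_subset_of_comap_eq_bot {Y Y₂ Z : Scheme.{u}} {i : Y ⟶ Z} [IsClosedImmersion i] {j : Y₂ ⟶ Z}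
    (h : i.ker.comap j = ⊥) : Set.range j ⊆ Set.range i := by
  rintro _ ⟨y, rfl⟩
  have h1 : y ∈ (i.ker.comap j).support := by
    rw [h, Scheme.IdealSheafData.support_bot]; trivial
  rw [Scheme.IdealSheafData.support_comap] at h1
  exact (mem_support_ker _).1 h1

theorem mem_support_comap {Y Y₂ Z : Scheme.{u}} {i : Y ⟶ Z} [IsClosedImmersion i] {j : Y₂ ⟶ Z} (y : Y₂) :
    y ∈ (i.ker.comap j).support ↔ j y ∈ Set.range i := by
  rw [Scheme.IdealSheafData.support_comap]
  exact mem_support_ker _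

theorem isClosed_of_mem_support {W : Scheme.{u}} [IsIntegral W] (hdim : ∀ x : W, ringKrullDim (W.presheaf.stalk x) ≤ 1)
    {I : W.IdealSheafData} (hI : I ≠ ⊥) {x : W} (hx : x ∈ I.support) : IsClosed ({x} : Set W) := by
  have hne : x ≠ genericPoint W := by
    rintro rfl
    apply hI
    rw [← Scheme.IdealSheafData.support_eq_top_iff]
    ext y
    simp only [TopologicalSpace.Closeds.coe_top, Set.mem_univ, iff_true]
    exact (genericPoint_specializes y).mem_closed I.support.isClosed hx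
  exact isClosed_of_dim 1 hdim x (by exact_mod_cast one_le_ringKrullDim hne)

/-- **Separating regular curves.** -/
theorem separate {ι : Type} [Finite ι] (Y : ι → Scheme.{u}) (hreg : ∀ k, ∀ y, IsRegularLocalRing ((Y k).presheaf.stalk y))
    (hN : ∀ k, IsNoetherian (Y k)) (D : ∀ _ : ι, ∀ l : ι, ((Y l).IdealSheafData)ᵒᵈ) :
    ∀ {Z : Scheme.{u}} [IsNoetherian Z] (i : ∀ k, Y k ⟶ Z) (_ : ∀ k, Cur (i k))
      (_ : D = fun k l => OrderDual.toDual ((i k).ker.comap (i l)))
      (_ : ∀ k l, k ≠ l → (i k).ker.comap (i l) ≠ ⊥),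
      ∃ (Z' : Scheme.{u}) (g : Z' ⟶ Z) (i' : ∀ k, Y k ⟶ Z'), Seq PtSt g ∧ (∀ k, IsClosedImmersion (i' k)) ∧
        (∀ k, i' k ≫ g = i k) ∧ ∀ k l, k ≠ l → Disjoint (Set.range (i' k)) (Set.range (i' l)) := by
  have hwf : ∀ l, WellFoundedLT ((Y l).IdealSheafData)ᵒᵈ := fun l => by
    have := Groth.Agent.Divis.ColonIdeal.wellFoundedGT (X := Y l)
    infer_instance
  induction D using WellFoundedLT.induction with
  | ind D ih =>
    intro Z _ i h hD hne
    by_cases hdisj : ∀ k l, k ≠ l → Disjoint (Set.range (i k)) (Set.range (i l))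
    · exact ⟨Z, 𝟙 Z, i, Seq.id Z, fun k => (h k).closed, fun k => by simp, hdisj⟩
    push Not at hdisj
    obtain ⟨k, l, hkl, hd⟩ := hdisj
    obtain ⟨z, hzk, y, rfl⟩ := Set.not_disjoint_iff.1 hd
    have hcl := fun k => (h k).closed
    have hint := fun k => (h k).integral
    have hy : y ∈ ((i k).ker.comap (i l)).support := (mem_support_comap y).2 hzk
    have hyc : IsClosed ({y} : Set (Y l)) := isClosed_of_mem_support (h l).dim (hne k l hkl) hy
    have hz : IsClosed ({i l y} : Set Z) := by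
      have := (i l).isClosedEmbedding.isClosedMap _ hyc
      rwa [Set.image_singleton] at this
    obtain ⟨Z1, b, hz0, hb⟩ := exists_ptSt (i l y) hz
    obtain ⟨-, hZ1⟩ := PtSt.isNoetherian (b := b) (z := i l y) ⟨hz, hb⟩
    have hstep := fun m => (h m).step hz hb
    have hstep' : ∀ m, ∃ i1 : Y m ⟶ Z1, Cur i1 ∧ i1 ≫ b = i m := by
      intro m
      obtain ⟨Y', c, i', hi', hw, hc, -, hiso⟩ := hstep m
      have := hiso (hreg m)
      have := hi'.closed
      refine ⟨inv c ≫ i', ⟨inferInstance, (h m).integral, (h m).nontrivial, (h m).dim, (h m).res⟩, ?_⟩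
      rw [Category.assoc, hw, IsIso.inv_hom_id_assoc]
    choose i1 hi1 hw1 using hstep'
    have hcl1 := fun k => (hi1 k).closed
    have hle : ∀ m m', (i m).ker.comap (i m') ≤ (i1 m).ker.comap (i1 m') := by
      intro m m'
      have h2 : ((i m).ker.comap b).comap (i1 m') ≤ (i1 m).ker.comap (i1 m') :=
        Scheme.IdealSheafData.comap_mono (f := i1 m') (ker_comap_le (hw1 m))
      rwa [← Scheme.IdealSheafData.comap_comp, hw1 m'] at h2
    have hIk : BlowUp.IsEffCartierIdeal ((pt (i l y) hz).comap (i k)) :=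
      isEff_of_regular (comap_pt_ne_bot (h k) hz) (fun x _ => (h k).dim x) (fun x _ => hreg k x)
    have hkle : (i k).ker ≤ pt (i l y) hz := by
      rw [← Scheme.IdealSheafData.le_support_iff_le_vanishingIdeal]
      intro w hw
      have hw' : w = i l y := hw
      subst hw'
      exact (mem_support_ker _).2 hzk
    have hmul : (i k).ker.comap (i l) ≤ (i1 k).ker.comap (i1 l) * pt y hyc := by
      have h2 : ((i k).ker.comap b).comap (i1 l) ≤ ((i1 k).ker * (pt (i l y) hz).comap b).comap (i1 l) :=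
        Scheme.IdealSheafData.comap_mono (f := i1 l) (ker_comap_le_mul hb.1 (hw1 k) hIk hkle)
      rw [← Scheme.IdealSheafData.comap_comp, hw1 l, Groth.Agent.Divis.IdealComap.comap_mul,
        ← Scheme.IdealSheafData.comap_comp, hw1 l, comap_pt (i l) y hyc hz] at h2
      exact h2
    have hlt : (i k).ker.comap (i l) ≠ (i1 k).ker.comap (i1 l) := by
      intro heq
      rw [← heq] at hmul
      have h3 := stalkIdeal_mono hmul y
      rw [stalkIdeal_mul, stalkIdeal_pt] at h3
      refine stalkIdeal_ne_bot (hne k l hkl) y ?_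
      refine Submodule.eq_bot_of_le_smul_of_le_jacobson_bot (maximalIdeal ((Y l).presheaf.stalk y)) _
        (IsNoetherian.noetherian _) ?_ (IsLocalRing.maximalIdeal_le_jacobson _)
      rw [smul_eq_mul, mul_comm]
      exact h3
    have hltD : (fun k l => OrderDual.toDual ((i1 k).ker.comap (i1 l)) : ∀ _ : ι, ∀ l : ι, ((Y l).IdealSheafData)ᵒᵈ) < D := by
      rw [hD]
      refine lt_of_le_of_ne (fun m m' => OrderDual.toDual_le_toDual.2 (hle m m')) fun heq => hlt ?_
      have := congrFun (congrFun heq k) l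
      exact (OrderDual.toDual_inj.1 this).symm
    obtain ⟨Z2, g, i2, hg, hc2, hw2, hdis⟩ := ih _ hltD i1 hi1 rfl (by
      intro m m' hmm h0
      exact hne m m' hmm (le_bot_iff.1 (h0 ▸ hle m m')))
    refine ⟨Z2, g ≫ b, i2, hg.comp (Seq.single (z := i l y) ⟨hz, hb⟩), hc2, fun m => ?_, hdis⟩
    rw [reassoc_of% hw2 m, hw1 m]

end Groth.Agent.Resolve.K375.StrictSep
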