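import Groth.Agent.Resolve.K375.Strict

/-!
# Regular strict transforms of curves after a sequence of blow-ups
-/

set_option autoImplicit false
universe u

open CategoryTheory CategoryTheory.Limits AlgebraicGeometry IsLocalRing

namespace Groth.Agent.Resolve.K375.StrictSeq

open Groth.Agent.Dix.PointIdeal Groth.Agent.Divis.CartierBasic Groth.Agent.Divis.CartierStalk
open Tower Geo CurveSeq CurvesC.Modif Strict

theorem PtSt.isNoetherian {Z Z' : Scheme.{u}} [IsNoetherian Z] {b : Z' ⟶ Z} {z : Z} (h : PtSt Z' Z b z) :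
    IsProper b ∧ IsNoetherian Z' := by
  obtain ⟨hz, hb⟩ := h
  have : IsProper b := Flat2C.BlowProper.isProper_of_isBlowUp hb (Models.RMBlow.isFiniteTypeIdeal _)
  have hln : IsLocallyNoetherian Z' := LocallyOfFiniteType.isLocallyNoetherian b
  have hcs : CompactSpace Z' := QuasiCompact.compactSpace_of_compactSpace b
  exact ⟨this, {}⟩

theorem isModif_id (Y : Scheme.{u}) [IsIntegral Y] : IsModif (𝟙 Y) :=
  ⟨inferInstance, inferInstance, ⊤, ⟨genericPoint Y, trivial⟩, inferInstance⟩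

theorem isModif_of_isIso {Y' Y : Scheme.{u}} [IsIntegral Y] (c : Y' ⟶ Y) [IsIso c] : IsModif c := by
  have : IsIntegral Y' := IsIntegral.of_isIso (inv c)
  refine ⟨inferInstance, this, ⊤, ⟨genericPoint Y, trivial⟩, inferInstance⟩

theorem isRegularLocalRing_of_isIso {Y' Y : Scheme.{u}} (c : Y' ⟶ Y) [IsIso c]
    (h : ∀ y, IsRegularLocalRing (Y.presheaf.stalk y)) (y : Y') : IsRegularLocalRing (Y'.presheaf.stalk y) := by
  have := h (c y)
  exact IsRegularLocalRing.of_ringEquiv (asIso (c.stalkMap y)).commRingCatIsoToRingEquiv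

/-- Lifting a sequence of point blow-ups of a closed subscheme to the ambient scheme, together with the strict
transforms of a family of curves. -/
theorem lift_seq {W' W : Scheme.{u}} {b : W' ⟶ W} (hb : Seq PtSt b) {ι : Type*} :
    ∀ {Z : Scheme.{u}} [IsNoetherian Z] (j : W ⟶ Z) [IsClosedImmersion j] (Y : ι → Scheme.{u}) (i : ∀ k, Y k ⟶ Z)
      (_ : ∀ k, Cur (i k)),
      ∃ (Z' : Scheme.{u}) (g : Z' ⟶ Z) (j' : W' ⟶ Z'), IsNoetherian Z' ∧ Seq PtSt g ∧ IsClosedImmersion j' ∧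
        j' ≫ g = b ≫ j ∧ ∀ k, ∃ (Y' : Scheme.{u}) (c : Y' ⟶ Y k) (i' : Y' ⟶ Z'), Cur i' ∧ i' ≫ g = c ≫ i k ∧
          IsModif c ∧ ((∀ y, IsRegularLocalRing ((Y k).presheaf.stalk y)) → IsIso c) := by
  induction hb with
  | id W =>
    intro Z _ j _ Y i h
    refine ⟨Z, 𝟙 Z, j, inferInstance, Seq.id Z, inferInstance, by simp, fun k => ⟨Y k, 𝟙 _, i k, h k, by simp, ?_, ?_⟩⟩
    · have := (h k).integral
      exact isModif_id _
    · intro _
      infer_instance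
  | step b z r hb hr ih =>
    intro Z _ j _ Y i h
    obtain ⟨Z1, g1, j1, hZ1, hg1, hj1, hw1, hY1⟩ := ih j Y i h
    choose Y1 c1 i1 hi1 hiw1 hc1 hiso1 using hY1
    obtain ⟨hz, hbz⟩ := hb
    have hz' : IsClosed ({j1 z} : Set Z1) := by
      have := j1.isClosedEmbedding.isClosedMap _ hz
      rwa [Set.image_singleton] at this
    obtain ⟨Z2, g2, hz2, hg2⟩ := exists_ptSt (j1 z) hz'
    obtain ⟨-, hZ2⟩ := PtSt.isNoetherian (b := g2) (z := j1 z) ⟨hz', hg2⟩
    obtain ⟨W2, cW, jW, hcW, hjW, hwW⟩ := exists_strict j1 hg2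
    have hcW' : BlowUp.IsBlowUp cW (pt z hz) := by rwa [comap_pt j1 z hz hz'] at hcW
    obtain ⟨e, he⟩ := Flat2C.StrictTr.exists_iso_of_isBlowUp hbz hcW'
    have step := fun k => (hi1 k).step hz' hg2
    refine ⟨Z2, g2 ≫ g1, e.hom ≫ jW, hZ2, Seq.step g2 (j1 z) g1 ⟨hz', hg2⟩ hg1, inferInstance, ?_, fun k => ?_⟩
    · rw [Category.assoc, reassoc_of% hwW, reassoc_of% he, hw1, Category.assoc]
    · obtain ⟨Y2, c2, i2, hi2, hiw2, hc2, -, hiso2⟩ := step k
      refine ⟨Y2, c2 ≫ c1 k, i2, hi2, ?_, hc2.comp (hc1 k), fun hreg => ?_⟩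
      · rw [reassoc_of% hiw2, hiw1 k, Category.assoc]
      · have h1 := hiso1 k hreg
        have h2 := hiso2 (isRegularLocalRing_of_isIso (c1 k) hreg)
        infer_instance

/-- **Making finitely many curves regular.** -/
theorem exists_regular {Z : Scheme.{u}} [IsNoetherian Z] {ι : Type*} [DecidableEq ι] (Y : ι → Scheme.{u})
    (i : ∀ k, Y k ⟶ Z) (h : ∀ k, Cur (i k)) (s : Finset ι) :
    ∃ (Z' : Scheme.{u}) (g : Z' ⟶ Z), IsNoetherian Z' ∧ Seq PtSt g ∧
      ∀ k, ∃ (Y' : Scheme.{u}) (c : Y' ⟶ Y k) (i' : Y' ⟶ Z'), Cur i' ∧ i' ≫ g = c ≫ i k ∧ IsModif c ∧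
        (k ∈ s → ∀ y, IsRegularLocalRing (Y'.presheaf.stalk y)) := by
  induction s using Finset.induction_on with
  | empty =>
    refine ⟨Z, 𝟙 Z, inferInstance, Seq.id Z, fun k => ⟨Y k, 𝟙 _, i k, h k, by simp, ?_, by simp⟩⟩
    have := (h k).integral
    exact isModif_id _
  | insert k0 s hk0 ih =>
    obtain ⟨Z1, g1, hZ1, hg1, hY1⟩ := ih
    choose Y1 c1 i1 hi1 hiw1 hc1 hreg1 using hY1
    have hk := hi1 k0
    have := hk.closed
    have := hk.integral
    have := hk.nontrivial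
    have := isNoetherian_of_closed (i1 k0)
    obtain ⟨R, w, hw, hwreg⟩ := hk.res
    obtain ⟨W', b, hb, hbm, hbreg⟩ := exists_seq hk.dim w hw hwreg
    obtain ⟨Z2, g2, j2, hZ2, hg2, hj2, hw2, hY2⟩ := lift_seq hb (i1 k0) Y1 i1 hi1
    refine ⟨Z2, g2 ≫ g1, hZ2, hg2.comp hg1, fun k => ?_⟩
    by_cases hkk : k = k0
    · subst hkk
      have := hbm.integral
      refine ⟨W', b ≫ c1 k, j2, ⟨hj2, hbm.integral, ?_, krullDimLE_of_isModif hk.dim b hbm, W', 𝟙 _, isModif_id _,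
        hbreg⟩, ?_, hbm.comp (hc1 k), fun _ => hbreg⟩
      · obtain ⟨y, y', hyy⟩ := exists_pair_ne (Y1 k)
        obtain ⟨v, rfl⟩ := hbm.surjective.surj y
        obtain ⟨v', rfl⟩ := hbm.surjective.surj y'
        exact ⟨v, v', fun hh => hyy (by rw [hh])⟩
      · rw [reassoc_of% hw2, hiw1, Category.assoc]
    · obtain ⟨Y2, c2, i2, hi2, hiw2, hc2, hiso2⟩ := hY2 k
      refine ⟨Y2, c2 ≫ c1 k, i2, hi2, ?_, hc2.comp (hc1 k), fun hks => ?_⟩
      · rw [reassoc_of% hiw2, hiw1 k, Category.assoc]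
      · have h1 := hreg1 k (Finset.mem_of_mem_insert_of_ne hks hkk)
        have h2 := hiso2 h1
        exact isRegularLocalRing_of_isIso c2 h1

end Groth.Agent.Resolve.K375.StrictSeq
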