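import Groth.Statements.S7357
import Mathlib.LinearAlgebra.CliffordAlgebra.Contraction
import Mathlib.LinearAlgebra.ExteriorAlgebra.Grading
import Mathlib.LinearAlgebra.ExteriorPower.Basic
import Mathlib.RingTheory.AdjoinRoot
import Mathlib.RingTheory.Kaehler.Basic
import Mathlib.Algebra.TrivSqZeroExt.Basic

/-!
# The trace on exterior powers of differentials for `R[x]/(x^p - a)`
-/

set_option autoImplicit false
universe u
open Polynomial TensorProduct

namespace K375.TracePth

section Derivation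

variable (p : ℕ) [Fact p.Prime] (Λ R : Type u) [CommRing Λ] [CommRing R] [Algebra Λ R] [CharP R p] (a : R)

/-- `S = R[x]/(x^p - a)`. -/
abbrev S : Type u := AdjoinRoot (X ^ p - C a : R[X])

/-- Derivations of `S`. -/
theorem exists_derivation (W : Type u) [AddCommGroup W] [Module R W] [Module (S p R a) W] [IsScalarTower R (S p R a) W]
    [Module Λ W] [IsScalarTower Λ R W] [IsScalarTower Λ (S p R a) W] (δ : Derivation Λ R W) (ha : δ a = 0) (w : W) :
    ∃ D : Derivation Λ (S p R a) W, (∀ r, D (algebraMap R (S p R a) r) = δ r) ∧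
      D (AdjoinRoot.root (X ^ p - C a)) = w := by
  let _ : Module (S p R a)ᵐᵒᵖ W := Module.compHom W ((RingHom.id (S p R a)).fromOpposite mul_comm)
  have _ : IsCentralScalar (S p R a) W := ⟨fun _ _ => rfl⟩
  have hof : ∀ (r : R) (v : W), (AdjoinRoot.of (X ^ p - C a)) r • v = r • v := fun r v =>
    algebraMap_smul (S p R a) r v
  let i : R →+* TrivSqZeroExt (S p R a) W :=
    { toFun := fun r => TrivSqZeroExt.inl (algebraMap R (S p R a) r) + TrivSqZeroExt.inr (δ r)
      map_one' := by ext <;> simp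
      map_zero' := by ext <;> simp
      map_add' := by intro x y; ext <;> simp
      map_mul' := by
        intro x y
        ext
        · simp
        · simp [Derivation.leibniz, hof] }
  have hp0 : (p : S p R a) = 0 := by
    have : (p : R) = 0 := CharP.cast_eq_zero R p
    rw [← map_natCast (algebraMap R (S p R a)), this, map_zero]
  let x : TrivSqZeroExt (S p R a) W := TrivSqZeroExt.inl (AdjoinRoot.root (X ^ p - C a)) + TrivSqZeroExt.inr w
  have hx : (X ^ p - C a : R[X]).eval₂ i x = 0 := by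
    rw [eval₂_sub, eval₂_X_pow, eval₂_C, sub_eq_zero]
    ext
    · have h1 : (X ^ p - C a : R[X]).eval₂ (AdjoinRoot.of _) (AdjoinRoot.root (X ^ p - C a)) = 0 :=
        AdjoinRoot.eval₂_root _
      rw [eval₂_sub, eval₂_X_pow, eval₂_C, sub_eq_zero] at h1
      simpa [x, i] using h1
    · rw [TrivSqZeroExt.snd_pow]
      have h2 : (p • (x.fst ^ p.pred • x.snd) : W) = 0 := by
        rw [← Nat.cast_smul_eq_nsmul (S p R a), hp0, zero_smul]
      rw [h2]
      simp [i, ha]
  let φ : S p R a →+* TrivSqZeroExt (S p R a) W := AdjoinRoot.lift i x hx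
  have hφ1 : ∀ r, φ (algebraMap R (S p R a) r) = i r := fun r => AdjoinRoot.lift_of hx
  have hφ2 : φ (AdjoinRoot.root _) = x := AdjoinRoot.lift_root hx
  have hfst : ∀ s, (φ s).fst = s := by
    have h3 : (TrivSqZeroExt.fstHom (S p R a) (S p R a) W).toRingHom.comp φ = RingHom.id _ := by
      apply AdjoinRoot.ringHom_ext
      · ext r
        change (φ (algebraMap R (S p R a) r)).fst = _
        rw [hφ1]
        simp [i]
      · change (φ (AdjoinRoot.root _)).fst = _
        rw [hφ2]
        simp [x]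
    intro s
    exact congr($h3 s)
  refine ⟨Derivation.mk'
    { toFun := fun s => (φ s).snd
      map_add' := by intro s t; simp
      map_smul' := by
        intro l s
        have h4 : l • s = algebraMap R (S p R a) (algebraMap Λ R l) * s := by
          rw [← Algebra.smul_def, algebraMap_smul]
        rw [h4, map_mul, hφ1, TrivSqZeroExt.snd_mul, hfst]
        simp [i, hof] } ?_, ?_, ?_⟩
  · intro s t
    change (φ (s * t)).snd = s • (φ t).snd + t • (φ s).snd
    rw [map_mul, TrivSqZeroExt.snd_mul, hfst, hfst]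
    rfl
  · intro r
    change (φ (algebraMap R (S p R a) r)).snd = δ r
    rw [hφ1]
    simp [i]
  · change (φ (AdjoinRoot.root _)).snd = w
    rw [hφ2]
    simp [x]

end Derivation

section Alg

variable {R S : Type u} [CommRing R] [CommRing S] [Algebra R S] {M : Type u} [AddCommGroup M] [Module R M]

/-- The inclusion of `S ⊗ M` into `S ⊗ E(M)`. -/
noncomputable def iota (R S M : Type u) [CommRing R] [CommRing S] [Algebra R S] [AddCommGroup M] [Module R M] :
    S ⊗[R] M →ₗ[S] S ⊗[R] ExteriorAlgebra R M :=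
  (ExteriorAlgebra.ι R).baseChange S

lemma iota_tmul (s : S) (m : M) : iota R S M (s ⊗ₜ m) = s ⊗ₜ ExteriorAlgebra.ι R m := rfl

lemma ι_mul_add (m m' : M) : ExteriorAlgebra.ι R m * ExteriorAlgebra.ι R m' +
    ExteriorAlgebra.ι R m' * ExteriorAlgebra.ι R m = 0 := by
  have h := ExteriorAlgebra.ι_sq_zero (R := R) (m + m')
  rw [map_add, mul_add, add_mul, add_mul, ExteriorAlgebra.ι_sq_zero, ExteriorAlgebra.ι_sq_zero, zero_add,
    add_zero] at h
  rw [add_comm]
  exact h

lemma iota_mul_add (z z' : S ⊗[R] M) : iota R S M z * iota R S M z' + iota R S M z' * iota R S M z = 0 := by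
  induction z using TensorProduct.induction_on with
  | zero => simp
  | add x y hx hy =>
    rw [map_add, add_mul, mul_add]
    have : iota R S M x * iota R S M z' + iota R S M y * iota R S M z' + (iota R S M z' * iota R S M x +
      iota R S M z' * iota R S M y) = (iota R S M x * iota R S M z' + iota R S M z' * iota R S M x) +
      (iota R S M y * iota R S M z' + iota R S M z' * iota R S M y) := by abel
    rw [this, hx, hy, add_zero]
  | tmul s m =>
    induction z' using TensorProduct.induction_on with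
    | zero => simp
    | add x y hx hy =>
      rw [map_add, add_mul, mul_add]
      have : iota R S M (s ⊗ₜ m) * iota R S M x + iota R S M (s ⊗ₜ m) * iota R S M y +
        (iota R S M x * iota R S M (s ⊗ₜ m) + iota R S M y * iota R S M (s ⊗ₜ m)) =
        (iota R S M (s ⊗ₜ m) * iota R S M x + iota R S M x * iota R S M (s ⊗ₜ m)) +
        (iota R S M (s ⊗ₜ m) * iota R S M y + iota R S M y * iota R S M (s ⊗ₜ m)) := by abel
      rw [this, hx, hy, add_zero]
    | tmul s' m' =>
      rw [iota_tmul, iota_tmul, Algebra.TensorProduct.tmul_mul_tmul, Algebra.TensorProduct.tmul_mul_tmul,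
        mul_comm s' s, ← TensorProduct.tmul_add, ι_mul_add, TensorProduct.tmul_zero]

lemma iota_sq (z : S ⊗[R] M) : iota R S M z * iota R S M z = 0 := by
  induction z using TensorProduct.induction_on with
  | zero => simp
  | tmul s m =>
    rw [iota_tmul, Algebra.TensorProduct.tmul_mul_tmul, ExteriorAlgebra.ι_sq_zero, TensorProduct.tmul_zero]
  | add x y hx hy =>
    have := iota_mul_add x y
    rw [map_add, add_mul, mul_add, mul_add, hx, hy, zero_add, add_zero, this]

variable (S) in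
/-- The element `1 ⊗ m`. -/
noncomputable def th (m : M) : S ⊗[R] ExteriorAlgebra R M := 1 ⊗ₜ ExteriorAlgebra.ι R m

lemma exists_ι_mul (m : M) (w : ExteriorAlgebra R M) :
    ∃ w' : ExteriorAlgebra R M, ExteriorAlgebra.ι R m * w = w' * ExteriorAlgebra.ι R m := by
  induction w using ExteriorAlgebra.induction with
  | algebraMap r => exact ⟨algebraMap _ _ r, (Algebra.commutes _ _).symm⟩
  | ι x => exact ⟨-ExteriorAlgebra.ι R x, by rw [eq_neg_of_add_eq_zero_left (ι_mul_add m x), neg_mul]⟩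
  | mul a b ha hb =>
    obtain ⟨a', ha⟩ := ha
    obtain ⟨b', hb⟩ := hb
    exact ⟨a' * b', by rw [← mul_assoc, ha, mul_assoc, hb, mul_assoc]⟩
  | add a b ha hb =>
    obtain ⟨a', ha⟩ := ha
    obtain ⟨b', hb⟩ := hb
    exact ⟨a' + b', by rw [mul_add, ha, hb, add_mul]⟩

lemma ι_mul_mul_ι (m : M) (w : ExteriorAlgebra R M) :
    ExteriorAlgebra.ι R m * w * ExteriorAlgebra.ι R m = 0 := by
  obtain ⟨w', h⟩ := exists_ι_mul m w
  rw [h, mul_assoc, ExteriorAlgebra.ι_sq_zero, mul_zero]

lemma th_mul_mul_th (m : M) (w : S ⊗[R] ExteriorAlgebra R M) : th S m * w * th S m = 0 := by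
  induction w using TensorProduct.induction_on with
  | zero => simp
  | add x y hx hy => rw [mul_add, add_mul, hx, hy, add_zero]
  | tmul s e =>
    rw [th, Algebra.TensorProduct.tmul_mul_tmul, Algebra.TensorProduct.tmul_mul_tmul, ι_mul_mul_ι,
      TensorProduct.tmul_zero]

/-- The left annihilator of `th m`. -/
noncomputable def K (S : Type u) [CommRing S] [Algebra R S] (m : M) : Submodule S (S ⊗[R] ExteriorAlgebra R M) :=
  LinearMap.ker (LinearMap.mulRight S (th S m))

lemma mem_K {m : M} {w : S ⊗[R] ExteriorAlgebra R M} : w ∈ K S m ↔ w * th S m = 0 := Iff.rfl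

lemma le_comap (m : M) (e : S ⊗[R] ExteriorAlgebra R M) : K S m ≤ (K S m).comap (LinearMap.mulLeft S e) := by
  intro w hw
  rw [mem_K] at hw
  rw [Submodule.mem_comap, LinearMap.mulLeft_apply, mem_K, mul_assoc, hw, mul_zero]

/-- Left multiplication on `(S ⊗ E(M)) / K`. -/
noncomputable def left (m : M) : S ⊗[R] ExteriorAlgebra R M →ₗ[S] Module.End S ((S ⊗[R] ExteriorAlgebra R M) ⧸ K S m) where
  toFun e := (K S m).mapQ (K S m) (LinearMap.mulLeft S e) (le_comap m e)
  map_add' e e' := by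
    apply LinearMap.ext
    intro x
    obtain ⟨x, rfl⟩ := Submodule.Quotient.mk_surjective _ x
    simp [add_mul]
  map_smul' s e := by
    apply LinearMap.ext
    intro x
    obtain ⟨x, rfl⟩ := Submodule.Quotient.mk_surjective _ x
    simp

lemma left_mk (m : M) (e w : S ⊗[R] ExteriorAlgebra R M) :
    left m e (Submodule.Quotient.mk w) = Submodule.Quotient.mk (e * w) := rfl

lemma left_mul (m : M) (e e' : S ⊗[R] ExteriorAlgebra R M) : left m (e * e') = left m e * left m e' := by
  apply LinearMap.ext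
  intro x
  obtain ⟨x, rfl⟩ := Submodule.Quotient.mk_surjective _ x
  rw [left_mk, Module.End.mul_apply, left_mk, left_mk, mul_assoc]

lemma left_th (m : M) : left (R := R) (S := S) m (th S m) = 0 := by
  apply LinearMap.ext
  intro x
  obtain ⟨x, rfl⟩ := Submodule.Quotient.mk_surjective _ x
  rw [left_mk, LinearMap.zero_apply, Submodule.Quotient.mk_eq_zero, mem_K, th_mul_mul_th]

/-- Right multiplication by `th m`. -/
noncomputable def right (m : M) : ((S ⊗[R] ExteriorAlgebra R M) ⧸ K S m) →ₗ[S] S ⊗[R] ExteriorAlgebra R M :=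
  (K S m).liftQ (LinearMap.mulRight S (th S m)) le_rfl

lemma right_mk (m : M) (w : S ⊗[R] ExteriorAlgebra R M) : right m (Submodule.Quotient.mk w) = w * th S m := rfl

/-- Apply a linear form on `S`. -/
noncomputable def kap (f : S →ₗ[R] R) : S ⊗[R] ExteriorAlgebra R M →ₗ[R] ExteriorAlgebra R M :=
  (TensorProduct.lid R _).toLinearMap ∘ₗ (f.rTensor _)

lemma kap_tmul (f : S →ₗ[R] R) (s : S) (e : ExteriorAlgebra R M) : kap f (s ⊗ₜ e) = f s • e := by
  simp [kap]

end Alg

section Lift

variable (p : ℕ) [Fact p.Prime] (Λ R : Type u) [CommRing Λ] [CommRing R] [Algebra Λ R] [CharP R p] (a : R)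

open KaehlerDifferential

/-- Linear maps out of `Ω[S⁄Λ]`. -/
theorem exists_lift (W : Type u) [AddCommGroup W] [Module (S p R a) W]
    (f : S p R a ⊗[R] Ω[R⁄Λ] →ₗ[S p R a] W) (hf : f (1 ⊗ₜ D Λ R a) = 0) (w : W) :
    ∃ π : Ω[S p R a⁄Λ] →ₗ[S p R a] W, (∀ η : Ω[R⁄Λ], π (KaehlerDifferential.map Λ Λ R (S p R a) η) = f (1 ⊗ₜ η)) ∧
      π (D Λ (S p R a) (AdjoinRoot.root (X ^ p - C a))) = w := by
  let _ : Module R W := Module.compHom W (algebraMap R (S p R a))
  let _ : Module Λ W := Module.compHom W (algebraMap Λ (S p R a))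
  have _ : IsScalarTower R (S p R a) W := ⟨fun r s w => by
    rw [Algebra.smul_def, mul_smul]; rfl⟩
  have _ : IsScalarTower Λ (S p R a) W := ⟨fun r s w => by
    rw [Algebra.smul_def, mul_smul]; rfl⟩
  have _ : IsScalarTower Λ R W := ⟨fun l r w => by
    change algebraMap R (S p R a) (l • r) • w = algebraMap Λ (S p R a) l • (algebraMap R (S p R a) r • w)
    rw [← mul_smul, Algebra.smul_def, map_mul, ← IsScalarTower.algebraMap_apply]⟩
  let g : Ω[R⁄Λ] →ₗ[R] W :=
    { toFun := fun η => f (1 ⊗ₜ η)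
      map_add' := fun x y => by rw [TensorProduct.tmul_add, map_add]
      map_smul' := fun r x => by
        rw [TensorProduct.tmul_smul, ← algebraMap_smul (S p R a) r, map_smul]; rfl }
  obtain ⟨D', h1, h2⟩ := exists_derivation p Λ R a W (g.compDer (D Λ R)) hf w
  refine ⟨D'.liftKaehlerDifferential, fun η => ?_, ?_⟩
  · have hη : η ∈ Submodule.span R (Set.range (D Λ R)) := by
      rw [KaehlerDifferential.span_range_derivation]; trivial
    induction hη using Submodule.span_induction with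
    | mem x hx =>
      obtain ⟨r, rfl⟩ := hx
      rw [KaehlerDifferential.map_D, Derivation.liftKaehlerDifferential_comp_D, h1]
      rfl
    | zero => simp
    | add x y _ _ hx hy => rw [map_add, map_add, hx, hy, TensorProduct.tmul_add, map_add]
    | smul r x _ hx =>
      rw [map_smul, ← algebraMap_smul (S p R a) r, map_smul, hx, TensorProduct.tmul_smul,
        ← algebraMap_smul (S p R a) r, map_smul]
  · rw [Derivation.liftKaehlerDifferential_comp_D, h2]

end Lift

section Gen

open CliffordAlgebra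

/-- Contraction of a product of vectors killed by the linear form. -/
theorem contract_list {S N : Type u} [CommRing S] [AddCommGroup N] [Module S N] (c : N →ₗ[S] S) (l : List N)
    (hl : ∀ x ∈ l, c x = 0) :
    contractRight (Q := (0 : QuadraticForm S N)) ((l.map (ExteriorAlgebra.ι S)).prod) c = 0 := by
  induction l using List.reverseRecOn with
  | nil => simp only [List.map_nil, List.prod_nil]; exact contractRight_one (Q := 0) (d := c)
  | append_singleton l x ih =>
    rw [List.map_append, List.prod_append, List.map_singleton, List.prod_singleton]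
    have h1 : contractRight (Q := (0 : QuadraticForm S N)) ((l.map (ExteriorAlgebra.ι S)).prod *
      ExteriorAlgebra.ι S x) c = _ := contractRight_mul_ι c x _
    rw [h1, ih fun y hy => hl y (List.mem_append_left _ hy), hl x (by simp), zero_smul, zero_mul, sub_zero]

variable {R S : Type u} [CommRing R] [CommRing S] [Algebra R S] {M : Type u} [AddCommGroup M] [Module R M]
  {N : Type u} [AddCommGroup N] [Module S N] (m₀ : M) (mu : M → N) (c : N →ₗ[S] S)
  (π : N →ₗ[S] LinearMap.range (left (R := R) (S := S) m₀ ∘ₗ iota R S M))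

/-- The algebra map `E(N) → End V`. -/
noncomputable def lam : ExteriorAlgebra S N →ₐ[S] Module.End S ((S ⊗[R] ExteriorAlgebra R M) ⧸ K S m₀) :=
  ExteriorAlgebra.lift S ⟨(LinearMap.range (left (R := R) (S := S) m₀ ∘ₗ iota R S M)).subtype ∘ₗ π, by
    intro n
    obtain ⟨z, hz⟩ := (π n).2
    rw [LinearMap.comp_apply, Submodule.subtype_apply, ← hz]
    change left m₀ _ * left m₀ _ = 0
    rw [← left_mul, iota_sq, map_zero]⟩

lemma lam_ι (n : N) : lam m₀ π (ExteriorAlgebra.ι S n) = π n := by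
  rw [lam, ExteriorAlgebra.lift_ι_apply]
  rfl

variable (hπ : ∀ x : M, (π (mu x) : Module.End S ((S ⊗[R] ExteriorAlgebra R M) ⧸ K S m₀)) =
  left m₀ ((1 : S) ⊗ₜ[R] ExteriorAlgebra.ι R x))

include hπ in
lemma lam_list (l : List M) (w : S ⊗[R] ExteriorAlgebra R M) :
    lam m₀ π (((l.map mu).map (ExteriorAlgebra.ι S)).prod) (Submodule.Quotient.mk w) =
      Submodule.Quotient.mk (((1 : S) ⊗ₜ[R] (l.map (ExteriorAlgebra.ι R)).prod) * w) := by
  induction l with
  | nil =>
    simp only [List.map_nil, List.prod_nil, map_one, Module.End.one_apply]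
    congr 1
    exact (one_mul w).symm
  | cons x l ih =>
    rw [List.map_cons, List.map_cons, List.prod_cons, map_mul, Module.End.mul_apply, ih, List.map_cons, List.prod_cons,
      lam_ι, hπ, left_mk, ← mul_assoc, Algebra.TensorProduct.tmul_mul_tmul, one_mul]

/-- The trace on the whole exterior algebra. -/
noncomputable def Tr0 (f : S →ₗ[R] R) : ExteriorAlgebra S N →+ ExteriorAlgebra R M where
  toFun ω := kap f (right m₀ (lam m₀ π (contractRight (Q := (0 : QuadraticForm S N)) ω c)
    (Submodule.Quotient.mk 1)))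
  map_zero' := by simp
  map_add' x y := by simp only [map_add, LinearMap.add_apply]

lemma Tr0_smul (f : S →ₗ[R] R) (r : R) (ω : ExteriorAlgebra S N) :
    Tr0 m₀ c π f (algebraMap R S r • ω) = r • Tr0 m₀ c π f ω := by
  change kap f (right m₀ (lam m₀ π (contractRight (Q := (0 : QuadraticForm S N)) (algebraMap R S r • ω) c)
    (Submodule.Quotient.mk 1))) = r • kap f (right m₀ (lam m₀ π (contractRight (Q := (0 : QuadraticForm S N)) ω c)
    (Submodule.Quotient.mk 1)))
  rw [map_smul, LinearMap.smul_apply, map_smul, LinearMap.smul_apply, map_smul, algebraMap_smul, map_smul]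

include hπ in
lemma Tr0_mul (hc : ∀ x, c (mu x) = 0) (f : S →ₗ[R] R) (l : List M) (n : N) :
    Tr0 m₀ c π f (((l.map mu).map (ExteriorAlgebra.ι S)).prod * ExteriorAlgebra.ι S n) =
      f (c n) • ((l.map (ExteriorAlgebra.ι R)).prod * ExteriorAlgebra.ι R m₀) := by
  change kap f (right m₀ (lam m₀ π (contractRight (Q := (0 : QuadraticForm S N))
    (((l.map mu).map (ExteriorAlgebra.ι S)).prod * ExteriorAlgebra.ι S n) c) (Submodule.Quotient.mk 1))) = _
  have h1 : contractRight (Q := (0 : QuadraticForm S N)) (((l.map mu).map (ExteriorAlgebra.ι S)).prod *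
      ExteriorAlgebra.ι S n) c = _ := contractRight_mul_ι c n _
  rw [h1, contract_list c (l.map mu) (by
    intro x hx
    obtain ⟨y, -, rfl⟩ := List.mem_map.1 hx
    exact hc y), zero_mul, sub_zero, map_smul, LinearMap.smul_apply, lam_list m₀ mu π hπ, map_smul, right_mk, mul_one,
    th, Algebra.TensorProduct.tmul_mul_tmul, one_mul, TensorProduct.smul_tmul', kap_tmul, smul_eq_mul, mul_one]

lemma Tr0_list (hc : ∀ x, c (mu x) = 0) (f : S →ₗ[R] R) (l : List M) (s : S) :
    Tr0 m₀ c π f (s • ((l.map mu).map (ExteriorAlgebra.ι S)).prod) = 0 := by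
  change kap f (right m₀ (lam m₀ π (contractRight (Q := (0 : QuadraticForm S N))
    (s • ((l.map mu).map (ExteriorAlgebra.ι S)).prod) c) (Submodule.Quotient.mk 1))) = _
  rw [map_smul, LinearMap.smul_apply, contract_list c (l.map mu) (by
    intro x hx
    obtain ⟨y, -, rfl⟩ := List.mem_map.1 hx
    exact hc y), smul_zero, map_zero, LinearMap.zero_apply, map_zero, map_zero]

end Gen

section Main

open KaehlerDifferential CliffordAlgebra

lemma coe_ιMulti {A P : Type u} [CommRing A] [AddCommGroup P] [Module A P] (n : ℕ) (v : Fin n → P) :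
    (exteriorPower.ιMulti A n v : ExteriorAlgebra A P) = ((List.ofFn v).map (ExteriorAlgebra.ι A)).prod := by
  rw [exteriorPower.ιMulti_apply_coe, ExteriorAlgebra.ιMulti_apply, List.map_ofFn]
  rfl

lemma coe_ιMulti_snoc {A P : Type u} [CommRing A] [AddCommGroup P] [Module A P] (n : ℕ) (v : Fin n → P) (x : P) :
    (exteriorPower.ιMulti A (n + 1) (Fin.snoc v x : Fin (n + 1) → P) : ExteriorAlgebra A P) =
      ((List.ofFn v).map (ExteriorAlgebra.ι A)).prod * ExteriorAlgebra.ι A x := by
  rw [coe_ιMulti, List.ofFn_succ', List.concat_eq_append, List.map_append, List.prod_append]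
  simp

/-- Projection of the exterior algebra to the `n`-th exterior power. -/
noncomputable def proj (A P : Type u) [CommRing A] [AddCommGroup P] [Module A P] (n : ℕ) :
    ExteriorAlgebra A P →ₗ[A] ⋀[A]^n P :=
  (DirectSum.component A ℕ (fun i => ⋀[A]^i P) n) ∘ₗ
    (DirectSum.decomposeLinearEquiv (fun i : ℕ => ⋀[A]^i P)).toLinearMap

lemma proj_coe {A P : Type u} [CommRing A] [AddCommGroup P] [Module A P] (n : ℕ) (x : ⋀[A]^n P) :
    proj A P n (x : ExteriorAlgebra A P) = x := by
  change (DirectSum.decompose (fun i : ℕ => ⋀[A]^i P) (x : ExteriorAlgebra A P)) n = x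
  rw [DirectSum.decompose_coe, DirectSum.of_eq_same]

variable (p : ℕ) [Fact p.Prime] (Λ R : Type u) [CommRing Λ] [CommRing R] [Algebra Λ R] [CharP R p] (a : R)

omit [CharP R p] in
theorem exists_coeff [Nontrivial R] : ∃ f : S p R a →ₗ[R] R, (∀ i, i + 2 ≤ p → f (AdjoinRoot.root (X ^ p - C a) ^ i) = 0) ∧
    f (AdjoinRoot.root (X ^ p - C a) ^ (p - 1)) = 1 := by
  have hp := (Fact.out : p.Prime)
  have hmon : (X ^ p - C a : R[X]).Monic := monic_X_pow_sub_C a hp.ne_zero
  let pb := AdjoinRoot.powerBasis' hmon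
  have hdim : pb.dim = p := by
    change (X ^ p - C a : R[X]).natDegree = p
    exact natDegree_X_pow_sub_C
  have hlt : p - 1 < pb.dim := by rw [hdim]; exact Nat.sub_lt hp.pos one_pos
  refine ⟨pb.basis.coord ⟨p - 1, hlt⟩, ?_, ?_⟩
  · intro i hi
    have hi' : i < pb.dim := by rw [hdim]; lia
    have h1 : AdjoinRoot.root (X ^ p - C a) ^ i = pb.basis ⟨i, hi'⟩ := by
      rw [PowerBasis.basis_eq_pow]; rfl
    rw [h1, Module.Basis.coord_apply, Module.Basis.repr_self, Finsupp.single_eq_of_ne]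
    intro h
    have := congrArg Fin.val h
    simp only at this
    lia
  · have h1 : AdjoinRoot.root (X ^ p - C a) ^ (p - 1) = pb.basis ⟨p - 1, hlt⟩ := by
      rw [PowerBasis.basis_eq_pow]; rfl
    rw [h1, Module.Basis.coord_apply, Module.Basis.repr_self, Finsupp.single_eq_same]

theorem main_abs (p : ℕ) (Λ R S : Type u) [CommRing Λ] [CommRing R] [CommRing S] [Algebra Λ R] [Algebra R S] [Algebra Λ S]
    [IsScalarTower Λ R S] (a : R) (x : S) (f : S →ₗ[R] R) (hf1 : ∀ i, i + 2 ≤ p → f (x ^ i) = 0) (hf2 : f (x ^ (p - 1)) = 1)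
    (c : Ω[S⁄Λ] →ₗ[S] S) (hc1 : ∀ η : Ω[R⁄Λ], c (KaehlerDifferential.map Λ Λ R S η) = 0) (hc2 : c (D Λ S x) = 1)
    (π : Ω[S⁄Λ] →ₗ[S] LinearMap.range (left (R := R) (S := S) (D Λ R a) ∘ₗ iota R S (Ω[R⁄Λ])))
    (hπ : ∀ η : Ω[R⁄Λ], (π (KaehlerDifferential.map Λ Λ R S η) : Module.End S _) =
      left (D Λ R a) ((1 : S) ⊗ₜ[R] ExteriorAlgebra.ι R η)) (t : ℕ) :
    ∃ Tr : (⋀[S]^(t + 1) (Ω[S⁄Λ])) →+ (⋀[R]^(t + 1) (Ω[R⁄Λ])),
      (∀ (r : R) (ω : ⋀[S]^(t + 1) (Ω[S⁄Λ])), Tr (algebraMap R S r • ω) = r • Tr ω) ∧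
      (∀ (η : Fin t → Ω[R⁄Λ]) (i : ℕ), i + 2 ≤ p →
        Tr (exteriorPower.ιMulti _ (t + 1) (Fin.snoc (fun j => KaehlerDifferential.map Λ Λ R S (η j))
          (x ^ i • KaehlerDifferential.D Λ _ x))) = 0) ∧
      (∀ (η : Fin t → Ω[R⁄Λ]),
        Tr (exteriorPower.ιMulti _ (t + 1) (Fin.snoc (fun j => KaehlerDifferential.map Λ Λ R S (η j))
          (x ^ (p - 1) • KaehlerDifferential.D Λ _ x))) =
          exteriorPower.ιMulti R (t + 1) (Fin.snoc η (KaehlerDifferential.D Λ R a))) ∧
      (∀ (s : S) (η : Fin (t + 1) → Ω[R⁄Λ]),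
        Tr (s • exteriorPower.ιMulti _ (t + 1) (fun j => KaehlerDifferential.map Λ Λ R S (η j))) = 0) := by
  obtain ⟨Tr, hTr⟩ : ∃ Tr : (⋀[S]^(t + 1) (Ω[S⁄Λ])) →+ (⋀[R]^(t + 1) (Ω[R⁄Λ])),
      ∀ ω, Tr ω = proj R (Ω[R⁄Λ]) (t + 1) (Tr0 (D Λ R a) c π f (ω : ExteriorAlgebra _ _)) :=
    ⟨(proj R (Ω[R⁄Λ]) (t + 1)).toAddMonoidHom.comp ((Tr0 (D Λ R a) c π f).comp
    (⋀[S]^(t + 1) (Ω[S⁄Λ])).subtype.toAddMonoidHom), fun _ => rfl⟩
  have hmap : ∀ (n : ℕ) (η : Fin n → Ω[R⁄Λ]), List.ofFn (fun j => KaehlerDifferential.map Λ Λ R S (η j)) =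
      (List.ofFn η).map (KaehlerDifferential.map Λ Λ R S) := by
    intro n η
    rw [List.map_ofFn]; rfl
  have hsnoc : ∀ (η : Fin t → Ω[R⁄Λ]) (i : ℕ), Tr
      (exteriorPower.ιMulti _ (t + 1) (Fin.snoc (fun j => KaehlerDifferential.map Λ Λ R S (η j))
          (x ^ i • KaehlerDifferential.D Λ _ x))) =
      f (x ^ i) • exteriorPower.ιMulti R (t + 1) (Fin.snoc η (KaehlerDifferential.D Λ R a)) := by
    intro η i
    rw [hTr, coe_ιMulti_snoc, hmap, Tr0_mul (D Λ R a) (KaehlerDifferential.map Λ Λ R S) c π hπ hc1 f, map_smul c,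
      hc2, smul_eq_mul, mul_one, map_smul]
    congr 1
    rw [← coe_ιMulti_snoc, proj_coe]
  refine ⟨Tr, ?_, ?_, ?_, ?_⟩
  · intro r ω
    rw [hTr (algebraMap R S r • ω), hTr ω, Submodule.coe_smul, Tr0_smul, map_smul]
  · intro η i hi
    rw [hsnoc, hf1 i hi, zero_smul]
  · intro η
    rw [hsnoc, hf2, one_smul]
  · intro s η
    rw [hTr, Submodule.coe_smul, coe_ιMulti, hmap, Tr0_list (D Λ R a) (KaehlerDifferential.map Λ Λ R S) c π hc1 f, map_zero]

theorem exists_pi : ∃ (π : Ω[S p R a⁄Λ] →ₗ[S p R a] LinearMap.range (left (R := R) (S := S p R a) (D Λ R a) ∘ₗ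
      iota R (S p R a) (Ω[R⁄Λ]))),
    ∀ η : Ω[R⁄Λ], (π (KaehlerDifferential.map Λ Λ R (S p R a) η) : Module.End (S p R a) _) =
      left (D Λ R a) ((1 : S p R a) ⊗ₜ[R] ExteriorAlgebra.ι R η) := by
  obtain ⟨π, hπ1, -⟩ := exists_lift p Λ R a
    (LinearMap.range (left (R := R) (S := S p R a) (D Λ R a) ∘ₗ iota R (S p R a) (Ω[R⁄Λ])))
    (left (R := R) (S := S p R a) (D Λ R a) ∘ₗ iota R (S p R a) (Ω[R⁄Λ])).rangeRestrict (by
    apply Subtype.ext
    exact left_th (D Λ R a)) 0
  refine ⟨π, fun η => ?_⟩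
  rw [hπ1]
  rfl

end Main

end K375.TracePth
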